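import Cfsg.Agent.H39.InvolTor
import Cfsg.Agent.H39.Dickson

/-!
The orders of the centralisers of elements of `PSL_2(q)`.
-/

set_option autoImplicit false
set_option linter.style.haveILetI false

namespace H41

open H39

variable {F : Type*} [Field F] [Fintype F] (p : ℕ) [Fact p.Prime] [CharP F p]

local notation "G2" => Matrix.ProjectiveSpecialLinearGroup (Fin 2) F
local notation "dq" => Nat.gcd 2 (Fintype.card F - 1)

include p

lemma card_tor_of_pow_char {x : G2} (hx : x ≠ 1) (hxp : x ^ p = 1) : Nat.card (tor x) = Fintype.card F := by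
  obtain ⟨P, hP⟩ := exists_sylow_transl (F := F) p
  have hpg : IsPGroup p (Subgroup.zpowers x) := by
    rintro ⟨y, k, rfl⟩
    refine ⟨1, Subtype.ext ?_⟩
    change (x ^ k) ^ p ^ 1 = 1
    rw [pow_one, ← zpow_natCast, ← zpow_mul, mul_comm, zpow_mul, zpow_natCast, hxp, one_zpow]
  obtain ⟨Q, hQ⟩ := hpg.exists_le_sylow
  obtain ⟨g, hg⟩ := MulAction.exists_smul_eq (Matrix.ProjectiveSpecialLinearGroup (Fin 2) F) P Q
  have hxQ := hQ (Subgroup.mem_zpowers x)
  rw [← hg, Sylow.coe_subgroup_smul, Subgroup.mem_pointwise_smul_iff_inv_smul_mem] at hxQ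
  obtain ⟨t, ht⟩ := (hP _).1 hxQ
  have hxt : x = g * transl t * g⁻¹ := by
    rw [← ht]
    simp [MulAut.smul_def, mul_assoc]
  have ht0 : t ≠ 0 := by
    rintro rfl
    apply hx
    rw [hxt, transl_zero]
    group
  rw [hxt, tor_conj, Nat.card_congr
    (Subgroup.equivMapOfInjective (tor (transl t)) _ (MulEquiv.injective (MulAut.conj g))).symm.toEquiv]
  rw [show tor (transl t) = tor (transl (1 : F)) by ext y; rw [tor_transl ht0, tor_transl one_ne_zero]]
  exact card_tor_transl

omit [Fintype F] p in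
lemma tor_le_centralizer {x : G2} (hx : x ≠ 1) : tor x ≤ Subgroup.centralizer ({x} : Set G2) := fun y hy => by
  rw [Subgroup.mem_centralizer_singleton_iff]
  exact (tor_comm hx hy (self_mem_tor x)).eq

lemma centralizer_pow_char {x : G2} (hx : x ≠ 1) (hxp : x ^ p = 1) :
    Nat.card (Subgroup.centralizer ({x} : Set G2)) = Fintype.card F := by
  rw [← card_tor_of_pow_char p hx hxp, show Subgroup.centralizer ({x} : Set G2) = tor x from
    le_antisymm (fun y hy => mem_tor_of_commute p hxp (Subgroup.mem_centralizer_singleton_iff.1 hy))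
      (tor_le_centralizer hx)]

lemma centralizer_ss {y : G2} (hy : y ^ p ≠ 1) (hy2 : y ^ 2 ≠ 1) :
    Subgroup.centralizer ({y} : Set G2) = tor y := by
  have hy1 : y ≠ 1 := fun h => hy (by rw [h, one_pow])
  refine le_antisymm (fun g hg => ?_) (tor_le_centralizer hy1)
  rw [Subgroup.mem_centralizer_singleton_iff] at hg
  have hconj : g * y * g⁻¹ = y := by rw [hg, mul_inv_cancel_right]
  have hN : g ∈ Subgroup.normalizer (tor y : Set G2) := by
    rw [Subgroup.mem_normalizer_iff]
    intro z
    have h := tor_conj g y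
    rw [hconj] at h
    constructor
    · intro hz
      rw [h]
      exact ⟨z, hz, rfl⟩
    · intro hz
      rw [h] at hz
      obtain ⟨w, hw, he⟩ := hz
      rwa [show z = w from (MulEquiv.injective (MulAut.conj g) (he : MulAut.conj g w = MulAut.conj g z)).symm]
  by_contra hgT
  have h := (normalizer_outside p hy hN hgT).2.2 y (self_mem_tor y)
  rw [hconj] at h
  exact hy2 (by rw [pow_two]; nth_rw 2 [h]; exact mul_inv_cancel y)

lemma index_of_card_centralizer {x : G2} {c k : ℕ} (hc : Nat.card (Subgroup.centralizer ({x} : Set G2)) = c)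
    (hk : Nat.card G2 = c * k) (hc0 : 0 < c) : (Subgroup.centralizer ({x} : Set G2)).index = k := by
  have h := (Subgroup.centralizer ({x} : Set G2)).card_mul_index
  rw [hc, hk] at h
  exact Nat.eq_of_mul_eq_mul_left hc0 h

/-- The possible orders of centralisers. -/
theorem centralizer_cases (x : G2) : x = 1 ∨
    Nat.card (Subgroup.centralizer ({x} : Set G2)) = Fintype.card F ∨
    Nat.card (Subgroup.centralizer ({x} : Set G2)) = (Fintype.card F + 1) / dq ∨
    Nat.card (Subgroup.centralizer ({x} : Set G2)) = (Fintype.card F - 1) / dq ∨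
    (orderOf x = 2 ∧ x ^ p ≠ 1) := by
  by_cases hx : x = 1
  · exact Or.inl hx
  refine Or.inr ?_
  by_cases hxp : x ^ p = 1
  · exact Or.inl (centralizer_pow_char p hx hxp)
  by_cases h2 : x ^ 2 = 1
  · exact Or.inr (Or.inr (Or.inr ⟨orderOf_eq_prime h2 hx, hxp⟩))
  rw [centralizer_ss p hxp h2]
  rcases (tor_trichotomy p hxp).1 with h | h
  · exact Or.inr (Or.inl h)
  · exact Or.inr (Or.inr (Or.inl h))

/-- An element whose centraliser has the given torus order, provided that order exceeds two. -/
theorem exists_centralizer_tor {m : ℕ} (hm : m = (Fintype.card F + 1) / dq ∨ m = (Fintype.card F - 1) / dq)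
    (hm2 : 2 < m) : ∃ x : G2, Nat.card (Subgroup.centralizer ({x} : Set G2)) = m := by
  obtain ⟨x, hx⟩ : ∃ x : G2, orderOf x = m := by
    rcases hm with rfl | rfl
    · exact exists_orderOf_plus
    · exact exists_orderOf_minus
  have hx1 : x ≠ 1 := fun h => by rw [h, orderOf_one] at hx; omega
  obtain ⟨hxp, hT⟩ := card_tor_of_orderOf p hx1 (hx.symm ▸ hm)
  refine ⟨x, ?_⟩
  rw [centralizer_ss p hxp ?_, hT, hx]
  intro h
  have := Nat.le_of_dvd two_pos (orderOf_dvd_of_pow_eq_one h)
  omega

theorem exists_centralizer_card_field : ∃ x : G2, Nat.card (Subgroup.centralizer ({x} : Set G2)) = Fintype.card F := by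
  have hd : p ∣ Nat.card G2 := by
    obtain ⟨n, _, hn⟩ := FiniteField.card F p
    rw [card_G2_eq, mul_assoc]
    exact Dvd.dvd.mul_right (hn ▸ dvd_pow_self p n.ne_zero) _
  obtain ⟨x, hx⟩ := exists_prime_orderOf_dvd_card' p hd
  refine ⟨x, centralizer_pow_char p (fun h => ?_) (hx ▸ pow_orderOf_eq_one x)⟩
  rw [h, orderOf_one] at hx
  exact (Fact.out : p.Prime).ne_one hx.symm

end H41
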