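import Mathlib

/-! Elementary divisors: classification of endomorphisms up to similarity. -/

set_option autoImplicit false

open Polynomial

namespace H41

variable {F : Type*} [Field F]

/-- Two endomorphisms intertwined by a linear equivalence. -/
def Similar {V W : Type*} [AddCommGroup V] [Module F V] [AddCommGroup W] [Module F W]
    (T : Module.End F V) (S : Module.End F W) : Prop :=
  ∃ e : V ≃ₗ[F] W, ∀ v, e (T v) = S (e v)

namespace Similar

variable {V W U : Type*} [AddCommGroup V] [Module F V] [AddCommGroup W] [Module F W]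
  [AddCommGroup U] [Module F U]

lemma refl (T : Module.End F V) : Similar T T := ⟨LinearEquiv.refl F V, fun _ => rfl⟩

lemma symm {T : Module.End F V} {S : Module.End F W} (h : Similar T S) : Similar S T := by
  obtain ⟨e, he⟩ := h
  refine ⟨e.symm, fun w => ?_⟩
  apply e.injective
  rw [he]; simp

lemma trans {T : Module.End F V} {S : Module.End F W} {R : Module.End F U}
    (h : Similar T S) (h' : Similar S R) : Similar T R := by
  obtain ⟨e, he⟩ := h
  obtain ⟨f, hf⟩ := h'
  exact ⟨e.trans f, fun v => by simp [he, hf]⟩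

lemma aeval_apply {T : Module.End F V} {S : Module.End F W} {e : V ≃ₗ[F] W}
    (he : ∀ v, e (T v) = S (e v)) (g : F[X]) (v : V) :
    e (Polynomial.aeval T g v) = Polynomial.aeval S g (e v) := by
  induction g using Polynomial.induction_on' with
  | add p q hp hq => simp [map_add, hp, hq]
  | monomial k a =>
    have hk : ∀ u, e ((T ^ k) u) = (S ^ k) (e u) := by
      intro u
      induction k generalizing u with
      | zero => simp
      | succ k ih => rw [pow_succ, pow_succ, Module.End.mul_apply, Module.End.mul_apply, ih, he]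
    simp [aeval_monomial, Module.End.mul_apply, hk, Module.algebraMap_end_apply]

lemma finrank_ker_aeval {T : Module.End F V} {S : Module.End F W} (h : Similar T S) (g : F[X]) :
    Module.finrank F (LinearMap.ker (Polynomial.aeval T g)) =
      Module.finrank F (LinearMap.ker (Polynomial.aeval S g)) := by
  obtain ⟨e, he⟩ := h
  refine LinearEquiv.finrank_eq (e.ofSubmodules _ _ ?_)
  ext w
  simp only [Submodule.mem_map_equiv, LinearMap.mem_ker]
  rw [← e.map_eq_zero_iff, aeval_apply he, e.apply_symm_apply]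

lemma aeval_eq_zero_iff {T : Module.End F V} {S : Module.End F W} (h : Similar T S) (g : F[X]) :
    Polynomial.aeval T g = 0 ↔ Polynomial.aeval S g = 0 := by
  obtain ⟨e, he⟩ := h
  constructor
  · intro h0
    refine LinearMap.ext fun w => ?_
    rw [← e.apply_symm_apply w, ← aeval_apply he, h0]
    simp
  · intro h0
    refine LinearMap.ext fun v => e.injective ?_
    rw [aeval_apply he, h0]
    simp

lemma det_eq {T : Module.End F V} {S : Module.End F W} (h : Similar T S) :
    LinearMap.det T = LinearMap.det S := by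
  obtain ⟨e, he⟩ := h
  rw [show S = (e : V →ₗ[F] W) ∘ₗ T ∘ₗ (e.symm : W →ₗ[F] V) from
    LinearMap.ext fun w => by simp [he], LinearMap.det_conj]

end Similar

section Model

variable {ι : Type*} (f : ι → F[X])

/-- Block companion: multiplication by `X` on `Π i, F[X]/(f i)`. -/
noncomputable def modelEnd : Module.End F (Π i, AdjoinRoot (f i)) :=
  LinearMap.pi fun i => (LinearMap.mulLeft F (AdjoinRoot.root (f i))).comp (LinearMap.proj i)

lemma modelEnd_apply (v : Π i, AdjoinRoot (f i)) (i : ι) :
    modelEnd f v i = AdjoinRoot.root (f i) * v i := rfl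

lemma aeval_modelEnd_apply (g : F[X]) (v : Π i, AdjoinRoot (f i)) (i : ι) :
    Polynomial.aeval (modelEnd f) g v i = AdjoinRoot.mk (f i) g * v i := by
  induction g using Polynomial.induction_on' with
  | add p q hp hq => simp [map_add, hp, hq, add_mul]
  | monomial k a =>
    have hk : ∀ u : Π i, AdjoinRoot (f i),
        ((modelEnd f) ^ k) u i = AdjoinRoot.root (f i) ^ k * u i := by
      intro u
      induction k generalizing u with
      | zero => simp
      | succ k ih => rw [pow_succ, Module.End.mul_apply, ih, modelEnd_apply, ← mul_assoc, pow_succ]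
    rw [aeval_monomial, Module.End.mul_apply, Module.algebraMap_end_apply, Pi.smul_apply, hk,
      ← C_mul_X_pow_eq_monomial, map_mul, map_pow, AdjoinRoot.mk_X, AdjoinRoot.mk_C,
      Algebra.smul_def, mul_assoc]
    rfl

lemma aeval_modelEnd_eq_zero_iff (g : F[X]) :
    Polynomial.aeval (modelEnd f) g = 0 ↔ ∀ i, f i ∣ g := by
  classical
  constructor
  · intro h i
    have := congrFun (LinearMap.congr_fun h (Pi.single i 1)) i
    rw [aeval_modelEnd_apply] at this
    simpa using AdjoinRoot.mk_eq_zero.mp (by simpa using this)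
  · intro h
    refine LinearMap.ext fun v => funext fun i => ?_
    rw [aeval_modelEnd_apply, AdjoinRoot.mk_eq_zero.mpr (h i)]
    simp

lemma similar_reindex {κ : Type*} [DecidableEq ι] (g : κ → F[X]) (σ : κ → ι)
    (hσ : Function.Bijective σ) (h : ∀ k, f (σ k) = g k) : Similar (modelEnd f) (modelEnd g) := by
  obtain rfl : g = fun k => f (σ k) := funext fun k => (h k).symm
  refine ⟨(LinearEquiv.piCongrLeft F (fun i => AdjoinRoot (f i)) (Equiv.ofBijective σ hσ)).symm, ?_⟩
  intro v
  funext k
  rfl

lemma similar_of_forall_eq {g : ι → F[X]} (h : ∀ i, f i = g i) :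
    Similar (modelEnd f) (modelEnd g) := by
  obtain rfl : f = g := funext h
  exact Similar.refl _

lemma similar_of_sameMultiset {κ : Type*} [Fintype ι] [Fintype κ] (g : κ → F[X])
    (h : Finset.univ.val.map f = Finset.univ.val.map g) : Similar (modelEnd f) (modelEnd g) := by
  classical
  have hc : ∀ a, Fintype.card {i // f i = a} = Fintype.card {k // g k = a} := by
    intro a
    have := congrArg (Multiset.count a) h
    rw [Multiset.count_map, Multiset.count_map] at this
    simp only [eq_comm (a := a)] at this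
    rw [Fintype.card_subtype, Fintype.card_subtype]
    simpa [Finset.card_def] using this
  let σ : κ ≃ ι := Equiv.ofFiberEquiv (f := g) (g := f) fun a =>
    (Fintype.card_eq.mp (hc a)).some.symm
  refine similar_reindex f g σ σ.bijective ?_
  intro k
  exact Equiv.ofFiberEquiv_map _ k

lemma similar_restrict (P : ι → Prop) [DecidablePred P] (h : ∀ i, ¬ P i → f i = 1) :
    Similar (modelEnd f) (modelEnd fun i : {i // P i} => f i) := by
  have hs : ∀ i, ¬ P i → Subsingleton (AdjoinRoot (f i)) := fun i hi => by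
    rw [h i hi]
    exact Ideal.Quotient.subsingleton_iff.mpr (Ideal.span_singleton_one)
  let L : (Π i, AdjoinRoot (f i)) →ₗ[F] Π i : {i // P i}, AdjoinRoot (f i) :=
    LinearMap.pi fun i => LinearMap.proj i.1
  have hL : Function.Bijective L := by
    constructor
    · intro a b hab
      funext i
      by_cases hi : P i
      · exact congrFun hab ⟨i, hi⟩
      · exact @Subsingleton.elim _ (hs i hi) _ _
    · intro b
      refine ⟨fun i => if hi : P i then b ⟨i, hi⟩ else 0, ?_⟩
      funext i
      simp [L, i.2]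
  exact ⟨LinearEquiv.ofBijective L hL, fun v => rfl⟩

lemma finrank_adjoinRoot {g : F[X]} (hg : g ≠ 0) :
    Module.finrank F (AdjoinRoot g) = g.natDegree := by
  rw [(AdjoinRoot.powerBasis hg).finrank, AdjoinRoot.powerBasis_dim]

lemma finrank_modelSpace [Fintype ι] (hf : ∀ i, f i ≠ 0) :
    Module.finrank F (Π i, AdjoinRoot (f i)) = ∑ i, (f i).natDegree := by
  haveI : ∀ i, Module.Finite F (AdjoinRoot (f i)) := fun i => (AdjoinRoot.powerBasis (hf i)).finite
  rw [Module.finrank_pi_fintype]
  exact Finset.sum_congr rfl fun i _ => finrank_adjoinRoot (hf i)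

lemma finrank_ker_mulLeft {g h c : F[X]} (hg : g = h * c) (h0 : h ≠ 0) (c0 : c ≠ 0) :
    Module.finrank F (LinearMap.ker (LinearMap.mulLeft F (AdjoinRoot.mk g h))) = h.natDegree := by
  have hrange : LinearMap.ker (LinearMap.mulLeft F (AdjoinRoot.mk g h)) =
      LinearMap.range (((AdjoinRoot.mkₐ g).toLinearMap.comp (LinearMap.mulLeft F c)).comp
        (Polynomial.degreeLT F h.natDegree).subtype) := by
    ext y
    constructor
    · intro hy
      obtain ⟨P, rfl⟩ := AdjoinRoot.mk_surjective y
      have h1 : AdjoinRoot.mk g (h * P) = 0 := by rw [map_mul]; exact hy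
      rw [AdjoinRoot.mk_eq_zero, hg] at h1
      obtain ⟨Q, rfl⟩ := (mul_dvd_mul_iff_left h0).mp h1
      refine ⟨⟨Q % h, ?_⟩, ?_⟩
      · rw [Polynomial.mem_degreeLT, ← Polynomial.degree_eq_natDegree h0]
        exact EuclideanDomain.mod_lt Q h0
      · show AdjoinRoot.mk g (c * (Q % h)) = AdjoinRoot.mk g (c * Q)
        rw [AdjoinRoot.mk_eq_mk, hg]
        refine ⟨-(Q / h), ?_⟩
        linear_combination c * EuclideanDomain.div_add_mod Q h
    · rintro ⟨⟨P, hP⟩, rfl⟩
      show AdjoinRoot.mk g h * AdjoinRoot.mk g (c * P) = 0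
      rw [← map_mul, AdjoinRoot.mk_eq_zero, hg]
      exact ⟨P, by ring⟩
  rw [hrange, LinearMap.finrank_range_of_inj]
  · rw [(Polynomial.degreeLTEquiv F h.natDegree).finrank_eq, Module.finrank_fin_fun]
  · rw [injective_iff_map_eq_zero]
    rintro ⟨P, hP⟩ hP0
    have h1 : g ∣ c * P := AdjoinRoot.mk_eq_zero.mp hP0
    rw [hg, mul_comm h c] at h1
    have h2 := (mul_dvd_mul_iff_left c0).mp h1
    apply Subtype.ext
    show P = 0
    by_contra hne
    have h3 := Polynomial.natDegree_le_of_dvd h2 hne
    rw [Polynomial.mem_degreeLT, Polynomial.degree_eq_natDegree hne] at hP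
    norm_cast at hP
    omega

lemma finrank_ker_mulLeft_pow {p p' : F[X]} (hp : p.Monic) (hip : Irreducible p) (hp' : p'.Monic)
    (hip' : Irreducible p') (e k : ℕ) [Decidable (p' = p)] :
    Module.finrank F (LinearMap.ker (LinearMap.mulLeft F (AdjoinRoot.mk (p' ^ e) (p ^ k)))) =
      if p' = p then min k e * p.natDegree else 0 := by
  split_ifs with h
  · subst h
    rcases le_total k e with hk | hk
    · rw [min_eq_left hk, finrank_ker_mulLeft (c := p' ^ (e - k))
        (by rw [← pow_add, Nat.add_sub_cancel' hk]) (pow_ne_zero _ hp'.ne_zero)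
        (pow_ne_zero _ hp'.ne_zero), hp'.natDegree_pow]
    · rw [min_eq_right hk, AdjoinRoot.mk_eq_zero.mpr (pow_dvd_pow p' hk),
        show LinearMap.mulLeft F (0 : AdjoinRoot (p' ^ e)) = 0 from LinearMap.ext fun x => zero_mul x,
        LinearMap.ker_zero, finrank_top, finrank_adjoinRoot (pow_ne_zero _ hp'.ne_zero),
        hp'.natDegree_pow]
  · have hcop : IsCoprime (p' ^ e) (p ^ k) := by
      refine ((hip'.coprime_iff_not_dvd).mpr fun hd => h ?_).pow
      exact Polynomial.eq_of_monic_of_associated hp' hp (hip'.associated_of_dvd hip hd)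
    obtain ⟨u, v, huv⟩ := hcop
    have hu : IsUnit (AdjoinRoot.mk (p' ^ e) (p ^ k)) := by
      refine IsUnit.of_mul_eq_one_right (AdjoinRoot.mk (p' ^ e) v) ?_
      have := congrArg (AdjoinRoot.mk (p' ^ e)) huv
      simpa [map_add, map_mul] using this
    rw [LinearMap.ker_eq_bot.mpr hu.mul_right_injective, finrank_bot]

lemma finrank_ker_aeval_modelEnd [Fintype ι] (hf : ∀ i, f i ≠ 0) (g : F[X]) :
    Module.finrank F (LinearMap.ker (Polynomial.aeval (modelEnd f) g)) =
      ∑ i, Module.finrank F (LinearMap.ker (LinearMap.mulLeft F (AdjoinRoot.mk (f i) g))) := by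
  haveI : ∀ i, Module.Finite F (AdjoinRoot (f i)) := fun i => (AdjoinRoot.powerBasis (hf i)).finite
  rw [← Module.finrank_pi_fintype]
  refine LinearEquiv.finrank_eq
    { toFun := fun v i => ⟨v.1 i, by
        have := congrFun (LinearMap.mem_ker.mp v.2) i
        rw [aeval_modelEnd_apply] at this
        exact this⟩
      invFun := fun w => ⟨fun i => (w i).1, by
        rw [LinearMap.mem_ker]
        funext i
        rw [aeval_modelEnd_apply]
        exact (w i).2⟩
      map_add' := fun _ _ => rfl
      map_smul' := fun _ _ => rfl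
      left_inv := fun _ => rfl
      right_inv := fun _ => rfl }

lemma det_blockDiagonal_sigma {R : Type*} [CommRing R] [Fintype ι] [DecidableEq ι]
    {n : ι → Type*} [∀ i, Fintype (n i)] [∀ i, DecidableEq (n i)]
    (M : Π i, Matrix (n i) (n i) R) : (Matrix.blockDiagonal' M).det = ∏ i, (M i).det := by
  let e := Fintype.equivFin ι
  have hb : (Matrix.blockDiagonal' M).BlockTriangular (fun x => e x.1) := by
    rintro ⟨i, a⟩ ⟨j, c⟩ h
    exact Matrix.blockDiagonal'_apply_ne _ _ _ (fun hij => by subst hij; exact lt_irrefl _ h)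
  rw [hb.det_fintype]
  refine (Fintype.prod_equiv e _ _ fun i => ?_).symm
  let τ : n i ≃ {x : Σ i, n i // e x.1 = e i} :=
    { toFun := fun a => ⟨⟨i, a⟩, rfl⟩
      invFun := fun x => e.injective x.2 ▸ x.1.2
      left_inv := fun a => rfl
      right_inv := by
        rintro ⟨⟨j, a⟩, hj⟩
        obtain rfl : j = i := e.injective hj
        rfl }
  rw [← Matrix.det_submatrix_equiv_self τ ((Matrix.blockDiagonal' M).toSquareBlock _ (e i))]
  congr 1
  ext a c
  exact (Matrix.blockDiagonal'_apply_eq M i a c).symm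

lemma det_modelEnd [Fintype ι] (hf : ∀ i, (f i).Monic) :
    LinearMap.det (modelEnd f) = ∏ i, (-1) ^ (f i).natDegree * (f i).coeff 0 := by
  classical
  haveI : ∀ i, Module.Finite F (AdjoinRoot (f i)) := fun i =>
    (AdjoinRoot.powerBasis (hf i).ne_zero).finite
  let b := Pi.basis fun i => (AdjoinRoot.powerBasis (hf i).ne_zero).basis
  rw [← LinearMap.det_toMatrix b]
  have : LinearMap.toMatrix b b (modelEnd f) = Matrix.blockDiagonal' fun i =>
      Algebra.leftMulMatrix (AdjoinRoot.powerBasis (hf i).ne_zero).basis (AdjoinRoot.root (f i)) := by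
    ext ⟨i, a⟩ ⟨j, c⟩
    rw [LinearMap.toMatrix_apply, Pi.basis_repr, Pi.basis_apply, modelEnd_apply]
    by_cases hij : i = j
    · subst hij
      rw [Matrix.blockDiagonal'_apply_eq, Pi.single_eq_same, Algebra.leftMulMatrix_eq_repr_mul]
    · rw [Matrix.blockDiagonal'_apply_ne _ _ _ hij, Pi.single_eq_of_ne hij, mul_zero, map_zero]
      rfl
  rw [this, det_blockDiagonal_sigma]
  refine Finset.prod_congr rfl fun i _ => ?_
  rw [← Algebra.norm_eq_matrix_det, ← AdjoinRoot.powerBasis_gen (hf i).ne_zero,
    Algebra.PowerBasis.norm_gen_eq_coeff_zero_minpoly, AdjoinRoot.minpoly_powerBasis_gen_of_monic (hf i),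
    AdjoinRoot.powerBasis_dim]

end Model

theorem exists_model {V : Type*} [AddCommGroup V] [Module F V] [FiniteDimensional F V]
    (T : Module.End F V) :
    ∃ (N : ℕ) (p : Fin N → F[X]) (e : Fin N → ℕ),
      (∀ i, (p i).Monic ∧ Irreducible (p i) ∧ 0 < e i) ∧
      Similar T (modelEnd fun i => p i ^ e i) := by
  classical
  haveI : Module.Finite F[X] (Module.AEval' T) := inferInstance
  have htor : Module.IsTorsion F[X] (Module.AEval' T) :=
    Module.AEval.isTorsion_of_finiteDimensional F V T
  obtain ⟨ι, hι, p₀, hp₀, e₀, ⟨φ⟩⟩ := Module.equiv_directSum_of_isTorsion htor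
  let p : ι → F[X] := fun i => normalize (p₀ i)
  have hspan : ∀ i, F[X] ∙ p₀ i ^ e₀ i = Ideal.span {p i ^ e₀ i} := fun i => by
    rw [Ideal.submodule_span_eq, Ideal.span_singleton_eq_span_singleton]
    exact (normalize_associated (p₀ i)).symm.pow_pow
  let ψ : Module.AEval' T ≃ₗ[F[X]] Π i, F[X] ⧸ Ideal.span {p i ^ e₀ i} := (φ.trans (DirectSum.linearEquivFunOnFintype F[X] ι _)).trans
    (LinearEquiv.piCongrRight fun i => Submodule.quotEquivOfEq _ _ (hspan i))
  have h1 : Similar T (modelEnd fun i => p i ^ e₀ i) := by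
    let ψ' : V ≃ₗ[F] Π i, AdjoinRoot (p i ^ e₀ i) :=
      (Module.AEval'.of T).trans (ψ.restrictScalars F)
    refine ⟨ψ', fun v => ?_⟩
    funext i
    have h := congrFun (map_smul ψ (X : F[X]) (Module.AEval'.of T v)) i
    rw [Module.AEval'.X_smul_of] at h
    refine h.trans ?_
    obtain ⟨P, hP⟩ := Ideal.Quotient.mk_surjective (ψ (Module.AEval'.of T v) i)
    show (X : F[X]) • ψ (Module.AEval'.of T v) i =
      (Ideal.Quotient.mk (Ideal.span {p i ^ e₀ i}) (X : F[X])) * ψ (Module.AEval'.of T v) i
    rw [← hP]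
    rfl
  have hmon : ∀ i, (p i).Monic := fun i => Polynomial.monic_normalize (hp₀ i).ne_zero
  have hirr : ∀ i, Irreducible (p i) := fun i =>
    (normalize_associated (p₀ i)).symm.irreducible (hp₀ i)
  have h2 : Similar (modelEnd fun i => p i ^ e₀ i)
      (modelEnd fun i : {i // 0 < e₀ i} => p i ^ e₀ i) := similar_restrict (fun i => p i ^ e₀ i) (fun i => 0 < e₀ i) (fun i hi => by
    rw [Nat.eq_zero_of_not_pos hi, pow_zero])
  let σ := (Fintype.equivFin {i // 0 < e₀ i}).symm
  exact ⟨_, fun k => p (σ k).1, fun k => e₀ (σ k).1, fun k => ⟨hmon _, hirr _, (σ k).2⟩,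
    h1.trans (h2.trans (similar_reindex (fun i : {i // 0 < e₀ i} => p i ^ e₀ i) _ σ σ.bijective fun k => rfl))⟩

end H41
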