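import Mathlib
import Cfsg.Agent.H41.ElemDiv

/-! Conjugacy classes of `GL n F` and elementary divisor multisets. -/

set_option autoImplicit false

open Polynomial

namespace H41

variable {F : Type*} [Field F]

/-- Elementary divisor data of an invertible endomorphism of an `n`-dimensional space. -/
def IsEDiv (n : ℕ) (s : Multiset (F[X] × ℕ)) : Prop :=
  (∀ x ∈ s, x.1.Monic ∧ Irreducible x.1 ∧ x.1 ≠ X ∧ 0 < x.2) ∧
    (s.map fun x => x.1.natDegree * x.2).sum = n

/-- The type of elementary divisor data. -/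
def EDiv (F : Type*) [Field F] (n : ℕ) := {s : Multiset (F[X] × ℕ) // IsEDiv n s}

/-- The family of prime powers of `s`. -/
noncomputable def edFam (s : Multiset (F[X] × ℕ)) : Fin s.toList.length → F[X] :=
  fun i => (s.toList.get i).1 ^ (s.toList.get i).2

lemma univ_map_edFam (s : Multiset (F[X] × ℕ)) :
    Finset.univ.val.map (edFam s) = s.map fun x => x.1 ^ x.2 := by
  rw [Fin.univ_val_map]
  conv_rhs => rw [← Multiset.coe_toList s, Multiset.map_coe]
  congr 1
  conv_rhs => rw [← List.ofFn_get s.toList, List.map_ofFn]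
  rfl

lemma edFam_monic (s : Multiset (F[X] × ℕ)) (h : ∀ x ∈ s, x.1.Monic) (i : Fin s.toList.length) :
    (edFam s i).Monic :=
  (h _ (Multiset.mem_toList.mp (List.get_mem _ _))).pow _

lemma similar_edModel_of_family {ι : Type*} [Fintype ι] (p : ι → F[X]) (e : ι → ℕ) :
    Similar (modelEnd fun i => p i ^ e i)
      (modelEnd (edFam (Finset.univ.val.map fun i => (p i, e i)))) := by
  apply similar_of_sameMultiset
  rw [univ_map_edFam, Multiset.map_map]
  rfl

open Classical in
/-- `deg p * ∑ min k e` over the divisors at `p`. -/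
noncomputable def kerDim (s : Multiset (F[X] × ℕ)) (p : F[X]) (k : ℕ) : ℕ :=
  (s.map fun x => if x.1 = p then min k x.2 * p.natDegree else 0).sum

lemma finrank_ker_edModel (s : Multiset (F[X] × ℕ)) (hs : ∀ x ∈ s, x.1.Monic ∧ Irreducible x.1)
    (p : F[X]) (hp : p.Monic) (hip : Irreducible p) (k : ℕ) :
    Module.finrank F (LinearMap.ker (Polynomial.aeval (modelEnd (edFam s)) (p ^ k))) = kerDim s p k := by
  classical
  rw [finrank_ker_aeval_modelEnd _ (fun i => (edFam_monic s (fun x hx => (hs x hx).1) i).ne_zero)]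
  have : ∀ i : Fin s.toList.length,
      Module.finrank F (LinearMap.ker (LinearMap.mulLeft F (AdjoinRoot.mk (edFam s i) (p ^ k)))) =
        (fun x : F[X] × ℕ => if x.1 = p then min k x.2 * p.natDegree else 0) (s.toList.get i) := by
    intro i
    have hx := hs _ (Multiset.mem_toList.mp (List.get_mem s.toList i))
    exact finrank_ker_mulLeft_pow hp hip hx.1 hx.2 _ k
  rw [Finset.sum_congr rfl fun i _ => this i, Finset.sum_eq_multiset_sum, Fin.univ_val_map,
    Multiset.sum_coe]
  unfold kerDim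
  conv_rhs => rw [← Multiset.coe_toList s, Multiset.map_coe, Multiset.sum_coe]
  congr 1
  conv_rhs => rw [← List.ofFn_get s.toList, List.map_ofFn]
  exact congrArg List.ofFn (funext fun i => by simp)

lemma kerDim_count [DecidableEq F[X]] (s : Multiset (F[X] × ℕ)) (p : F[X]) (k : ℕ) :
    2 * kerDim s p (k + 1) = kerDim s p k + kerDim s p (k + 2) + p.natDegree * s.count (p, k + 1) := by
  induction s using Multiset.induction with
  | empty => simp [kerDim]
  | cons a s ih =>
    simp only [kerDim, Multiset.map_cons, Multiset.sum_cons] at ih ⊢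
    obtain ⟨q, e⟩ := a
    rw [Multiset.count_cons]
    by_cases hq : q = p
    · subst hq
      simp only [if_true, Prod.mk.injEq, true_and]
      have h : 2 * min (k + 1) e = min k e + min (k + 2) e + if k + 1 = e then 1 else 0 := by
        split_ifs <;> omega
      nlinarith [h]
    · simp only [hq, if_false, Prod.mk.injEq, Ne.symm hq, false_and]
      simpa using ih

theorem ediv_unique (s t : Multiset (F[X] × ℕ))
    (hs : ∀ x ∈ s, x.1.Monic ∧ Irreducible x.1 ∧ 0 < x.2)
    (ht : ∀ x ∈ t, x.1.Monic ∧ Irreducible x.1 ∧ 0 < x.2)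
    (h : Similar (modelEnd (edFam s)) (modelEnd (edFam t))) : s = t := by
  classical
  refine Multiset.ext.mpr ?_
  rintro ⟨p, e⟩
  by_cases hp : p.Monic ∧ Irreducible p ∧ 0 < e
  · obtain ⟨hpm, hpi, he⟩ := hp
    have hk : ∀ k, kerDim s p k = kerDim t p k := fun k => by
      rw [← finrank_ker_edModel s (fun x hx => ⟨(hs x hx).1, (hs x hx).2.1⟩) p hpm hpi,
        ← finrank_ker_edModel t (fun x hx => ⟨(ht x hx).1, (ht x hx).2.1⟩) p hpm hpi,
        h.finrank_ker_aeval]
    obtain ⟨k, rfl⟩ : ∃ k, e = k + 1 := ⟨e - 1, by omega⟩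
    have h1 := kerDim_count s p k
    have h2 := kerDim_count t p k
    rw [hk, hk, hk] at h1
    have hd := hpi.natDegree_pos
    exact Nat.eq_of_mul_eq_mul_left hd (by omega)
  · rw [Multiset.count_eq_zero_of_notMem (fun hx => hp (hs _ hx)),
      Multiset.count_eq_zero_of_notMem (fun hx => hp (ht _ hx))]

variable {n : ℕ}

/-- The endomorphism of a general linear group element. -/
noncomputable def glEnd (g : GL (Fin n) F) : Module.End F (Fin n → F) :=
  Matrix.toLin' (g : Matrix (Fin n) (Fin n) F)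

lemma isConj_iff_similar (g h : GL (Fin n) F) : IsConj g h ↔ Similar (glEnd g) (glEnd h) := by
  constructor
  · intro hc
    obtain ⟨c, hc⟩ := isConj_iff.mp hc
    refine ⟨LinearEquiv.ofLinear (Matrix.toLin' (c : Matrix (Fin n) (Fin n) F))
      (Matrix.toLin' (c⁻¹ : GL (Fin n) F).val) (by rw [← Matrix.toLin'_mul, Units.mul_inv, Matrix.toLin'_one])
      (by rw [← Matrix.toLin'_mul, Units.inv_mul, Matrix.toLin'_one]), fun v => ?_⟩
    have h2 : c * g = h * c := by rw [← hc]; group
    have h3 := congrArg (fun x : GL (Fin n) F => x.val.mulVec v) h2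
    simpa [glEnd, Matrix.mulVec_mulVec] using h3
  · rintro ⟨e, he⟩
    let c : GL (Fin n) F :=
      { val := LinearMap.toMatrix' (e : (Fin n → F) →ₗ[F] Fin n → F)
        inv := LinearMap.toMatrix' (e.symm : (Fin n → F) →ₗ[F] Fin n → F)
        val_inv := by rw [← LinearMap.toMatrix'_comp]; simp
        inv_val := by rw [← LinearMap.toMatrix'_comp]; simp }
    refine isConj_iff.mpr ⟨c, mul_inv_eq_iff_eq_mul.mpr (Units.ext ?_)⟩
    apply Matrix.toLin'.injective
    rw [Units.val_mul, Units.val_mul, Matrix.toLin'_mul, Matrix.toLin'_mul]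
    simp only [c, Matrix.toLin'_toMatrix']
    exact LinearMap.ext fun v => he v

lemma coeff_zero_ne_of_irreducible {p : F[X]} (hm : p.Monic) (hi : Irreducible p) (hX : p ≠ X) :
    p.coeff 0 ≠ 0 := fun h =>
  hX (Polynomial.eq_of_monic_of_associated hm monic_X
    (Polynomial.irreducible_X.associated_of_dvd hi (X_dvd_iff.mpr h)).symm)

lemma sum_natDegree_edFam (s : Multiset (F[X] × ℕ)) (hs : ∀ x ∈ s, x.1.Monic) :
    ∑ i, (edFam s i).natDegree = (s.map fun x => x.1.natDegree * x.2).sum := by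
  rw [Finset.sum_eq_multiset_sum,
    show (Finset.univ.val.map fun i => (edFam s i).natDegree) =
      (Finset.univ.val.map (edFam s)).map natDegree by rw [Multiset.map_map]; rfl,
    univ_map_edFam, Multiset.map_map]
  congr 1
  exact Multiset.map_congr rfl fun x hx => by rw [Function.comp_apply, (hs x hx).natDegree_pow, mul_comm]

lemma exists_gl_of_ediv (s : EDiv F n) : ∃ g : GL (Fin n) F, Similar (glEnd g) (modelEnd (edFam s.1)) := by
  classical
  have hmon := edFam_monic s.1 fun x hx => (s.2.1 x hx).1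
  haveI : ∀ i, Module.Finite F (AdjoinRoot (edFam s.1 i)) := fun i =>
    (AdjoinRoot.powerBasis (hmon i).ne_zero).finite
  have hdim : Module.finrank F (Π i, AdjoinRoot (edFam s.1 i)) = n := by
    rw [finrank_modelSpace _ fun i => (hmon i).ne_zero, sum_natDegree_edFam _ fun x hx => (s.2.1 x hx).1, s.2.2]
  let e : (Π i, AdjoinRoot (edFam s.1 i)) ≃ₗ[F] (Fin n → F) :=
    LinearEquiv.ofFinrankEq _ _ (by rw [hdim, Module.finrank_fin_fun])
  let T : Module.End F (Fin n → F) :=
    (e : _ →ₗ[F] Fin n → F) ∘ₗ modelEnd (edFam s.1) ∘ₗ (e.symm : (Fin n → F) →ₗ[F] _)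
  have hdet : LinearMap.det T ≠ 0 := by
    rw [LinearMap.det_conj, det_modelEnd _ hmon]
    refine Finset.prod_ne_zero_iff.mpr fun i _ => mul_ne_zero (pow_ne_zero _ (by simp)) ?_
    obtain ⟨hm, hi, hX, -⟩ := s.2.1 _ (Multiset.mem_toList.mp (List.get_mem s.1.toList i))
    rw [edFam, coeff_zero_eq_eval_zero, eval_pow, ← coeff_zero_eq_eval_zero]
    exact pow_ne_zero _ (coeff_zero_ne_of_irreducible hm hi hX)
  refine ⟨Matrix.GeneralLinearGroup.mkOfDetNeZero (LinearMap.toMatrix' T)
    (by rwa [LinearMap.det_toMatrix']), ?_⟩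
  refine ⟨e.symm, fun v => ?_⟩
  show e.symm (Matrix.toLin' (LinearMap.toMatrix' T) v) = _
  rw [Matrix.toLin'_toMatrix']
  simp [T]

lemma exists_ediv_of_gl (g : GL (Fin n) F) : ∃ s : EDiv F n, Similar (glEnd g) (modelEnd (edFam s.1)) := by
  classical
  obtain ⟨N, p, e, hp, hsim⟩ := exists_model (glEnd g)
  haveI : ∀ i, Module.Finite F (AdjoinRoot (p i ^ e i)) := fun i =>
    (AdjoinRoot.powerBasis (pow_ne_zero _ (hp i).1.ne_zero)).finite
  refine ⟨⟨Finset.univ.val.map fun i => (p i, e i), ?_, ?_⟩,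
    hsim.trans (similar_edModel_of_family p e)⟩
  · intro x hx
    obtain ⟨i, -, rfl⟩ := Multiset.mem_map.mp hx
    refine ⟨(hp i).1, (hp i).2.1, ?_, (hp i).2.2⟩
    intro hX
    have hd := hsim.det_eq
    rw [det_modelEnd _ fun i => (hp i).1.pow _,
      Finset.prod_eq_zero (Finset.mem_univ i) (by simp [show p i = X from hX, (hp i).2.2.ne]), glEnd,
      LinearMap.det_toLin'] at hd
    exact (Matrix.GeneralLinearGroup.det g).ne_zero hd
  · obtain ⟨ε, -⟩ := hsim
    have h := ε.finrank_eq
    rw [Module.finrank_fin_fun, finrank_modelSpace _ fun i => pow_ne_zero _ (hp i).1.ne_zero] at h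
    rw [h, Multiset.map_map]
    show (Finset.univ.val.map fun i => (p i).natDegree * e i).sum = _
    rw [← Finset.sum_eq_multiset_sum]
    exact Finset.sum_congr rfl fun i _ => by rw [(hp i).1.natDegree_pow, mul_comm]

/-- The element of `GL` attached to elementary divisor data. -/
noncomputable def glOfEDiv (s : EDiv F n) : GL (Fin n) F := (exists_gl_of_ediv s).choose

lemma similar_glOfEDiv (s : EDiv F n) :
    Similar (glEnd (glOfEDiv s)) (modelEnd (edFam s.1)) := (exists_gl_of_ediv s).choose_spec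

lemma ediv_class_bijective :
    Function.Bijective fun s : EDiv F n => ConjClasses.mk (glOfEDiv s) := by
  constructor
  · intro s t h
    have h' := (isConj_iff_similar _ _).mp (ConjClasses.mk_eq_mk_iff_isConj.mp h)
    refine Subtype.ext (ediv_unique s.1 t.1 (fun x hx => ?_) (fun x hx => ?_)
      ((similar_glOfEDiv s).symm.trans (h'.trans (similar_glOfEDiv t))))
    · exact ⟨(s.2.1 x hx).1, (s.2.1 x hx).2.1, (s.2.1 x hx).2.2.2⟩
    · exact ⟨(t.2.1 x hx).1, (t.2.1 x hx).2.1, (t.2.1 x hx).2.2.2⟩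
  · intro C
    obtain ⟨g, rfl⟩ := ConjClasses.mk_surjective C
    obtain ⟨s, hs⟩ := exists_ediv_of_gl g
    exact ⟨s, ConjClasses.mk_eq_mk_iff_isConj.mpr
      ((isConj_iff_similar _ _).mpr ((similar_glOfEDiv s).trans hs.symm))⟩

/-- Elementary divisor data correspond to conjugacy classes of `GL n F`. -/
noncomputable def glClassEquiv : EDiv F n ≃ ConjClasses (GL (Fin n) F) :=
  Equiv.ofBijective _ ediv_class_bijective

lemma glClassEquiv_apply (s : EDiv F n) : glClassEquiv s = ConjClasses.mk (glOfEDiv s) := rfl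

lemma mk_eq_glClassEquiv_iff (g : GL (Fin n) F) (s : EDiv F n) :
    ConjClasses.mk g = glClassEquiv s ↔ Similar (glEnd g) (modelEnd (edFam s.1)) := by
  rw [glClassEquiv_apply, ConjClasses.mk_eq_mk_iff_isConj, isConj_iff_similar]
  exact ⟨fun h => h.trans (similar_glOfEDiv s), fun h => h.trans (similar_glOfEDiv s).symm⟩

lemma glEnd_aeval (g : GL (Fin n) F) (f : F[X]) :
    Polynomial.aeval (glEnd g) f = Matrix.toLin' (Polynomial.aeval (g : Matrix (Fin n) (Fin n) F) f) :=
  Polynomial.aeval_algHom_apply (Matrix.toLinAlgEquiv' (R := F) (n := Fin n)).toAlgHom g.val f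

lemma pow_eq_one_iff_ediv (g : GL (Fin n) F) (s : EDiv F n)
    (h : ConjClasses.mk g = glClassEquiv s) (k : ℕ) :
    g ^ k = 1 ↔ ∀ x ∈ s.1, x.1 ^ x.2 ∣ (X : F[X]) ^ k - 1 := by
  rw [mk_eq_glClassEquiv_iff] at h
  have h1 : g ^ k = 1 ↔ Polynomial.aeval (glEnd g) ((X : F[X]) ^ k - 1) = 0 := by
    rw [glEnd_aeval, LinearEquiv.map_eq_zero_iff, map_sub, map_pow, aeval_X, map_one, sub_eq_zero,
      Units.ext_iff, Units.val_pow_eq_pow_val, Units.val_one]
  rw [h1, h.aeval_eq_zero_iff, aeval_modelEnd_eq_zero_iff]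
  constructor
  · intro hh x hx
    obtain ⟨i, hi⟩ := List.get_of_mem (Multiset.mem_toList.mpr hx)
    have := hh i
    rwa [edFam, hi] at this
  · intro hh i
    exact hh _ (Multiset.mem_toList.mp (List.get_mem _ _))

end H41
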