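import Mathlib
import Cfsg.Agent.H41.GLClasses

/-! Determinants occurring in centralizers in `GL n q`. -/

set_option autoImplicit false

open Polynomial

namespace H41

variable {F : Type*} [Field F]

/-- Coordinatewise multiplication on the model space. -/
noncomputable def mulModel {ι : Type*} (f : ι → F[X]) (c : Π i, AdjoinRoot (f i)) :
    Module.End F (Π i, AdjoinRoot (f i)) :=
  LinearMap.pi fun i => (LinearMap.mulLeft F (c i)).comp (LinearMap.proj i)

lemma mulModel_comm {ι : Type*} (f : ι → F[X]) (c : Π i, AdjoinRoot (f i))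
    (v : Π i, AdjoinRoot (f i)) : mulModel f c (modelEnd f v) = modelEnd f (mulModel f c v) := by
  funext i
  show c i * (AdjoinRoot.root (f i) * v i) = AdjoinRoot.root (f i) * (c i * v i)
  rw [mul_left_comm]

lemma det_mulModel {ι : Type*} [Fintype ι] (f : ι → F[X]) (hf : ∀ i, f i ≠ 0)
    (c : Π i, AdjoinRoot (f i)) : LinearMap.det (mulModel f c) = ∏ i, Algebra.norm F (c i) := by
  classical
  haveI : ∀ i, Module.Finite F (AdjoinRoot (f i)) := fun i =>
    (AdjoinRoot.powerBasis (hf i)).finite
  let b := Pi.basis fun i => (AdjoinRoot.powerBasis (hf i)).basis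
  rw [← LinearMap.det_toMatrix b]
  have : LinearMap.toMatrix b b (mulModel f c) = Matrix.blockDiagonal' fun i =>
      Algebra.leftMulMatrix (AdjoinRoot.powerBasis (hf i)).basis (c i) := by
    ext ⟨i, a⟩ ⟨j, d⟩
    rw [LinearMap.toMatrix_apply, Pi.basis_repr, Pi.basis_apply,
      show mulModel f c (Pi.single j ((AdjoinRoot.powerBasis (hf j)).basis d)) i =
        c i * (Pi.single j ((AdjoinRoot.powerBasis (hf j)).basis d) : Π i, AdjoinRoot (f i)) i from rfl]
    by_cases hij : i = j
    · subst hij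
      rw [Matrix.blockDiagonal'_apply_eq, Pi.single_eq_same, Algebra.leftMulMatrix_eq_repr_mul]
    · rw [Matrix.blockDiagonal'_apply_ne _ _ _ hij, Pi.single_eq_of_ne hij, mul_zero, map_zero]
      rfl
  rw [this, det_blockDiagonal_sigma]
  exact Finset.prod_congr rfl fun i _ => (Algebra.norm_eq_matrix_det _ _).symm

variable [Fintype F]

lemma exists_norm_eq_pow (p : F[X]) (hp : p.Monic) (hip : Irreducible p) (e : ℕ) (a : F) :
    ∃ c : AdjoinRoot (p ^ e), Algebra.norm F c = a ^ e := by
  classical
  haveI : Fact (Irreducible p) := ⟨hip⟩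
  set K := AdjoinRoot p
  set A := AdjoinRoot (p ^ e)
  haveI : Module.Finite F K := (AdjoinRoot.powerBasis hp.ne_zero).finite
  haveI : Module.Finite F A := (AdjoinRoot.powerBasis (pow_ne_zero e hp.ne_zero)).finite
  haveI : Finite K := Module.finite_of_finite F
  obtain ⟨α, hα⟩ := FiniteField.norm_surjective F K a
  -- a root of `p` in `A`
  have hroot : Polynomial.aeval ((AdjoinRoot.root (p ^ e)) ^ (Fintype.card F ^ e)) p = 0 := by
    have h0 : Polynomial.aeval (AdjoinRoot.root (p ^ e)) (p ^ Fintype.card F ^ e) = 0 := by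
      rw [AdjoinRoot.aeval_eq, AdjoinRoot.mk_eq_zero]
      exact pow_dvd_pow p (Nat.le_of_lt (Nat.lt_pow_self Fintype.one_lt_card))
    have hexp : ∀ k, Polynomial.expand F (Fintype.card F ^ k) p = p ^ Fintype.card F ^ k := by
      intro k
      induction k with
      | zero => simp
      | succ k ih =>
        rw [pow_succ, Polynomial.expand_mul, FiniteField.expand_card, map_pow, ih, ← pow_mul]
    rwa [← Polynomial.expand_aeval (R := F), hexp]
  let φ : K →ₐ[F] A := Ideal.Quotient.liftₐ (Ideal.span {p})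
    (Polynomial.aeval ((AdjoinRoot.root (p ^ e)) ^ (Fintype.card F ^ e))) (by
      intro b hb
      obtain ⟨b', rfl⟩ := Ideal.mem_span_singleton.mp hb
      rw [map_mul, hroot, zero_mul])
  letI : Algebra K A := φ.toRingHom.toAlgebra
  haveI : IsScalarTower F K A := IsScalarTower.of_algebraMap_eq fun x => (φ.commutes x).symm
  haveI : Module.Finite K A := Module.Finite.of_restrictScalars_finite F K A
  refine ⟨φ α, ?_⟩
  show Algebra.norm F (algebraMap K A α) = a ^ e
  rw [← Algebra.norm_norm (R := F) (S := K) (a := algebraMap K A α), Algebra.norm_algebraMap, map_pow, hα]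
  congr 1
  have h := Module.finrank_mul_finrank F K A
  rw [finrank_adjoinRoot hp.ne_zero, finrank_adjoinRoot (pow_ne_zero e hp.ne_zero), hp.natDegree_pow,
    mul_comm e] at h
  exact Nat.eq_of_mul_eq_mul_left hip.natDegree_pos h

/-- For an elementary divisor `p^e` of `g`, all `e`-th powers are determinants of commuting elements. -/
theorem exists_commute_det_eq_pow {n : ℕ} (g : GL (Fin n) F) (s : EDiv F n)
    (h : ConjClasses.mk g = glClassEquiv s) (x : F[X] × ℕ) (hx : x ∈ s.1) (a : Fˣ) :
    ∃ c : GL (Fin n) F, Commute c g ∧ Matrix.GeneralLinearGroup.det c = a ^ x.2 := by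
  classical
  obtain ⟨ε, hε⟩ := (mk_eq_glClassEquiv_iff g s).mp h
  obtain ⟨i₀, hi₀⟩ := List.get_of_mem (Multiset.mem_toList.mpr hx)
  have hne : ∀ i, edFam s.1 i ≠ 0 := fun i => (edFam_monic s.1 (fun x hx => (s.2.1 x hx).1) i).ne_zero
  obtain ⟨hm, hi, -, -⟩ := s.2.1 x hx
  have hex : ∃ w : AdjoinRoot (edFam s.1 i₀), Algebra.norm F w = (a : F) ^ x.2 := by
    unfold edFam
    rw [hi₀]
    exact exists_norm_eq_pow x.1 hm hi x.2 a
  obtain ⟨w, hw⟩ := hex
  let c : Π i, AdjoinRoot (edFam s.1 i) := Function.update 1 i₀ w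
  let T : Module.End F (Fin n → F) :=
    (ε.symm : _ →ₗ[F] Fin n → F) ∘ₗ mulModel (edFam s.1) c ∘ₗ (ε : (Fin n → F) →ₗ[F] _)
  have hdet : LinearMap.det T = (a : F) ^ x.2 := by
    have := LinearMap.det_conj (mulModel (edFam s.1) c) ε.symm
    rw [LinearEquiv.symm_symm] at this
    rw [this, det_mulModel _ hne, Finset.prod_eq_single i₀]
    · simp [c, hw]
    · intro j _ hj
      simp [c, hj, map_one]
    · simp
  refine ⟨Matrix.GeneralLinearGroup.mkOfDetNeZero (LinearMap.toMatrix' T)
    (by rw [LinearMap.det_toMatrix', hdet]; exact pow_ne_zero _ a.ne_zero), ?_, ?_⟩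
  · apply Units.ext
    apply Matrix.toLin'.injective
    show Matrix.toLin' (LinearMap.toMatrix' T * g.val) = Matrix.toLin' (g.val * LinearMap.toMatrix' T)
    rw [Matrix.toLin'_mul, Matrix.toLin'_mul, Matrix.toLin'_toMatrix']
    refine LinearMap.ext fun v => ε.injective ?_
    simp only [T, LinearMap.comp_apply, LinearEquiv.coe_coe, LinearEquiv.apply_symm_apply]
    show mulModel _ c (ε (glEnd g v)) = ε (glEnd g (ε.symm (mulModel _ c (ε v))))
    rw [hε, hε, mulModel_comm, LinearEquiv.apply_symm_apply]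
  · ext
    show (LinearMap.toMatrix' T).det = _
    rw [LinearMap.det_toMatrix', hdet, Units.val_pow_eq_pow_val]

end H41
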