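import Mathlib
import Cfsg.Agent.H41.GLClasses

/-! Classes of `GL n q` as sequences of polynomials. -/

set_option autoImplicit false

open Polynomial

namespace H41

variable (F : Type*) [Field F]

/-- Monic polynomials of degree `d` with nonzero constant term. -/
def NZPoly (d : ℕ) := {f : F[X] // f.Monic ∧ f.coeff 0 ≠ 0 ∧ f.natDegree = d}

/-- Sequences `g` of monic polynomials, nonzero at `0`, with `∑ (j+1) deg (g j) = n`. -/
def PSeq (m n : ℕ) := {g : Fin m → F[X] //
  (∀ j, (g j).Monic ∧ (g j).coeff 0 ≠ 0) ∧ ∑ j : Fin m, (j.val + 1) * (g j).natDegree = n}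

variable {F}

lemma coeff_zero_prod_ne (t : Multiset F[X]) (h : ∀ f ∈ t, f.coeff 0 ≠ 0) : t.prod.coeff 0 ≠ 0 := by
  rw [Polynomial.coeff_zero_multiset_prod, Ne, Multiset.prod_eq_zero_iff]
  intro h0
  obtain ⟨f, hf, hf0⟩ := Multiset.mem_map.mp h0
  exact h f hf hf0

lemma snd_le_of_isEDiv {n : ℕ} {s : Multiset (F[X] × ℕ)} (h : IsEDiv n s) {x : F[X] × ℕ}
    (hx : x ∈ s) : x.2 ≤ n := by
  have h1 : x.1.natDegree * x.2 ≤ n :=
    (Multiset.le_sum_of_mem (Multiset.mem_map_of_mem _ hx)).trans_eq h.2
  exact (Nat.le_mul_of_pos_left _ (h.1 x hx).2.1.natDegree_pos).trans h1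

open Classical in
lemma bind_filter_snd {n : ℕ} (s : Multiset (F[X] × ℕ)) (hs : ∀ x ∈ s, 1 ≤ x.2 ∧ x.2 ≤ n) :
    (Finset.univ : Finset (Fin n)).val.bind (fun j => s.filter fun x => x.2 = j.val + 1) = s := by
  refine Multiset.ext.mpr fun x => ?_
  rw [Multiset.count_bind]
  by_cases hx : x ∈ s
  · obtain ⟨h1, h2⟩ := hs x hx
    rw [← Finset.sum_eq_multiset_sum, Finset.sum_eq_single (⟨x.2 - 1, by omega⟩ : Fin n)]
    · rw [Multiset.count_filter, if_pos]
      simp only
      omega
    · intro j _ hj
      rw [Multiset.count_filter, if_neg]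
      intro h
      exact hj (Fin.ext (by simp only; omega))
    · simp
  · rw [Multiset.count_eq_zero_of_notMem hx]
    refine Multiset.sum_eq_zero fun c hc => ?_
    obtain ⟨j, -, rfl⟩ := Multiset.mem_map.mp hc
    exact Multiset.count_eq_zero_of_notMem fun h => hx (Multiset.mem_of_mem_filter h)

/-- The sequence attached to elementary divisor data. -/
noncomputable def seqFun {n : ℕ} (s : Multiset (F[X] × ℕ)) (j : Fin n) : F[X] :=
  ((s.filter fun x => x.2 = j.val + 1).map Prod.fst).prod

open Classical in
/-- Elementary divisor data of size `n` are sequences in `PSeq n n`. -/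
noncomputable def edivSeqEquiv (n : ℕ) : EDiv F n ≃ PSeq F n n where
  toFun s := ⟨seqFun s.1, by
    constructor
    · intro j
      have h : ∀ f ∈ (s.1.filter fun x => x.2 = j.val + 1).map Prod.fst,
          f.Monic ∧ f.coeff 0 ≠ 0 := by
        intro f hf
        obtain ⟨x, hx, rfl⟩ := Multiset.mem_map.mp hf
        obtain ⟨h1, h2, h3, -⟩ := s.2.1 x (Multiset.mem_of_mem_filter hx)
        exact ⟨h1, coeff_zero_ne_of_irreducible h1 h2 h3⟩
      refine ⟨?_, coeff_zero_prod_ne _ fun f hf => (h f hf).2⟩
      exact monic_multiset_prod_of_monic _ _ fun x hx => (h _ (Multiset.mem_map_of_mem _ hx)).1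
    · refine Eq.trans ?_ s.2.2
      conv_rhs => rw [← bind_filter_snd (n := n) s.1 fun x hx =>
        ⟨(s.2.1 x hx).2.2.2, snd_le_of_isEDiv s.2 hx⟩, Multiset.map_bind, Multiset.sum_bind,
        ← Finset.sum_eq_multiset_sum]
      refine Finset.sum_congr rfl fun j _ => ?_
      rw [seqFun, Polynomial.natDegree_multiset_prod_of_monic _ (fun f hf => by
        obtain ⟨x, hx, rfl⟩ := Multiset.mem_map.mp hf
        exact (s.2.1 x (Multiset.mem_of_mem_filter hx)).1), Multiset.map_map, ← Multiset.sum_map_mul_left]
      congr 1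
      exact Multiset.map_congr rfl fun x hx => by
        rw [Function.comp_apply, (Multiset.mem_filter.mp hx).2, mul_comm]⟩
  invFun g := ⟨(Finset.univ : Finset (Fin n)).val.bind fun j =>
      (UniqueFactorizationMonoid.normalizedFactors (g.1 j)).map fun p => (p, j.val + 1), by
    constructor
    · intro x hx
      obtain ⟨j, -, hx⟩ := Multiset.mem_bind.mp hx
      obtain ⟨p, hp, rfl⟩ := Multiset.mem_map.mp hx
      have hi := UniqueFactorizationMonoid.irreducible_of_normalized_factor _ hp
      have hm : p.Monic := by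
        rw [← UniqueFactorizationMonoid.normalize_normalized_factor _ hp]
        exact Polynomial.monic_normalize hi.ne_zero
      refine ⟨hm, hi, ?_, Nat.succ_pos _⟩
      intro h
      exact (g.2.1 j).2 (X_dvd_iff.mp
        ((show p = X from h) ▸ UniqueFactorizationMonoid.dvd_of_mem_normalizedFactors hp))
    · refine Eq.trans ?_ g.2.2
      rw [Multiset.map_bind, Multiset.sum_bind, ← Finset.sum_eq_multiset_sum]
      refine Finset.sum_congr rfl fun j _ => ?_
      rw [Multiset.map_map]
      have hdeg : (g.1 j).natDegree =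
          ((UniqueFactorizationMonoid.normalizedFactors (g.1 j)).map natDegree).sum := by
        rw [← Polynomial.natDegree_multiset_prod _ (fun h =>
          (UniqueFactorizationMonoid.irreducible_of_normalized_factor _ h).ne_zero rfl)]
        exact (Polynomial.natDegree_eq_of_degree_eq (Polynomial.degree_eq_degree_of_associated
          (UniqueFactorizationMonoid.prod_normalizedFactors (g.2.1 j).1.ne_zero))).symm
      rw [hdeg, ← Multiset.sum_map_mul_left]
      congr 1
      exact Multiset.map_congr rfl fun p _ => mul_comm _ _⟩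
  left_inv s := by
    apply Subtype.ext
    conv_rhs => rw [← bind_filter_snd (n := n) s.1 fun x hx =>
      ⟨(s.2.1 x hx).2.2.2, snd_le_of_isEDiv s.2 hx⟩]
    show (Finset.univ : Finset (Fin n)).val.bind (fun j =>
      (UniqueFactorizationMonoid.normalizedFactors (seqFun s.1 j)).map fun p => (p, j.val + 1)) = _
    refine Multiset.bind_congr fun j _ => ?_
    show Multiset.map _ (UniqueFactorizationMonoid.normalizedFactors (seqFun s.1 j)) = _
    rw [seqFun, UniqueFactorizationMonoid.normalizedFactors_prod_eq _ (fun f hf => by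
      obtain ⟨x, hx, rfl⟩ := Multiset.mem_map.mp hf
      exact (s.2.1 x (Multiset.mem_of_mem_filter hx)).2.1), Multiset.map_map, Multiset.map_map]
    refine Eq.trans ?_ (Multiset.map_id _)
    refine Multiset.map_congr rfl fun x hx => ?_
    obtain ⟨hx1, hx2⟩ := Multiset.mem_filter.mp hx
    exact Prod.ext (s.2.1 x hx1).1.normalize_eq_self hx2.symm
  right_inv g := by
    apply Subtype.ext
    funext j
    show seqFun _ j = g.1 j
    rw [seqFun]
    have h : ((Finset.univ : Finset (Fin n)).val.bind fun i =>
        (UniqueFactorizationMonoid.normalizedFactors (g.1 i)).map fun p => (p, i.val + 1)).filter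
          (fun x => x.2 = j.val + 1) =
        (UniqueFactorizationMonoid.normalizedFactors (g.1 j)).map fun p => (p, j.val + 1) := by
      refine Multiset.ext.mpr fun x => ?_
      rw [Multiset.count_filter, Multiset.count_bind, ← Finset.sum_eq_multiset_sum]
      split_ifs with hx
      · rw [Finset.sum_eq_single j]
        · intro i _ hi
          refine Multiset.count_eq_zero_of_notMem fun hm => ?_
          obtain ⟨p, -, rfl⟩ := Multiset.mem_map.mp hm
          exact hi (Fin.ext (by simpa using hx))
        · simp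
      · refine (Multiset.count_eq_zero_of_notMem fun hm => ?_).symm
        obtain ⟨p, -, rfl⟩ := Multiset.mem_map.mp hm
        exact hx rfl
    rw [h, Multiset.map_map]
    show (Multiset.map (fun p => p) _).prod = _
    rw [Multiset.map_id', UniqueFactorizationMonoid.prod_normalizedFactors_eq (g.2.1 j).1.ne_zero]
    exact (g.2.1 j).1.normalize_eq_self

end H41
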