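import Mathlib
import Cfsg.Agent.H41.PolySeq

/-! The number of classes of `GL n q`: recursion and bounds. -/

set_option autoImplicit false

open Polynomial

namespace H41

variable (F : Type*) [Field F]

/-- The number of sequences of length `m` and weight `n`. -/
noncomputable def seqCount (m n : ℕ) : ℕ := Nat.card (PSeq F m n)

/-- Number of monic polynomials of degree `d` not vanishing at `0`. -/
noncomputable def nzCount (d : ℕ) : ℕ := Nat.card (NZPoly F d)

lemma nzPoly_zero : nzCount F 0 = 1 := by
  haveI : Unique (NZPoly F 0) :=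
    { default := ⟨1, monic_one, by simp, natDegree_one⟩
      uniq := fun f => Subtype.ext (eq_one_of_monic_natDegree_zero f.2.1 f.2.2.2) }
  exact Nat.card_unique

variable [Fintype F]

instance nzPolyFinite (d : ℕ) : Finite (NZPoly F d) :=
  Finite.of_injective (fun f : NZPoly F d => fun i : Fin (d + 1) => f.1.coeff i) fun f g h => by
    refine Subtype.ext (Polynomial.ext fun i => ?_)
    by_cases hi : i < d + 1
    · exact congrFun h ⟨i, hi⟩
    · rw [coeff_eq_zero_of_natDegree_lt (by rw [f.2.2.2]; omega),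
        coeff_eq_zero_of_natDegree_lt (by rw [g.2.2.2]; omega)]

instance pSeqFinite (m n : ℕ) : Finite (PSeq F m n) :=
  Finite.of_injective (fun g : PSeq F m n => fun (j : Fin m) (i : Fin (n + 1)) => (g.1 j).coeff i)
    fun f g h => by
      refine Subtype.ext (funext fun j => Polynomial.ext fun i => ?_)
      by_cases hi : i < n + 1
      · exact congrFun (congrFun h j) ⟨i, hi⟩
      · have hf : (f.1 j).natDegree ≤ n := le_trans (Nat.le_mul_of_pos_left _ (Nat.succ_pos _))
          ((Finset.single_le_sum (f := fun k : Fin m => (k.val + 1) * (f.1 k).natDegree)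
            (fun k _ => Nat.zero_le _) (Finset.mem_univ j)).trans_eq f.2.2)
        have hg : (g.1 j).natDegree ≤ n := le_trans (Nat.le_mul_of_pos_left _ (Nat.succ_pos _))
          ((Finset.single_le_sum (f := fun k : Fin m => (k.val + 1) * (g.1 k).natDegree)
            (fun k _ => Nat.zero_le _) (Finset.mem_univ j)).trans_eq g.2.2)
        rw [coeff_eq_zero_of_natDegree_lt (by omega), coeff_eq_zero_of_natDegree_lt (by omega)]

lemma nzPoly_succ (d : ℕ) :
    nzCount F (d + 1) = (Fintype.card F - 1) * Fintype.card F ^ d := by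
  classical
  have hcard : Nat.card ({a : F // a ≠ 0} × (Fin d → F)) = (Fintype.card F - 1) * Fintype.card F ^ d := by
    rw [Nat.card_prod, Nat.card_fun, Nat.card_fin, Nat.card_eq_fintype_card, Nat.card_eq_fintype_card,
      Fintype.card_subtype_compl]
    simp
  rw [← hcard, nzCount]
  refine Nat.card_congr (Equiv.ofBijective
    (fun f : NZPoly F (d + 1) => ((⟨f.1.coeff 0, f.2.2.1⟩ : {a : F // a ≠ 0}),
      fun i : Fin d => f.1.coeff (i.val + 1))) ⟨?_, ?_⟩)
  · intro f g h
    rw [Prod.mk.injEq, Subtype.mk.injEq] at h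
    refine Subtype.ext (Polynomial.ext fun i => ?_)
    rcases lt_trichotomy i (d + 1) with hi | hi | hi
    · rcases i with _ | i
      · exact h.1
      · exact congrFun h.2 ⟨i, by omega⟩
    · subst hi
      have hf := f.2.1.coeff_natDegree
      have hg := g.2.1.coeff_natDegree
      rw [f.2.2.2] at hf
      rw [g.2.2.2] at hg
      rw [hf, hg]
    · rw [coeff_eq_zero_of_natDegree_lt (by rw [f.2.2.2]; omega),
        coeff_eq_zero_of_natDegree_lt (by rw [g.2.2.2]; omega)]
  · rintro ⟨⟨a, ha⟩, v⟩
    let r : F[X] := C a + ∑ i : Fin d, C (v i) * X ^ (i.val + 1)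
    have hr : r.degree < (d + 1 : ℕ) := by
      refine (degree_add_le _ _).trans_lt (max_lt ?_ ?_)
      · exact degree_C_le.trans_lt (by exact_mod_cast Nat.succ_pos d)
      · refine (degree_sum_le _ _).trans_lt ((Finset.sup_lt_iff (WithBot.bot_lt_coe _)).mpr fun i _ => ?_)
        exact (degree_C_mul_X_pow_le _ _).trans_lt (by exact_mod_cast Nat.succ_lt_succ i.isLt)
    have hm : (X ^ (d + 1) + r).Monic := monic_X_pow_add hr
    have hd : (X ^ (d + 1) + r).natDegree = d + 1 := natDegree_eq_of_degree_eq_some (by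
      rw [degree_add_eq_left_of_degree_lt (by rwa [degree_X_pow]), degree_X_pow])
    have h0 : (X ^ (d + 1) + r).coeff 0 = a := by
      simp [r, coeff_X_pow]
    refine ⟨⟨X ^ (d + 1) + r, hm, h0 ▸ ha, hd⟩, ?_⟩
    refine Prod.ext (Subtype.ext h0) (funext fun i => ?_)
    show (X ^ (d + 1) + r).coeff (i.val + 1) = v i
    simp only [r, coeff_add, finsetSum_coeff, coeff_C_mul, coeff_X_pow]
    rw [if_neg (by omega), coeff_C, if_neg (by omega), zero_add, zero_add, Finset.sum_eq_single i]
    · rw [if_pos rfl, mul_one]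
    · intro j _ hj
      rw [if_neg (fun h => hj (Fin.ext (by omega))), mul_zero]
    · simp

lemma seqCount_zero (n : ℕ) : seqCount F 0 n = if n = 0 then 1 else 0 := by
  split_ifs with h
  · subst h
    haveI : Unique (PSeq F 0 0) :=
      { default := ⟨Fin.elim0, fun j => j.elim0, by simp⟩
        uniq := fun g => Subtype.ext (funext fun j => j.elim0) }
    exact Nat.card_unique
  · haveI : IsEmpty (PSeq F 0 n) := ⟨fun g => h (by simpa using g.2.2.symm)⟩
    exact Nat.card_of_isEmpty

/-- Splitting off the last polynomial. -/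
noncomputable def pSeqSplit (m n : ℕ) :
    PSeq F (m + 1) n ≃ Σ d : Fin (n / (m + 1) + 1), NZPoly F d.val × PSeq F m (n - (m + 1) * d.val) where
  toFun g :=
    have hsum : ∑ j : Fin m, (j.val + 1) * (g.1 j.castSucc).natDegree +
        (m + 1) * (g.1 (Fin.last m)).natDegree = n := by
      have h := g.2.2
      rw [Fin.sum_univ_castSucc] at h
      exact h
    ⟨⟨(g.1 (Fin.last m)).natDegree, Nat.lt_succ_of_le
        ((Nat.le_div_iff_mul_le (by omega : 0 < m + 1)).mpr (by rw [mul_comm]; omega))⟩,
      ⟨g.1 (Fin.last m), (g.2.1 _).1, (g.2.1 _).2, rfl⟩,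
      ⟨fun j => g.1 j.castSucc, fun j => g.2.1 _, by
        show ∑ j : Fin m, (j.val + 1) * (g.1 j.castSucc).natDegree =
          n - (m + 1) * (g.1 (Fin.last m)).natDegree
        omega⟩⟩
  invFun x := ⟨Fin.snoc x.2.2.1 x.2.1.1, by
    constructor
    · intro j
      refine Fin.lastCases ?_ (fun i => ?_) j
      · simpa using ⟨x.2.1.2.1, x.2.1.2.2.1⟩
      · simpa using x.2.2.2.1 i
    · rw [Fin.sum_univ_castSucc]
      simp only [Fin.snoc_castSucc, Fin.snoc_last, Fin.val_castSucc, Fin.val_last, x.2.1.2.2.2, x.2.2.2.2]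
      have := (Nat.le_div_iff_mul_le (by omega : 0 < m + 1)).mp (Nat.le_of_lt_succ x.1.isLt)
      rw [mul_comm] at this
      omega⟩
  left_inv g := by
    refine Subtype.ext ?_
    show Fin.snoc (fun j : Fin m => g.1 j.castSucc) (g.1 (Fin.last m)) = g.1
    exact Fin.snoc_init_self g.1
  right_inv x := by
    have key : ∀ a b : Σ d : Fin (n / (m + 1) + 1), NZPoly F d.val × PSeq F m (n - (m + 1) * d.val),
        a.2.1.1 = b.2.1.1 → a.2.2.1 = b.2.2.1 → a = b := by
      rintro ⟨d, f, g⟩ ⟨d', f', g'⟩ h1 h2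
      obtain rfl : d = d' := Fin.ext (by rw [← f.2.2.2, ← f'.2.2.2]; exact congrArg natDegree h1)
      obtain rfl : f = f' := Subtype.ext h1
      obtain rfl : g = g' := Subtype.ext h2
      rfl
    apply key
    · simp
    · funext j; simp

lemma seqCount_succ (m n : ℕ) :
    seqCount F (m + 1) n =
      ∑ d ∈ Finset.range (n / (m + 1) + 1), nzCount F d * seqCount F m (n - (m + 1) * d) := by
  rw [seqCount, Nat.card_congr (pSeqSplit F m n), Nat.card_sigma,
    ← Fin.sum_univ_eq_sum_range (fun d => nzCount F d * seqCount F m (n - (m + 1) * d))]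
  exact Finset.sum_congr rfl fun d _ => Nat.card_prod _ _

lemma seqCount_succ_of_lt (m n : ℕ) (h : n < m + 1) : seqCount F (m + 1) n = seqCount F m n := by
  rw [seqCount_succ, Nat.div_eq_of_lt h]
  simp [nzPoly_zero]

lemma seqCount_mono (m n : ℕ) : seqCount F m n ≤ seqCount F (m + 1) n := by
  rw [seqCount_succ, Finset.sum_range_succ']
  simp [nzPoly_zero]

lemma seqCount_rec (m n : ℕ) (h : m + 1 ≤ n) :
    seqCount F (m + 1) n + seqCount F m (n - (m + 1)) =
      seqCount F m n + Fintype.card F * seqCount F (m + 1) (n - (m + 1)) := by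
  have hq : 1 ≤ Fintype.card F := Fintype.card_pos
  obtain ⟨t, ht⟩ : ∃ t, Fintype.card F = t + 1 := ⟨Fintype.card F - 1, by omega⟩
  rw [seqCount_succ F m n, seqCount_succ F m (n - (m + 1)),
    Nat.div_eq_sub_div (Nat.succ_pos m) h]
  generalize (n - (m + 1)) / (m + 1) = K
  rw [Finset.sum_range_succ', Finset.sum_range_succ', Finset.sum_range_succ' _ K]
  simp only [nzPoly_succ, nzPoly_zero, ht, Nat.add_sub_cancel, pow_zero, mul_one, one_mul, zero_add,
    Nat.mul_zero, Nat.sub_zero]
  rw [mul_add (t + 1), Finset.mul_sum]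
  have : ∀ d, n - (m + 1) - (m + 1) * (d + 1) = n - (m + 1) * (d + 1 + 1) := fun d => by
    rw [Nat.sub_sub]; congr 1; ring
  simp only [this]
  have h2 : ∀ d ∈ Finset.range K, t * (t + 1) ^ (d + 1) * seqCount F m (n - (m + 1) * (d + 1 + 1)) =
      (t + 1) * (t * (t + 1) ^ d * seqCount F m (n - (m + 1) * (d + 1 + 1))) := fun d _ => by ring
  rw [Finset.sum_congr rfl h2]
  ring

lemma pow_sub_one_mul (q a : ℕ) : ((q : ℤ) - 1) * (q : ℤ) ^ a = (q : ℤ) ^ (a + 1) - (q : ℤ) ^ a := by
  ring

/-- `k(GL_n(q)) ≤ q^n`, in a strengthened form. -/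
theorem seqCount_bound (m n : ℕ) :
    (seqCount F m n : ℤ) ≤ (Fintype.card F : ℤ) ^ n ∧
      (0 < n → m ≤ n →
        (seqCount F m n : ℤ) ≤ (Fintype.card F : ℤ) ^ n - (Fintype.card F : ℤ) ^ (n - m)) := by
  obtain ⟨q, hqdef⟩ : ∃ q : ℤ, q = (Fintype.card F : ℤ) := ⟨_, rfl⟩
  have hq : 1 ≤ q := by rw [hqdef]; exact_mod_cast Fintype.card_pos
  rw [← hqdef]
  induction m generalizing n with
  | zero =>
    rw [seqCount_zero]
    constructor
    · split_ifs with h
      · simp [h]
      · positivity
    · intro hn _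
      rw [if_neg hn.ne']
      simp
  | succ m ih =>
    have hS : ∀ n, m + 1 ≤ n →
        (seqCount F (m + 1) n : ℤ) - seqCount F m n ≤ (q - 1) * q ^ (n - (m + 1)) := by
      intro n
      induction n using Nat.strong_induction_on with
      | _ n IH =>
        intro hn
        have hrec := seqCount_rec F m n hn
        have hrec' : (seqCount F (m + 1) n : ℤ) + seqCount F m (n - (m + 1)) =
            seqCount F m n + q * seqCount F (m + 1) (n - (m + 1)) := by
          rw [hqdef]; exact_mod_cast hrec
        have hG := (ih (n - (m + 1))).1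
        by_cases h2 : n - (m + 1) < m + 1
        · rw [seqCount_succ_of_lt F m _ h2] at hrec'
          nlinarith
        · push Not at h2
          have h3 := IH (n - (m + 1)) (by omega) h2
          have hG' := (ih (n - (m + 1))).2 (by omega) (by omega)
          obtain ⟨a, ha⟩ : ∃ a, n - (m + 1) - (m + 1) = a := ⟨_, rfl⟩
          rw [ha] at h3
          rw [show n - (m + 1) - m = a + 1 by omega, pow_succ] at hG'
          nlinarith
    have h1 := (ih n).1
    by_cases hn : m + 1 ≤ n
    · have h2 := (ih n).2 (by omega) (by omega)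
      have h3 := hS n hn
      rw [show n - m = n - (m + 1) + 1 by omega, pow_succ] at h2
      have h4 : 0 ≤ q ^ (n - (m + 1)) := by positivity
      exact ⟨by nlinarith, fun _ _ => by nlinarith⟩
    · rw [seqCount_succ_of_lt F m n (by omega)]
      exact ⟨h1, fun _ h => absurd h hn⟩

theorem card_classes_GL (n : ℕ) :
    Nat.card (ConjClasses (GL (Fin n) F)) = seqCount F n n := by
  rw [seqCount, ← Nat.card_congr glClassEquiv]
  exact Nat.card_congr (edivSeqEquiv n)

end H41
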