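import Mathlib
import Cfsg.Agent.H41.PolySeq

/-! Scaling of elementary divisors, and the determinant in terms of polynomial sequences. -/

set_option autoImplicit false

open Polynomial

namespace H41

variable {F : Type*} [Field F]

/-- The polynomial whose roots are `z` times those of `f`. -/
noncomputable def zScale (z : Fˣ) (f : F[X]) : F[X] :=
  C ((z : F) ^ f.natDegree) * f.comp (C ((z⁻¹ : Fˣ) : F) * X)

lemma natDegree_zScale (z : Fˣ) (f : F[X]) : (zScale z f).natDegree = f.natDegree := by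
  rw [zScale, natDegree_C_mul (pow_ne_zero _ z.ne_zero), natDegree_comp,
    natDegree_C_mul (Units.ne_zero _), natDegree_X, mul_one]

lemma coeff_zScale (z : Fˣ) (f : F[X]) (k : ℕ) :
    (zScale z f).coeff k = (z : F) ^ f.natDegree * (f.coeff k * ((z⁻¹ : Fˣ) : F) ^ k) := by
  rw [zScale, coeff_C_mul, comp_C_mul_X_coeff]

lemma monic_zScale (z : Fˣ) {f : F[X]} (hf : f.Monic) : (zScale z f).Monic := by
  rw [Monic, leadingCoeff, natDegree_zScale, coeff_zScale, hf.coeff_natDegree, one_mul, ← mul_pow,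
    ← Units.val_mul, mul_inv_cancel, Units.val_one, one_pow]

lemma zScale_mul (z : Fˣ) {f g : F[X]} (hf : f ≠ 0) (hg : g ≠ 0) :
    zScale z (f * g) = zScale z f * zScale z g := by
  rw [zScale, zScale, zScale, natDegree_mul hf hg, pow_add, C_mul, mul_comp]
  ring

lemma zScale_one (z : Fˣ) : zScale z (1 : F[X]) = 1 := by simp [zScale]

lemma zScale_pow (z : Fˣ) {f : F[X]} (hf : f ≠ 0) (e : ℕ) : zScale z (f ^ e) = zScale z f ^ e := by
  induction e with
  | zero => simp [zScale_one]
  | succ e ih => rw [pow_succ, pow_succ, zScale_mul z (pow_ne_zero e hf) hf, ih]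

lemma zScale_prod (z : Fˣ) (t : Multiset F[X]) (h : ∀ f ∈ t, f ≠ 0) :
    zScale z t.prod = (t.map (zScale z)).prod := by
  induction t using Multiset.induction with
  | empty => simp [zScale_one]
  | cons a t ih =>
    have ht : ∀ f ∈ t, f ≠ 0 := fun f hf => h f (Multiset.mem_cons_of_mem hf)
    rw [Multiset.prod_cons, Multiset.map_cons, Multiset.prod_cons,
      zScale_mul z (h a (Multiset.mem_cons_self _ _))
        (Multiset.prod_ne_zero fun h0 => ht 0 h0 rfl), ih ht]

lemma zScale_inv (z : Fˣ) (f : F[X]) : zScale z⁻¹ (zScale z f) = f := by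
  ext k
  rw [coeff_zScale, natDegree_zScale, coeff_zScale, inv_inv]
  have h1 : ((z⁻¹ : Fˣ) : F) * (z : F) = 1 := by rw [← Units.val_mul, inv_mul_cancel, Units.val_one]
  calc ((z⁻¹ : Fˣ) : F) ^ f.natDegree * ((z : F) ^ f.natDegree * (f.coeff k * ((z⁻¹ : Fˣ) : F) ^ k) * (z : F) ^ k)
      = (((z⁻¹ : Fˣ) : F) * (z : F)) ^ f.natDegree * f.coeff k * (((z⁻¹ : Fˣ) : F) * (z : F)) ^ k := by ring
    _ = f.coeff k := by rw [h1, one_pow, one_pow, one_mul, mul_one]

lemma irreducible_zScale (z : Fˣ) {f : F[X]} (hf : f.Monic) (hi : Irreducible f) :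
    Irreducible (zScale z f) := by
  have hd := hi.natDegree_pos
  refine ⟨fun h => ?_, fun a b hab => ?_⟩
  · have := natDegree_eq_zero_of_isUnit h
    rw [natDegree_zScale] at this; omega
  · have hne : a * b ≠ 0 := hab ▸ (monic_zScale z hf).ne_zero
    obtain ⟨ha, hb⟩ := mul_ne_zero_iff.mp hne
    have h2 := congrArg (zScale z⁻¹) hab
    rw [zScale_inv, zScale_mul _ ha hb] at h2
    rcases hi.isUnit_or_isUnit h2 with h | h
    · left
      rw [isUnit_iff_degree_eq_zero, degree_eq_natDegree ha]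
      have := natDegree_eq_zero_of_isUnit h
      rw [natDegree_zScale] at this
      simp [this]
    · right
      rw [isUnit_iff_degree_eq_zero, degree_eq_natDegree hb]
      have := natDegree_eq_zero_of_isUnit h
      rw [natDegree_zScale] at this
      simp [this]

lemma zScale_eq_X_iff (z : Fˣ) {f : F[X]} : zScale z f = X → f = X := by
  intro h
  have h2 := congrArg (zScale z⁻¹) h
  rw [zScale_inv] at h2
  rw [h2, zScale, natDegree_X, pow_one, X_comp, inv_inv, ← mul_assoc, ← C_mul, ← Units.val_mul,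
    inv_mul_cancel, Units.val_one, C_1, one_mul]

lemma similar_smul_modelEnd (z : Fˣ) {ι : Type*} (f : ι → F[X]) :
    Similar ((z : F) • modelEnd f) (modelEnd fun i => zScale z (f i)) := by
  have hz : ((z⁻¹ : Fˣ) : F) * (z : F) = 1 := by rw [← Units.val_mul, inv_mul_cancel, Units.val_one]
  let fwd : ∀ i, AdjoinRoot (f i) →ₐ[F] AdjoinRoot (zScale z (f i)) := fun i =>
    Ideal.Quotient.liftₐ (Ideal.span {f i})
      (aeval (((z⁻¹ : Fˣ) : F) • AdjoinRoot.root (zScale z (f i)))) (by
        intro b hb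
        obtain ⟨b', rfl⟩ := Ideal.mem_span_singleton.mp hb
        rw [map_mul]
        have : aeval (((z⁻¹ : Fˣ) : F) • AdjoinRoot.root (zScale z (f i))) (f i) = 0 := by
          have h0 : aeval (AdjoinRoot.root (zScale z (f i))) (zScale z (f i)) = 0 :=
            (AdjoinRoot.aeval_eq _).trans AdjoinRoot.mk_self
          conv at h0 => lhs; arg 2; rw [zScale]
          rw [map_mul, aeval_C, aeval_comp, map_mul, aeval_C, aeval_X, ← Algebra.smul_def,
            ← Algebra.smul_def] at h0
          exact (smul_eq_zero.mp h0).resolve_left (pow_ne_zero _ z.ne_zero)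
        rw [this, zero_mul])
  let bwd : ∀ i, AdjoinRoot (zScale z (f i)) →ₐ[F] AdjoinRoot (f i) := fun i =>
    Ideal.Quotient.liftₐ (Ideal.span {zScale z (f i)})
      (aeval ((z : F) • AdjoinRoot.root (f i))) (by
        intro b hb
        obtain ⟨b', rfl⟩ := Ideal.mem_span_singleton.mp hb
        rw [map_mul]
        have : aeval ((z : F) • AdjoinRoot.root (f i)) (zScale z (f i)) = 0 := by
          rw [zScale, map_mul, aeval_comp, map_mul, aeval_C, aeval_C, aeval_X, ← Algebra.smul_def (R := F) (((z⁻¹ : Fˣ) : F)), smul_smul, hz, one_smul,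
            show aeval (AdjoinRoot.root (f i)) (f i) = 0 from (AdjoinRoot.aeval_eq _).trans AdjoinRoot.mk_self,
            mul_zero]
        rw [this, zero_mul])
  have hf_root : ∀ i, fwd i (AdjoinRoot.root (f i)) = ((z⁻¹ : Fˣ) : F) • AdjoinRoot.root (zScale z (f i)) := fun i => by
    show aeval _ (X : F[X]) = _
    rw [aeval_X]
  have hb_root : ∀ i, bwd i (AdjoinRoot.root (zScale z (f i))) = (z : F) • AdjoinRoot.root (f i) := fun i => by
    show aeval _ (X : F[X]) = _
    rw [aeval_X]
  let e : ∀ i, AdjoinRoot (f i) ≃ₐ[F] AdjoinRoot (zScale z (f i)) := fun i =>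
    AlgEquiv.ofAlgHom (fwd i) (bwd i)
      (AdjoinRoot.algHom_ext (by rw [AlgHom.comp_apply, hb_root, map_smul, hf_root, smul_smul, mul_comm, hz, one_smul]; rfl))
      (AdjoinRoot.algHom_ext (by rw [AlgHom.comp_apply, hf_root, map_smul, hb_root, smul_smul, hz, one_smul]; rfl))
  refine ⟨LinearEquiv.piCongrRight fun i => (e i).toLinearEquiv, fun v => ?_⟩
  funext i
  show e i ((z : F) • (AdjoinRoot.root (f i) * v i)) = AdjoinRoot.root (zScale z (f i)) * e i (v i)
  rw [map_smul, map_mul, show e i (AdjoinRoot.root (f i)) = fwd i (AdjoinRoot.root (f i)) from rfl,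
    hf_root, smul_mul_assoc, smul_smul, mul_comm, hz, one_smul]

variable {n : ℕ}

/-- `(-1)^deg * constant`. -/
noncomputable def cTerm (f : F[X]) : F := (-1) ^ f.natDegree * f.coeff 0

lemma cTerm_one : cTerm (1 : F[X]) = 1 := by simp [cTerm]

lemma cTerm_mul {f g : F[X]} (hf : f ≠ 0) (hg : g ≠ 0) : cTerm (f * g) = cTerm f * cTerm g := by
  rw [cTerm, cTerm, cTerm, natDegree_mul hf hg, pow_add, mul_coeff_zero]
  ring

lemma cTerm_prod (t : Multiset F[X]) (h : ∀ f ∈ t, f ≠ 0) : cTerm t.prod = (t.map cTerm).prod := by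
  induction t using Multiset.induction with
  | empty => simp [cTerm_one]
  | cons a t ih =>
    have ht : ∀ f ∈ t, f ≠ 0 := fun f hf => h f (Multiset.mem_cons_of_mem hf)
    rw [Multiset.prod_cons, Multiset.map_cons, Multiset.prod_cons,
      cTerm_mul (h a (Multiset.mem_cons_self _ _)) (Multiset.prod_ne_zero fun h0 => ht 0 h0 rfl), ih ht]

lemma cTerm_pow {f : F[X]} (hf : f ≠ 0) (e : ℕ) : cTerm (f ^ e) = cTerm f ^ e := by
  induction e with
  | zero => simp [cTerm_one]
  | succ e ih => rw [pow_succ, pow_succ, cTerm_mul (pow_ne_zero e hf) hf, ih]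

/-- The determinant attached to a sequence. -/
noncomputable def seqDet {m : ℕ} (g : Fin m → F[X]) : F := ∏ j, cTerm (g j) ^ (j.val + 1)

lemma seqFun_ne_zero (s : EDiv F n) (j : Fin n) : seqFun s.1 j ≠ 0 :=
  (((edivSeqEquiv n) s).2.1 j).1.ne_zero

lemma det_glOfEDiv (s : EDiv F n) :
    ((glOfEDiv s : GL (Fin n) F) : Matrix (Fin n) (Fin n) F).det = seqDet (seqFun (n := n) s.1) := by
  classical
  have hm := edFam_monic s.1 fun x hx => (s.2.1 x hx).1
  have h := (similar_glOfEDiv s).det_eq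
  rw [glEnd, LinearMap.det_toLin'] at h
  rw [h, det_modelEnd _ hm, Finset.prod_eq_multiset_prod,
    show (Finset.univ.val.map fun i => (-1) ^ (edFam s.1 i).natDegree * (edFam s.1 i).coeff 0) =
      (Finset.univ.val.map (edFam s.1)).map cTerm by rw [Multiset.map_map]; rfl,
    univ_map_edFam, Multiset.map_map]
  conv_lhs => rw [← bind_filter_snd (n := n) s.1 fun x hx =>
    ⟨(s.2.1 x hx).2.2.2, snd_le_of_isEDiv s.2 hx⟩, Multiset.map_bind, Multiset.prod_bind,
    ← Finset.prod_eq_multiset_prod]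
  refine Finset.prod_congr rfl fun j _ => ?_
  rw [seqFun, cTerm_prod _ (fun f hf => by
    obtain ⟨x, hx, rfl⟩ := Multiset.mem_map.mp hf
    exact (s.2.1 x (Multiset.mem_of_mem_filter hx)).1.ne_zero), Multiset.map_map, ← Multiset.prod_map_pow]
  refine congrArg Multiset.prod (Multiset.map_congr rfl fun x hx => ?_)
  obtain ⟨hx1, hx2⟩ := Multiset.mem_filter.mp hx
  rw [Function.comp_apply, cTerm_pow (s.2.1 x hx1).1.ne_zero, hx2]
  rfl

/-- Elementary divisors of a scalar multiple. -/
lemma scale_map_eq_of_fixed (z : Fˣ) (s : EDiv F n) (g g' : GL (Fin n) F)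
    (hg : ConjClasses.mk g = glClassEquiv s) (hg' : ConjClasses.mk g' = glClassEquiv s)
    (hzg : (g' : Matrix (Fin n) (Fin n) F) = (z : F) • (g : Matrix (Fin n) (Fin n) F)) :
    s.1.map (fun x => (zScale z x.1, x.2)) = s.1 := by
  classical
  obtain ⟨e, he⟩ := (mk_eq_glClassEquiv_iff g s).mp hg
  have h1 : Similar (glEnd g') ((z : F) • modelEnd (edFam s.1)) := by
    refine ⟨e, fun v => ?_⟩
    rw [glEnd, hzg, map_smul, LinearMap.smul_apply, map_smul]
    show (z : F) • e (glEnd g v) = _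
    rw [he]; rfl
  have h2 : Similar (modelEnd fun i => zScale z (edFam s.1 i))
      (modelEnd (edFam (s.1.map fun x => (zScale z x.1, x.2)))) := by
    apply similar_of_sameMultiset
    rw [univ_map_edFam, Multiset.map_map,
      show (Finset.univ.val.map fun i => zScale z (edFam s.1 i)) =
        (Finset.univ.val.map (edFam s.1)).map (zScale z) by rw [Multiset.map_map]; rfl,
      univ_map_edFam, Multiset.map_map]
    exact Multiset.map_congr rfl fun x hx => zScale_pow z (s.2.1 x hx).1.ne_zero x.2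
  refine ediv_unique _ s.1 (fun x hx => ?_) (fun x hx => ⟨(s.2.1 x hx).1, (s.2.1 x hx).2.1, (s.2.1 x hx).2.2.2⟩) ?_
  · obtain ⟨y, hy, rfl⟩ := Multiset.mem_map.mp hx
    exact ⟨monic_zScale z (s.2.1 y hy).1, irreducible_zScale z (s.2.1 y hy).1 (s.2.1 y hy).2.1, (s.2.1 y hy).2.2.2⟩
  · exact h2.symm.trans ((similar_smul_modelEnd z (edFam s.1)).symm.trans
      (h1.symm.trans ((mk_eq_glClassEquiv_iff g' s).mp hg')))

lemma zScale_seqFun (z : Fˣ) (s : EDiv F n)
    (h : s.1.map (fun x => (zScale z x.1, x.2)) = s.1) (j : Fin n) :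
    zScale z (seqFun s.1 j) = seqFun s.1 j := by
  classical
  rw [seqFun, zScale_prod _ _ (fun f hf => by
    obtain ⟨x, hx, rfl⟩ := Multiset.mem_map.mp hf
    exact (s.2.1 x (Multiset.mem_of_mem_filter hx)).1.ne_zero), Multiset.map_map]
  conv_rhs => rw [← h, Multiset.filter_map, Multiset.map_map]
  rfl

end H41
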