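import Mathlib
import Cfsg.Agent.H41.Scale
import Cfsg.Agent.H41.CentralDet

/-! Classes of `SL n q` and `PSL n q` over classes of `GL n q`. -/

set_option autoImplicit false

open Polynomial

namespace H41

variable {F : Type*} [Field F] [Fintype F] {n : ℕ}

local notation "SLn" => Matrix.SpecialLinearGroup (Fin n) F
local notation "GLn" => GL (Fin n) F

/-- Scalar matrices of determinant one. -/
def scalarSL : rootsOfUnity n F →* SLn where
  toFun z := ⟨Matrix.scalar (Fin n) ((z : Fˣ) : F), by
    rw [Matrix.scalar_apply, Matrix.det_diagonal, Finset.prod_const, Finset.card_univ,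
      Fintype.card_fin, ← Units.val_pow_eq_pow_val, (mem_rootsOfUnity n (z : Fˣ)).mp z.2, Units.val_one]⟩
  map_one' := Subtype.ext (by simp)
  map_mul' a b := Subtype.ext (by
    show Matrix.scalar (Fin n) _ = Matrix.scalar (Fin n) _ * Matrix.scalar (Fin n) _
    rw [← map_mul]; rfl)

lemma scalarSL_comm (z : rootsOfUnity n F) (x : SLn) : scalarSL z * x = x * scalarSL z :=
  Subtype.ext ((Matrix.scalar_commute _ (fun _ => Commute.all _ _) x.val).eq)

/-- Multiplication of classes by scalars. -/
def classSMul (z : rootsOfUnity n F) : ConjClasses SLn → ConjClasses SLn :=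
  Quotient.map (fun x => scalarSL z * x) (by
    intro x y h
    obtain ⟨c, hc⟩ := isConj_iff.mp (h : IsConj x y)
    refine isConj_iff.mpr ⟨c, ?_⟩
    show c * (scalarSL z * x) * c⁻¹ = scalarSL z * y
    rw [← mul_assoc c, ← scalarSL_comm z c, ← hc, mul_assoc (scalarSL z), mul_assoc (scalarSL z)])

lemma classSMul_mk (z : rootsOfUnity n F) (x : SLn) :
    classSMul z (ConjClasses.mk x) = ConjClasses.mk (scalarSL z * x) := rfl

/-- The action of scalars on classes. -/
@[reducible] def classAction : MulAction (rootsOfUnity n F) (ConjClasses SLn) where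
  smul := classSMul
  one_smul C := by
    obtain ⟨x, rfl⟩ := ConjClasses.mk_surjective C
    show classSMul 1 _ = _
    rw [classSMul_mk, map_one, one_mul]
  mul_smul a b C := by
    obtain ⟨x, rfl⟩ := ConjClasses.mk_surjective C
    show classSMul (a * b) _ = classSMul a (classSMul b _)
    rw [classSMul_mk, classSMul_mk, classSMul_mk, map_mul, mul_assoc]

/-- Number of classes fixed by a scalar. -/
noncomputable def fixCount (z : rootsOfUnity n F) : ℕ :=
  Nat.card {C : ConjClasses SLn // classSMul z C = C}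

lemma fixCount_one : fixCount (1 : rootsOfUnity n F) = Nat.card (ConjClasses SLn) := by
  refine Nat.card_congr (Equiv.subtypeUnivEquiv fun C => ?_)
  obtain ⟨x, rfl⟩ := ConjClasses.mk_surjective C
  rw [classSMul_mk, map_one, one_mul]

theorem card_PSL_classes_mul (hn : 0 < n) :
    ∀ [Fintype (rootsOfUnity n F)], Nat.card (ConjClasses (Matrix.ProjectiveSpecialLinearGroup (Fin n) F)) *
      Fintype.card (rootsOfUnity n F) = ∑ z : rootsOfUnity n F, fixCount z := by
  intro _
  classical
  haveI : Nonempty (Fin n) := ⟨⟨0, hn⟩⟩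
  letI := classAction (F := F) (n := n)
  haveI : Fintype (ConjClasses SLn) := Fintype.ofFinite _
  haveI : Fintype (MulAction.orbitRel.Quotient (rootsOfUnity n F) (ConjClasses SLn)) := Fintype.ofFinite _
  have hB := MulAction.sum_card_fixedBy_eq_card_orbits_mul_card_group (rootsOfUnity n F) (ConjClasses SLn)
  let Ψ : ConjClasses SLn → ConjClasses (Matrix.ProjectiveSpecialLinearGroup (Fin n) F) :=
    ConjClasses.map (QuotientGroup.mk' (Subgroup.center SLn))
  have hΨ : ∀ a b, Ψ a = Ψ b ↔ MulAction.orbitRel (rootsOfUnity n F) (ConjClasses SLn) a b := by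
    intro a b
    obtain ⟨x, rfl⟩ := ConjClasses.mk_surjective a
    obtain ⟨y, rfl⟩ := ConjClasses.mk_surjective b
    rw [MulAction.orbitRel_apply, MulAction.mem_orbit_iff]
    constructor
    · intro h
      obtain ⟨c, hc⟩ := isConj_iff.mp (ConjClasses.mk_eq_mk_iff_isConj.mp h)
      obtain ⟨c, rfl⟩ := QuotientGroup.mk_surjective c
      simp only [QuotientGroup.mk'_apply, ← QuotientGroup.mk_mul, ← QuotientGroup.mk_inv] at hc
      rw [QuotientGroup.eq, Matrix.SpecialLinearGroup.mem_center_iff] at hc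
      obtain ⟨r, hr, hr2⟩ := hc
      rw [Fintype.card_fin] at hr
      have hr0 : r ≠ 0 := fun h0 => by rw [h0, zero_pow hn.ne'] at hr; exact zero_ne_one hr
      have hmem : Units.mk0 r hr0 ∈ rootsOfUnity n F := by
        rw [mem_rootsOfUnity]; exact Units.ext hr
      have hz : scalarSL ⟨_, hmem⟩ = (c * x * c⁻¹)⁻¹ * y := Subtype.ext hr2
      refine ⟨(⟨_, hmem⟩ : rootsOfUnity n F)⁻¹, ?_⟩
      show classSMul _ (ConjClasses.mk y) = ConjClasses.mk x
      rw [classSMul_mk, ConjClasses.mk_eq_mk_iff_isConj, map_inv]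
      refine (isConj_iff.mpr ⟨c, ?_⟩).symm
      have hy : y = c * x * c⁻¹ * scalarSL ⟨_, hmem⟩ := by rw [hz]; group
      rw [hy, ← scalarSL_comm, inv_mul_cancel_left]
    · rintro ⟨z, hz⟩
      have hz' : classSMul z (ConjClasses.mk y) = ConjClasses.mk x := hz
      rw [← hz', classSMul_mk]
      refine congrArg ConjClasses.mk ?_
      show QuotientGroup.mk (scalarSL z * y) = (QuotientGroup.mk y : SLn ⧸ Subgroup.center SLn)
      rw [QuotientGroup.mk_mul, (QuotientGroup.eq_one_iff _).mpr
        (Subgroup.mem_center_iff.mpr fun g => (scalarSL_comm z g).symm), one_mul]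
  let e : MulAction.orbitRel.Quotient (rootsOfUnity n F) (ConjClasses SLn) ≃
      ConjClasses (Matrix.ProjectiveSpecialLinearGroup (Fin n) F) :=
    Equiv.ofBijective (Quotient.lift Ψ fun a b h => (hΨ a b).mpr h) (by
      constructor
      · intro a b
        induction a using Quotient.inductionOn
        induction b using Quotient.inductionOn
        intro h
        exact Quotient.sound ((hΨ _ _).mp h)
      · intro C
        obtain ⟨a, ha⟩ := ConjClasses.map_surjective (QuotientGroup.mk'_surjective (Subgroup.center SLn)) C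
        exact ⟨Quotient.mk _ a, ha⟩)
  rw [← Nat.card_congr e, Nat.card_eq_fintype_card, ← hB]
  refine Finset.sum_congr rfl fun z _ => ?_
  rw [fixCount, Nat.card_eq_fintype_card]
  exact Fintype.card_congr (Equiv.refl _)

/-- The number of `SL`-classes inside one `GL`-class divides into `gcd (q-1) (parts)`. -/
noncomputable def deltaED (s : EDiv F n) : ℕ :=
  Nat.gcd (Fintype.card F - 1) (s.1.map Prod.snd).gcd

lemma exists_det_centralizer (g : GLn) (s : EDiv F n) (h : ConjClasses.mk g = glClassEquiv s)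
    (a : Fˣ) : ∃ c : GLn, Commute c g ∧ Matrix.GeneralLinearGroup.det c = a ^ deltaED s := by
  classical
  let H : Subgroup Fˣ := (Subgroup.centralizer ({g} : Set GLn)).map Matrix.GeneralLinearGroup.det
  suffices ha : a ^ deltaED s ∈ H by
    obtain ⟨c, hc, hc'⟩ := Subgroup.mem_map.mp ha
    exact ⟨c, (Subgroup.mem_centralizer_singleton_iff.mp hc), hc'⟩
  have hgcd : ∀ k l : ℕ, (∀ b : Fˣ, b ^ k ∈ H) → (∀ b : Fˣ, b ^ l ∈ H) →
      ∀ b : Fˣ, b ^ Nat.gcd k l ∈ H := by
    intro k l hk hl b
    rw [← zpow_natCast, Nat.gcd_eq_gcd_ab, zpow_add, zpow_mul, zpow_mul, zpow_natCast, zpow_natCast]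
    exact H.mul_mem (H.zpow_mem (hk b) _) (H.zpow_mem (hl b) _)
  have hparts : ∀ t : Multiset ℕ, (∀ e ∈ t, ∀ b : Fˣ, b ^ e ∈ H) → ∀ b : Fˣ, b ^ t.gcd ∈ H := by
    intro t
    induction t using Multiset.induction with
    | empty => intro _ b; simp
    | cons e t ih =>
      intro ht
      rw [Multiset.gcd_cons]
      exact hgcd e t.gcd (ht e (Multiset.mem_cons_self _ _)) (ih fun e' he' => ht e' (Multiset.mem_cons_of_mem he'))
  refine hgcd _ _ (fun b => ?_) (hparts _ fun e he b => ?_) a
  · rw [← Fintype.card_units, pow_card_eq_one]; exact H.one_mem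
  · obtain ⟨x, hx, rfl⟩ := Multiset.mem_map.mp he
    obtain ⟨c, hc, hcd⟩ := exists_commute_det_eq_pow g s h x hx b
    exact Subgroup.mem_map.mpr ⟨c, Subgroup.mem_centralizer_singleton_iff.mpr hc, hcd⟩

lemma det_toGL (x : SLn) : Matrix.GeneralLinearGroup.det (Matrix.SpecialLinearGroup.toGL x) = 1 :=
  Units.ext x.prop

theorem fibre_card_le (s : EDiv F n) :
    Nat.card {C : ConjClasses SLn // C.map Matrix.SpecialLinearGroup.toGL = glClassEquiv s} ≤ deltaED s := by
  classical
  rcases isEmpty_or_nonempty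
    {C : ConjClasses SLn // C.map Matrix.SpecialLinearGroup.toGL = glClassEquiv s} with h | ⟨⟨C₀, hC₀⟩⟩
  · simp [Nat.card_of_isEmpty]
  obtain ⟨g, rfl⟩ := ConjClasses.mk_surjective C₀
  have hg : ConjClasses.mk (Matrix.SpecialLinearGroup.toGL g) = glClassEquiv s := hC₀
  let P : Subgroup Fˣ := (powMonoidHom (deltaED s) : Fˣ →* Fˣ).range
  rcases Nat.eq_zero_or_pos n with h0 | hn
  · have hs0 : s.1 = 0 := by
      refine Multiset.eq_zero_of_forall_notMem fun x hx => ?_
      have h2 := (s.2.1 x hx).2.2.2.trans_le (snd_le_of_isEDiv s.2 hx)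
      omega
    have h1 : Subsingleton {C : ConjClasses SLn // C.map Matrix.SpecialLinearGroup.toGL = glClassEquiv s} := by
      constructor
      intro a b
      obtain ⟨x, hx⟩ := ConjClasses.mk_surjective a.1
      obtain ⟨y, hy⟩ := ConjClasses.mk_surjective b.1
      apply Subtype.ext
      rw [← hx, ← hy, show x = y from Subtype.ext (Matrix.ext fun i => absurd i.isLt (by omega))]
    refine (Finite.card_le_one_iff_subsingleton.mpr h1).trans ?_
    rw [deltaED, hs0, Multiset.map_zero, Multiset.gcd_zero, Nat.gcd_zero_right]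
    have := Fintype.one_lt_card (α := F)
    omega
  let σ : Fˣ ⧸ P → GLn := fun c =>
    Matrix.GeneralLinearGroup.mkOfDetNeZero
      (Matrix.diagonal (Function.update (fun _ => 1) (⟨0, hn⟩ : Fin n) (c.out : F)))
      (by rw [Matrix.det_diagonal]; simp [Finset.prod_update_of_mem])
  have hσ : ∀ c, Matrix.GeneralLinearGroup.det (σ c) = c.out := fun c => by
    ext
    show (Matrix.diagonal _).det = _
    rw [Matrix.det_diagonal]
    simp [Finset.prod_update_of_mem]
  let conjSL : Fˣ ⧸ P → SLn := fun c =>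
    ⟨(σ c * Matrix.SpecialLinearGroup.toGL g * (σ c)⁻¹ : GLn).val, by
      rw [← Matrix.GeneralLinearGroup.val_det_apply, map_mul, map_mul, det_toGL, map_inv, mul_one,
        mul_inv_cancel, Units.val_one]⟩
  have hconj : ∀ c, Matrix.SpecialLinearGroup.toGL (conjSL c) =
      σ c * Matrix.SpecialLinearGroup.toGL g * (σ c)⁻¹ := fun c => Units.ext rfl
  let f : Fˣ ⧸ P → {C : ConjClasses SLn // C.map Matrix.SpecialLinearGroup.toGL = glClassEquiv s} :=
    fun c => ⟨ConjClasses.mk (conjSL c), by
      rw [← hg]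
      show ConjClasses.mk (Matrix.SpecialLinearGroup.toGL (conjSL c)) = _
      rw [hconj]
      exact ConjClasses.mk_eq_mk_iff_isConj.mpr (isConj_iff.mpr ⟨σ c, rfl⟩).symm⟩
  have hf : Function.Surjective f := by
    rintro ⟨C, hC⟩
    obtain ⟨x, rfl⟩ := ConjClasses.mk_surjective C
    have hx : ConjClasses.mk (Matrix.SpecialLinearGroup.toGL x) = ConjClasses.mk (Matrix.SpecialLinearGroup.toGL g) :=
      hC.trans hg.symm
    obtain ⟨w, hw⟩ := isConj_iff.mp (ConjClasses.mk_eq_mk_iff_isConj.mp hx.symm)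
    let c : Fˣ ⧸ P := QuotientGroup.mk (Matrix.GeneralLinearGroup.det w)
    refine ⟨c, Subtype.ext ?_⟩
    show ConjClasses.mk (conjSL c) = ConjClasses.mk x
    have hmem : c.out⁻¹ * Matrix.GeneralLinearGroup.det w ∈ P :=
      QuotientGroup.eq.mp (QuotientGroup.out_eq' c)
    obtain ⟨a, ha⟩ := hmem
    obtain ⟨cc, hcc, hccd⟩ := exists_det_centralizer _ s hg a
    have hdet1 : Matrix.GeneralLinearGroup.det (w * cc⁻¹ * (σ c)⁻¹) = 1 := by
      rw [map_mul, map_mul, map_inv, map_inv, hσ, hccd]
      rw [powMonoidHom_apply] at ha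
      rw [ha, mul_inv_rev, inv_inv]
      group
    let u : SLn := ⟨(w * cc⁻¹ * (σ c)⁻¹ : GLn).val, by
      rw [← Matrix.GeneralLinearGroup.val_det_apply, hdet1, Units.val_one]⟩
    have hu : Matrix.SpecialLinearGroup.toGL u = w * cc⁻¹ * (σ c)⁻¹ := Units.ext rfl
    refine ConjClasses.mk_eq_mk_iff_isConj.mpr (isConj_iff.mpr ⟨u, ?_⟩)
    apply Matrix.SpecialLinearGroup.toGL_injective
    rw [map_mul, map_mul, map_inv, hu, hconj, ← hw]
    calc w * cc⁻¹ * (σ c)⁻¹ * (σ c * Matrix.SpecialLinearGroup.toGL g * (σ c)⁻¹) * (w * cc⁻¹ * (σ c)⁻¹)⁻¹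
        = w * (cc⁻¹ * Matrix.SpecialLinearGroup.toGL g * cc) * w⁻¹ := by group
      _ = w * Matrix.SpecialLinearGroup.toGL g * w⁻¹ := by
        rw [mul_assoc cc⁻¹, ← hcc.eq, inv_mul_cancel_left]
  refine (Nat.card_le_card_of_surjective f hf).trans ?_
  have : Nat.card (Fˣ ⧸ P) = P.index := (Subgroup.index_eq_card P).symm
  rw [this, IsCyclic.index_powMonoidHom_range]
  exact Nat.gcd_le_right _ (Nat.pos_of_ne_zero fun h0 => by
    rw [deltaED, Nat.gcd_eq_zero_iff] at h0
    have := Fintype.one_lt_card (α := F)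
    omega)

open Classical in
/-- Scale-invariant data with determinant one and all parts divisible by `e`. -/
noncomputable def fixedCount (z : rootsOfUnity n F) (e : ℕ) : ℕ :=
  Nat.card {s : EDiv F n // s.1.map (fun x => (zScale (z : Fˣ) x.1, x.2)) = s.1 ∧
    seqDet (seqFun (n := n) s.1) = 1 ∧ ∀ x ∈ s.1, e ∣ x.2}

theorem fixCount_le (hn : 0 < n) (z : rootsOfUnity n F) :
    fixCount z ≤ ∑ e ∈ (Nat.gcd n (Fintype.card F - 1)).divisors, e.totient * fixedCount z e := by
  classical
  haveI : Nonempty (Fin n) := ⟨⟨0, hn⟩⟩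
  haveI : Finite (EDiv F n) := Finite.of_equiv _ (glClassEquiv (F := F) (n := n)).symm
  haveI : Fintype (EDiv F n) := Fintype.ofFinite _
  set good : EDiv F n → Prop := fun s => s.1.map (fun x => (zScale (z : Fˣ) x.1, x.2)) = s.1 ∧
    seqDet (seqFun (n := n) s.1) = 1
  let π : {C : ConjClasses SLn // classSMul z C = C} → EDiv F n := fun C =>
    glClassEquiv.symm (C.1.map Matrix.SpecialLinearGroup.toGL)
  haveI : Fintype {C : ConjClasses SLn // classSMul z C = C} := Fintype.ofFinite _
  have hgood : ∀ C, good (π C) := by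
    rintro ⟨C, hC⟩
    obtain ⟨x, rfl⟩ := ConjClasses.mk_surjective C
    obtain ⟨s, hsdef⟩ : ∃ s, s = π ⟨ConjClasses.mk x, hC⟩ := ⟨_, rfl⟩
    rw [← hsdef]
    have hs : ConjClasses.mk (Matrix.SpecialLinearGroup.toGL x) = glClassEquiv s := by
      rw [hsdef]; exact (glClassEquiv.apply_symm_apply _).symm
    refine ⟨scale_map_eq_of_fixed (z : Fˣ) s (Matrix.SpecialLinearGroup.toGL x)
      (Matrix.SpecialLinearGroup.toGL (scalarSL z * x)) hs ?_ ?_, ?_⟩
    · rw [← hs]
      exact congrArg (ConjClasses.map Matrix.SpecialLinearGroup.toGL) ((classSMul_mk z x).symm.trans hC)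
    · show (Matrix.scalar (Fin n) ((z : Fˣ) : F)) * x.val = _
      rw [Matrix.scalar_apply, ← Matrix.smul_eq_diagonal_mul]
      rfl
    · rw [← det_glOfEDiv]
      rw [glClassEquiv_apply, ConjClasses.mk_eq_mk_iff_isConj] at hs
      obtain ⟨c, hc⟩ := isConj_iff.mp hs
      rw [← hc, ← Matrix.GeneralLinearGroup.val_det_apply, map_mul, map_mul, det_toGL, map_inv, mul_one,
        mul_inv_cancel, Units.val_one]
  have h1 : fixCount z ≤ ∑ s ∈ Finset.univ.filter good, deltaED s := by
    rw [fixCount, Nat.card_eq_fintype_card, ← Finset.card_univ,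
      Finset.card_eq_sum_card_fiberwise (f := π) (t := Finset.univ.filter good)
        (fun C _ => by simpa using hgood C)]
    refine Finset.sum_le_sum fun s _ => ?_
    refine le_trans ?_ (fibre_card_le s)
    rw [← Fintype.card_coe, ← Nat.card_eq_fintype_card]
    refine Nat.card_le_card_of_injective (fun C => ⟨C.1.1, ?_⟩) ?_
    · have := (Finset.mem_filter.mp C.2).2
      exact (glClassEquiv.apply_symm_apply _).symm.trans (congrArg glClassEquiv this)
    · intro a b hab
      exact Subtype.ext (Subtype.ext (congrArg Subtype.val hab :))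
  refine h1.trans (le_of_eq ?_)
  have hdelta : ∀ s : EDiv F n, deltaED s ∣ Nat.gcd n (Fintype.card F - 1) := fun s => by
    refine Nat.dvd_gcd ?_ (Nat.gcd_dvd_left _ _)
    conv_rhs => rw [← s.2.2]
    refine Multiset.dvd_sum fun k hk => ?_
    obtain ⟨x, hx, rfl⟩ := Multiset.mem_map.mp hk
    exact ((Nat.gcd_dvd_right _ _).trans (Multiset.gcd_dvd (Multiset.mem_map_of_mem _ hx))).mul_left _
  have hd0 : Nat.gcd n (Fintype.card F - 1) ≠ 0 := (Nat.gcd_pos_of_pos_left _ hn).ne'
  calc ∑ s ∈ Finset.univ.filter good, deltaED s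
      = ∑ s ∈ Finset.univ.filter good,
          ∑ e ∈ (Nat.gcd n (Fintype.card F - 1)).divisors.filter (· ∣ deltaED s), e.totient := by
        refine Finset.sum_congr rfl fun s _ => ?_
        rw [Nat.divisors_filter_dvd_of_dvd hd0 (hdelta s), Nat.sum_totient]
    _ = ∑ e ∈ (Nat.gcd n (Fintype.card F - 1)).divisors,
          ∑ s ∈ (Finset.univ.filter good).filter (fun s => e ∣ deltaED s), e.totient :=
        Finset.sum_comm' (by intro s e; simp; tauto)
    _ = _ := by
        refine Finset.sum_congr rfl fun e he => ?_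
        rw [Finset.sum_const, smul_eq_mul, mul_comm, fixedCount, Nat.card_eq_fintype_card,
          Fintype.card_subtype, Finset.filter_filter]
        congr 2
        refine Finset.filter_congr fun s _ => ?_
        have heq : e ∣ Fintype.card F - 1 :=
          (Nat.dvd_of_mem_divisors he).trans (Nat.gcd_dvd_right _ _)
        rw [deltaED, Nat.dvd_gcd_iff, Multiset.dvd_gcd]
        simp only [Multiset.mem_map, forall_exists_index, and_imp, forall_apply_eq_imp_iff₂, heq,
          true_and, good, and_assoc]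

end H41
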