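import Mathlib
import Cfsg.Agent.H41.SLClasses
import Cfsg.Agent.H41.GLCount

/-! Bounds for sequences with prescribed determinant. -/

set_option autoImplicit false

open Polynomial

namespace H41

variable {F : Type*} [Field F]

lemma cTerm_ne_zero {f : F[X]} (hf : f.coeff 0 ≠ 0) : cTerm f ≠ 0 :=
  mul_ne_zero (pow_ne_zero _ (neg_ne_zero.mpr one_ne_zero)) hf

lemma seqDet_ne_zero {m n : ℕ} (g : PSeq F m n) : seqDet g.1 ≠ 0 :=
  Finset.prod_ne_zero_iff.mpr fun j _ => pow_ne_zero _ (cTerm_ne_zero (g.2.1 j).2)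

lemma eq_of_natDegree_eq_one {f g : F[X]} (hf : f.Monic) (hg : g.Monic) (hfd : f.natDegree = 1)
    (hgd : g.natDegree = 1) (h : cTerm f = cTerm g) : f = g := by
  rw [hf.eq_X_add_C hfd, hg.eq_X_add_C hgd]
  simp only [cTerm, hfd, hgd] at h
  rw [mul_left_cancel₀ (by simp) h]

/-- A sequence with at most one nontrivial entry. -/
noncomputable def single {m : ℕ} (j : Fin m) (f : F[X]) : Fin m → F[X] :=
  Function.update (fun _ => 1) j f

lemma single_mem {m n : ℕ} (j : Fin m) {d : ℕ} (f : NZPoly F d) (h : (j.val + 1) * d = n) :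
    (∀ i, (single j f.1 i).Monic ∧ (single j f.1 i).coeff 0 ≠ 0) ∧
      ∑ i : Fin m, (i.val + 1) * (single j f.1 i).natDegree = n := by
  constructor
  · intro i
    rcases eq_or_ne i j with rfl | hi
    · simp [single, f.2.1, f.2.2.1]
    · simp [single, hi, monic_one]
  · rw [Finset.sum_eq_single j]
    · simp [single, f.2.2.2, h]
    · intro i _ hi; simp [single, hi]
    · simp

/-- `single` as an element of `PSeq`. -/
noncomputable def singleSeq {m n : ℕ} (j : Fin m) {d : ℕ} (f : NZPoly F d) (h : (j.val + 1) * d = n) :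
    PSeq F m n :=
  ⟨single j f.1, single_mem j f h⟩

variable [Fintype F]

/-- Sequences of weight `m` with `seqDet ^ e = a`. -/
noncomputable def zCount (F : Type*) [Field F] (m e : ℕ) (a : F) : ℕ :=
  Nat.card {h : PSeq F m m // seqDet h.1 ^ e = a}

lemma card_pow_eq_le (e : ℕ) (he : 0 < e) (a : F) (ha : a ≠ 0) :
    Nat.card {x : F // x ^ e = a} ≤ Nat.gcd (Fintype.card F - 1) e := by
  classical
  rcases isEmpty_or_nonempty {x : F // x ^ e = a} with h | ⟨⟨x₀, hx₀⟩⟩
  · simp
  have hne : ∀ x : F, x ^ e = a → x ≠ 0 := fun x hx h0 => ha (by rw [← hx, h0, zero_pow he.ne'])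
  rw [← Fintype.card_units, ← Nat.card_eq_fintype_card, ← IsCyclic.card_powMonoidHom_ker]
  refine Nat.card_le_card_of_injective
    (fun x => ⟨Units.mk0 x.1 (hne _ x.2) / Units.mk0 x₀ (hne _ hx₀), ?_⟩) ?_
  · rw [MonoidHom.mem_ker, powMonoidHom_apply, div_pow, div_eq_one]
    ext
    simp [x.2, hx₀]
  · intro x y hxy
    have h := congrArg Subtype.val hxy
    simp only [div_left_inj] at h
    exact Subtype.ext (congrArg Units.val h :)

lemma zCount_le_seqCount (m e : ℕ) (a : F) : zCount F m e a ≤ seqCount F m m :=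
  Nat.card_le_card_of_injective _ Subtype.val_injective

lemma seqCount_le_pow (m : ℕ) : seqCount F m m ≤ Fintype.card F ^ m := by
  have := (seqCount_bound F m m).1
  exact_mod_cast this

lemma zCount_le_pow (m e : ℕ) (a : F) : zCount F m e a ≤ Fintype.card F ^ m :=
  (zCount_le_seqCount m e a).trans (seqCount_le_pow m)

lemma natDegree_last_one (g : PSeq F 1 1) : (g.1 0).natDegree = 1 := by simpa using g.2.2

lemma zCount_one (e : ℕ) (he : 0 < e) (a : F) (ha : a ≠ 0) : zCount F 1 e a ≤ Nat.gcd (Fintype.card F - 1) e := by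
  refine le_trans ?_ (card_pow_eq_le e he a ha)
  refine Nat.card_le_card_of_injective (fun h => ⟨seqDet h.1.1, h.2⟩) fun h h' hh => ?_
  have h1 := congrArg Subtype.val hh
  simp only [seqDet, Fin.prod_univ_one, Fin.val_zero, zero_add, pow_one] at h1
  refine Subtype.ext (Subtype.ext (funext fun j => ?_))
  rw [Fin.fin_one_eq_zero j]
  exact eq_of_natDegree_eq_one (h.1.2.1 0).1 (h'.1.2.1 0).1 (natDegree_last_one _) (natDegree_last_one _) h1

/-- Sequences with `g 0 ≠ 1`. -/
noncomputable def topCount (F : Type*) [Field F] (k : ℕ) : ℕ :=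
  Nat.card {g : PSeq F (k + 1) (k + 1) // g.1 0 ≠ 1}

/-- Sequences with `g 0 = 1`. -/
noncomputable def lowCount (F : Type*) [Field F] (k : ℕ) : ℕ :=
  Nat.card {g : PSeq F (k + 1) (k + 1) // g.1 0 = 1}

/-- Sequences with `g 0 = 1` and given determinant power. -/
noncomputable def lowDet (F : Type*) [Field F] (k e : ℕ) (a : F) : ℕ :=
  Nat.card {g : PSeq F (k + 1) (k + 1) // g.1 0 = 1 ∧ seqDet g.1 ^ e = a}

lemma top_add_low (k : ℕ) : topCount F k + lowCount F k = seqCount F (k + 1) (k + 1) := by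
  classical
  haveI : Fintype (PSeq F (k + 1) (k + 1)) := Fintype.ofFinite _
  rw [topCount, lowCount, seqCount, Nat.card_eq_fintype_card, Nat.card_eq_fintype_card,
    Nat.card_eq_fintype_card, Fintype.card_subtype_compl, Nat.sub_add_cancel (Fintype.card_subtype_le _)]

lemma lowDet_le_low (k e : ℕ) (a : F) : lowDet F k e a ≤ lowCount F k :=
  Nat.card_le_card_of_injective (fun g => ⟨g.1, g.2.1⟩)
    (fun _ _ h => Subtype.ext (congrArg Subtype.val h :))

/-- Replace the constant term of the first polynomial. -/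
noncomputable def setConst {k : ℕ} (g : Fin (k + 1) → F[X]) (c : F) : Fin (k + 1) → F[X] :=
  Function.update g 0 (g 0 + C (c - (g 0).coeff 0))

lemma setConst_props {k : ℕ} (g : PSeq F (k + 1) (k + 1)) (hg : g.1 0 ≠ 1) (c : F) (hc : c ≠ 0) :
    (∀ i, (setConst g.1 c i).Monic ∧ (setConst g.1 c i).coeff 0 ≠ 0) ∧
      (∑ i : Fin (k + 1), (i.val + 1) * (setConst g.1 c i).natDegree = k + 1) ∧
      setConst g.1 c 0 ≠ 1 ∧ (setConst g.1 c 0).coeff 0 = c ∧ (setConst g.1 c 0).natDegree = (g.1 0).natDegree := by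
  have hpos : 0 < (g.1 0).natDegree := (g.2.1 0).1.natDegree_pos.mpr hg
  have hd : (g.1 0 + C (c - (g.1 0).coeff 0)).natDegree = (g.1 0).natDegree := natDegree_add_C
  have hm : (g.1 0 + C (c - (g.1 0).coeff 0)).Monic :=
    (g.2.1 0).1.add_of_left (degree_C_le.trans_lt (natDegree_pos_iff_degree_pos.mp hpos))
  have h0 : (g.1 0 + C (c - (g.1 0).coeff 0)).coeff 0 = c := by rw [coeff_add, coeff_C_zero]; ring
  refine ⟨fun i => ?_, ?_, ?_, ?_, ?_⟩
  · rcases eq_or_ne i 0 with rfl | hi
    · rw [setConst, Function.update_self]; exact ⟨hm, h0.symm ▸ hc⟩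
    · rw [setConst, Function.update_of_ne hi]; exact g.2.1 i
  · refine Eq.trans (Finset.sum_congr rfl fun i _ => ?_) g.2.2
    rcases eq_or_ne i 0 with rfl | hi
    · rw [setConst, Function.update_self, hd]
    · rw [setConst, Function.update_of_ne hi]
  · rw [setConst, Function.update_self]
    intro h
    rw [h, natDegree_one] at hd
    omega
  · rw [setConst, Function.update_self]; exact h0
  · rw [setConst, Function.update_self]; exact hd

lemma zCount_split (k e : ℕ) (he : 0 < e) (a : F) (ha : a ≠ 0) :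
    (Fintype.card F - 1) * zCount F (k + 1) e a ≤
      Nat.gcd (Fintype.card F - 1) e * topCount F k + (Fintype.card F - 1) * lowDet F k e a := by
  classical
  haveI : Fintype (PSeq F (k + 1) (k + 1)) := Fintype.ofFinite _
  set T := {g : PSeq F (k + 1) (k + 1) // g.1 0 ≠ 1}
  set T1 := {g : T // (g.1.1 0).coeff 0 = 1}
  let mkT : T → ∀ c : F, c ≠ 0 → T := fun g c hc =>
    ⟨⟨setConst g.1.1 c, (setConst_props g.1 g.2 c hc).1, (setConst_props g.1 g.2 c hc).2.1⟩,
      (setConst_props g.1 g.2 c hc).2.2.1⟩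
  have hTe : Nat.card T1 * (Fintype.card F - 1) ≤ topCount F k := by
    rw [← Fintype.card_units, ← Nat.card_eq_fintype_card, ← Nat.card_prod]
    refine Nat.card_le_card_of_injective (fun x => mkT x.1.1 (x.2 : F) x.2.ne_zero) ?_
    rintro ⟨⟨g, hg⟩, u⟩ ⟨⟨g', hg'⟩, u'⟩ h
    have hv : setConst g.1.1 (u : F) = setConst g'.1.1 (u' : F) := congrArg (fun t : T => t.1.1) h
    have h0 := congrFun hv 0
    have hu : (u : F) = u' := by
      rw [← (setConst_props g.1 g.2 u u.ne_zero).2.2.2.1, h0, (setConst_props g'.1 g'.2 u' u'.ne_zero).2.2.2.1]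
    refine Prod.ext (Subtype.ext (Subtype.ext (Subtype.ext (funext fun i => ?_)))) (Units.ext hu)
    rcases eq_or_ne i 0 with rfl | hi
    · rw [setConst, setConst, Function.update_self, Function.update_self, hg, hg', hu] at h0
      exact add_right_cancel h0
    · have := congrFun hv i
      rwa [setConst, setConst, Function.update_of_ne hi, Function.update_of_ne hi] at this
  have hz : zCount F (k + 1) e a ≤ Nat.card T1 * Nat.gcd (Fintype.card F - 1) e + lowDet F k e a := by
    refine le_trans ?_ (Nat.add_le_add_right (Nat.mul_le_mul_left _ (card_pow_eq_le e he a ha)) _)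
    rw [lowDet, ← Nat.card_prod, ← Nat.card_sum]
    let Ψ : {h : PSeq F (k + 1) (k + 1) // seqDet h.1 ^ e = a} →
        (T1 × {x : F // x ^ e = a}) ⊕ {g : PSeq F (k + 1) (k + 1) // g.1 0 = 1 ∧ seqDet g.1 ^ e = a} :=
      fun h => if h0 : h.1.1 0 = 1 then Sum.inr ⟨h.1, h0, h.2⟩
        else Sum.inl (⟨mkT ⟨h.1, h0⟩ 1 one_ne_zero, (setConst_props h.1 h0 1 one_ne_zero).2.2.2.1⟩,
          ⟨seqDet h.1.1, h.2⟩)
    refine Nat.card_le_card_of_injective Ψ ?_
    intro h h' hh
    simp only [Ψ] at hh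
    by_cases h0 : h.1.1 0 = 1 <;> by_cases h0' : h'.1.1 0 = 1
    · rw [dif_pos h0, dif_pos h0'] at hh
      exact Subtype.ext (congrArg Subtype.val (Sum.inr.inj hh) :)
    · rw [dif_pos h0, dif_neg h0'] at hh; exact absurd hh (by simp)
    · rw [dif_neg h0, dif_pos h0'] at hh; exact absurd hh (by simp)
    · rw [dif_neg h0, dif_neg h0', Sum.inl.injEq, Prod.mk.injEq, Subtype.mk.injEq, Subtype.mk.injEq] at hh
      have hv : setConst h.1.1 1 = setConst h'.1.1 1 := congrArg (fun t : T => t.1.1) hh.1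
      have htail : ∀ i, i ≠ 0 → h.1.1 i = h'.1.1 i := fun i hi => by
        have := congrFun hv i
        rwa [setConst, setConst, Function.update_of_ne hi, Function.update_of_ne hi] at this
      have h00 := congrFun hv 0
      have hdeg : (h.1.1 0).natDegree = (h'.1.1 0).natDegree := by
        rw [← (setConst_props h.1 h0 1 one_ne_zero).2.2.2.2, h00,
          (setConst_props h'.1 h0' 1 one_ne_zero).2.2.2.2]
      have hdet := hh.2
      rw [seqDet, seqDet, Fin.prod_univ_succ, Fin.prod_univ_succ,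
        Finset.prod_congr rfl (fun i _ => by rw [htail i.succ (Fin.succ_ne_zero i)] :
          ∀ i ∈ (Finset.univ : Finset (Fin k)), cTerm (h.1.1 i.succ) ^ ((i.succ : Fin (k + 1)).val + 1) =
            cTerm (h'.1.1 i.succ) ^ ((i.succ : Fin (k + 1)).val + 1))] at hdet
      have hne : ∏ i : Fin k, cTerm (h'.1.1 i.succ) ^ ((i.succ : Fin (k + 1)).val + 1) ≠ 0 :=
        Finset.prod_ne_zero_iff.mpr fun i _ => pow_ne_zero _ (cTerm_ne_zero (h'.1.2.1 _).2)
      have hc := mul_right_cancel₀ hne hdet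
      simp only [Fin.val_zero, zero_add, pow_one, cTerm, hdeg] at hc
      have hc' := mul_left_cancel₀ (by simp) hc
      refine Subtype.ext (Subtype.ext (funext fun i => ?_))
      rcases eq_or_ne i 0 with rfl | hi
      · rw [setConst, setConst, Function.update_self, Function.update_self, hc'] at h00
        exact add_right_cancel h00
      · exact htail i hi
  calc (Fintype.card F - 1) * zCount F (k + 1) e a
      ≤ (Fintype.card F - 1) * (Nat.card T1 * Nat.gcd (Fintype.card F - 1) e + lowDet F k e a) :=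
        Nat.mul_le_mul_left _ hz
    _ = Nat.gcd (Fintype.card F - 1) e * (Nat.card T1 * (Fintype.card F - 1)) +
          (Fintype.card F - 1) * lowDet F k e a := by ring
    _ ≤ _ := by gcongr

lemma natCard_nz_one : Nat.card (NZPoly F 1) = Fintype.card F - 1 := by
  have := nzPoly_succ F 0
  simpa [nzCount] using this

lemma natCard_nz_two : Nat.card (NZPoly F 2) = (Fintype.card F - 1) * Fintype.card F := by
  have := nzPoly_succ F 1
  simpa [nzCount] using this

lemma zCount_two (e : ℕ) (he : 0 < e) (a : F) (ha : a ≠ 0) :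
    zCount F 2 e a ≤ Nat.gcd (Fintype.card F - 1) e * Fintype.card F +
      Nat.gcd (Fintype.card F - 1) (2 * e) := by
  have hq : 0 < Fintype.card F - 1 := by have := Fintype.one_lt_card (α := F); omega
  have htop : topCount F 1 ≤ (Fintype.card F - 1) * Fintype.card F := by
    rw [← natCard_nz_two]
    have key : ∀ g : {g : PSeq F 2 2 // g.1 0 ≠ 1}, (g.1.1 0).natDegree = 2 ∧ g.1.1 1 = 1 := by
      intro g
      have h := g.1.2.2
      rw [Fin.sum_univ_two] at h
      simp only [Fin.val_zero, Fin.val_one, zero_add, one_mul] at h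
      have hp := (g.1.2.1 0).1.natDegree_pos.mpr g.2
      exact ⟨by omega, eq_one_of_monic_natDegree_zero (g.1.2.1 1).1 (by omega)⟩
    refine Nat.card_le_card_of_injective
      (fun g => (⟨g.1.1 0, (g.1.2.1 0).1, (g.1.2.1 0).2, (key g).1⟩ : NZPoly F 2)) fun g g' h => ?_
    refine Subtype.ext (Subtype.ext (funext fun i => ?_))
    fin_cases i
    · exact congrArg Subtype.val h
    · exact (key g).2.trans (key g').2.symm
  have hlow : lowDet F 1 e a ≤ Nat.gcd (Fintype.card F - 1) (2 * e) := by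
    have key : ∀ g : {g : PSeq F 2 2 // g.1 0 = 1 ∧ seqDet g.1 ^ e = a},
        (g.1.1 1).natDegree = 1 ∧ cTerm (g.1.1 1) ^ (2 * e) = a := by
      intro g
      have h := g.1.2.2
      have h2 := g.2.2
      rw [seqDet, Fin.prod_univ_two, g.2.1, cTerm_one] at h2
      simp only [Fin.val_zero, Fin.val_one, zero_add, one_pow, one_mul, ← pow_mul] at h2
      rw [Fin.sum_univ_two, g.2.1, natDegree_one] at h
      simp only [Fin.val_one, Nat.mul_zero, zero_add] at h
      exact ⟨by omega, h2⟩
    refine le_trans ?_ (card_pow_eq_le (2 * e) (by omega) a ha)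
    refine Nat.card_le_card_of_injective (fun g => ⟨cTerm (g.1.1 1), (key g).2⟩) fun g g' h => ?_
    refine Subtype.ext (Subtype.ext (funext fun i => ?_))
    fin_cases i
    · exact g.2.1.trans g'.2.1.symm
    · exact eq_of_natDegree_eq_one (g.1.2.1 1).1 (g'.1.2.1 1).1 (key g).1 (key g').1 (congrArg Subtype.val h)
  refine Nat.le_of_mul_le_mul_left ?_ hq
  refine (zCount_split 1 e he a ha).trans ?_
  rw [mul_add, mul_left_comm (Fintype.card F - 1)]
  gcongr

lemma seqCount_one (m : ℕ) :
    seqCount F 1 (m + 1) = (Fintype.card F - 1) * Fintype.card F ^ m := by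
  rw [seqCount_succ F 0 (m + 1), Finset.sum_eq_single (m + 1)]
  · simp [seqCount_zero, nzPoly_succ]
  · intro b hb hne
    rw [Finset.mem_range] at hb
    simp only [zero_add, one_mul, Nat.div_one] at hb ⊢
    rw [seqCount_zero, if_neg (by omega), mul_zero]
  · intro h; simp at h

lemma seqCount_one_zero : seqCount F 1 0 = 1 := by
  rw [seqCount_succ_of_lt F 0 0 one_pos, seqCount_zero, if_pos rfl]

lemma seqCount_zero_weight (m : ℕ) : seqCount F m 0 = 1 := by
  induction m with
  | zero => simp [seqCount_zero]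
  | succ m ih => rw [seqCount_succ_of_lt F m 0 (Nat.succ_pos m), ih]

lemma seqCount_two_int (m : ℕ) :
    (seqCount F 2 (m + 2) : ℤ) = (Fintype.card F : ℤ) ^ (m + 2) - (Fintype.card F : ℤ) ^ (m + 1) +
      Fintype.card F * seqCount F 2 m - seqCount F 1 m := by
  have h := seqCount_rec F 1 (m + 2) (by omega)
  simp only [show (1 : ℕ) + 1 = 2 from rfl, Nat.add_sub_cancel] at h
  rw [seqCount_one (m + 1)] at h
  obtain ⟨t, ht⟩ : ∃ t, Fintype.card F = t + 1 :=
    ⟨Fintype.card F - 1, by have := Fintype.card_pos (α := F); omega⟩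
  rw [ht] at h ⊢
  rw [Nat.add_sub_cancel] at h
  have h' : (seqCount F 2 (m + 2) : ℤ) + seqCount F 1 m =
      (t : ℤ) * ((t : ℤ) + 1) ^ (m + 1) + ((t : ℤ) + 1) * seqCount F 2 m := by exact_mod_cast h
  push_cast
  linear_combination h'

lemma seqCount_small :
    (seqCount F 2 1 : ℤ) = Fintype.card F - 1 ∧
    (seqCount F 2 2 : ℤ) = (Fintype.card F : ℤ) ^ 2 - 1 ∧
    (seqCount F 3 3 : ℤ) = (Fintype.card F : ℤ) ^ 3 - Fintype.card F ∧
    (seqCount F 4 4 : ℤ) = (Fintype.card F : ℤ) ^ 4 - Fintype.card F := by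
  have hq : 1 ≤ Fintype.card F := Fintype.card_pos
  have h21 : (seqCount F 2 1 : ℤ) = Fintype.card F - 1 := by
    rw [seqCount_succ_of_lt F 1 1 (by omega), seqCount_one 0, pow_zero, mul_one, Nat.cast_sub hq]
    simp
  have h22 : (seqCount F 2 2 : ℤ) = (Fintype.card F : ℤ) ^ 2 - 1 := by
    rw [seqCount_two_int 0, seqCount_zero_weight, seqCount_zero_weight]; push_cast; ring
  have h23 : (seqCount F 2 3 : ℤ) =
      (Fintype.card F : ℤ) ^ 3 - 2 * Fintype.card F + 1 := by
    rw [seqCount_two_int 1, h21, seqCount_one 0, pow_zero, mul_one, Nat.cast_sub hq]; push_cast; ring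
  have h33 : (seqCount F 3 3 : ℤ) = (Fintype.card F : ℤ) ^ 3 - Fintype.card F := by
    have h := seqCount_rec F 2 3 (le_refl 3)
    simp only [show (2 : ℕ) + 1 = 3 from rfl, Nat.sub_self, seqCount_zero_weight, mul_one] at h
    have h' : (seqCount F 3 3 : ℤ) + 1 = seqCount F 2 3 + Fintype.card F := by exact_mod_cast h
    rw [h23] at h'; linear_combination h'
  refine ⟨h21, h22, h33, ?_⟩
  have h := seqCount_rec F 3 4 (le_refl 4)
  simp only [show (3 : ℕ) + 1 = 4 from rfl, Nat.sub_self, seqCount_zero_weight, mul_one] at h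
  have h3 := seqCount_rec F 2 4 (by omega)
  simp only [show (2 : ℕ) + 1 = 3 from rfl, show (4 : ℕ) - 3 = 1 from rfl,
    seqCount_succ_of_lt F 2 1 (by omega)] at h3
  have h' : (seqCount F 4 4 : ℤ) + 1 = seqCount F 3 4 + Fintype.card F := by exact_mod_cast h
  have h3' : (seqCount F 3 4 : ℤ) + seqCount F 2 1 = seqCount F 2 4 + Fintype.card F * seqCount F 2 1 := by
    exact_mod_cast h3
  rw [seqCount_two_int 2, h22, h21, seqCount_one 1] at h3'
  rw [Nat.cast_mul, Nat.cast_sub hq] at h3'
  push_cast at h3'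
  linear_combination h' + h3'

lemma lowCount_three_ge : Fintype.card F - 1 ≤ lowCount F 2 := by
  rw [← natCard_nz_one]
  refine Nat.card_le_card_of_injective
    (fun f => ⟨singleSeq (m := 3) (n := 3) 2 f (by simp), by simp [singleSeq, single]⟩) fun f f' h => ?_
  have := congrFun (congrArg (fun t : {g : PSeq F 3 3 // g.1 0 = 1} => t.1.1) h) 2
  exact Subtype.ext (by simpa [singleSeq, single] using this)

lemma lowCount_four_ge :
    (Fintype.card F - 1) * Fintype.card F + (Fintype.card F - 1) ≤ lowCount F 3 := by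
  classical
  rw [← natCard_nz_two, ← natCard_nz_one, ← Nat.card_sum]
  refine Nat.card_le_card_of_injective (Sum.elim
    (fun f => ⟨singleSeq (m := 4) (n := 4) 1 f (by simp), by simp [singleSeq, single]⟩)
    (fun f => ⟨singleSeq (m := 4) (n := 4) 3 f (by simp), by simp [singleSeq, single]⟩)) ?_
  rintro (f | f) (f' | f') h
  · have := congrFun (congrArg (fun t : {g : PSeq F 4 4 // g.1 0 = 1} => t.1.1) h) 1
    exact congrArg Sum.inl (Subtype.ext (by simpa [singleSeq, single] using this))
  · have := congrFun (congrArg (fun t : {g : PSeq F 4 4 // g.1 0 = 1} => t.1.1) h) 1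
    simp [singleSeq, single] at this
    have hd := f.2.2.2
    rw [this, natDegree_one] at hd
    omega
  · have := congrFun (congrArg (fun t : {g : PSeq F 4 4 // g.1 0 = 1} => t.1.1) h) 1
    simp [singleSeq, single] at this
    have hd := f'.2.2.2
    rw [← this, natDegree_one] at hd
    omega
  · have := congrFun (congrArg (fun t : {g : PSeq F 4 4 // g.1 0 = 1} => t.1.1) h) 3
    exact congrArg Sum.inr (Subtype.ext (by simpa [singleSeq, single] using this))

lemma lowCount_four_le :
    lowCount F 3 ≤ (Fintype.card F - 1) * Fintype.card F + (Fintype.card F - 1) := by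
  classical
  rw [← natCard_nz_two, ← natCard_nz_one, ← Nat.card_sum]
  have key : ∀ g : {g : PSeq F 4 4 // g.1 0 = 1}, g.1.1 2 = 1 ∧
      (((g.1.1 1).natDegree = 2 ∧ g.1.1 3 = 1) ∨ (g.1.1 1 = 1 ∧ (g.1.1 3).natDegree = 1)) := by
    intro g
    have h := g.1.2.2
    rw [Fin.sum_univ_four, g.2, natDegree_one] at h
    simp only [Fin.val_one, Fin.val_two, Nat.mul_zero, zero_add] at h
    have h3 : ((3 : Fin 4) : ℕ) = 3 := rfl
    rw [h3] at h
    refine ⟨eq_one_of_monic_natDegree_zero (g.1.2.1 2).1 (by omega), ?_⟩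
    rcases (show ((g.1.1 1).natDegree = 2 ∧ (g.1.1 3).natDegree = 0) ∨
        ((g.1.1 1).natDegree = 0 ∧ (g.1.1 3).natDegree = 1) by omega) with ⟨a, b⟩ | ⟨a, b⟩
    · exact Or.inl ⟨a, eq_one_of_monic_natDegree_zero (g.1.2.1 3).1 b⟩
    · exact Or.inr ⟨eq_one_of_monic_natDegree_zero (g.1.2.1 1).1 a, b⟩
  let Ψ : {g : PSeq F 4 4 // g.1 0 = 1} → NZPoly F 2 ⊕ NZPoly F 1 := fun g =>
    if h : (g.1.1 1).natDegree = 2 then Sum.inl ⟨g.1.1 1, (g.1.2.1 1).1, (g.1.2.1 1).2, h⟩
    else Sum.inr ⟨g.1.1 3, (g.1.2.1 3).1, (g.1.2.1 3).2,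
      ((key g).2.resolve_left fun h' => h h'.1).2⟩
  refine Nat.card_le_card_of_injective Ψ fun g g' h => ?_
  simp only [Ψ] at h
  by_cases hg : (g.1.1 1).natDegree = 2 <;> by_cases hg' : (g'.1.1 1).natDegree = 2
  · rw [dif_pos hg, dif_pos hg'] at h
    have h1 := congrArg Subtype.val (Sum.inl.inj h)
    have a := ((key g).2.resolve_right fun h' => by rw [h'.1, natDegree_one] at hg; omega).2
    have a' := ((key g').2.resolve_right fun h' => by rw [h'.1, natDegree_one] at hg'; omega).2
    refine Subtype.ext (Subtype.ext (funext fun i => ?_))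
    fin_cases i
    · exact g.2.trans g'.2.symm
    · exact h1
    · exact (key g).1.trans (key g').1.symm
    · exact a.trans a'.symm
  · rw [dif_pos hg, dif_neg hg'] at h; exact absurd h (by simp)
  · rw [dif_neg hg, dif_pos hg'] at h; exact absurd h (by simp)
  · rw [dif_neg hg, dif_neg hg'] at h
    have h1 := congrArg Subtype.val (Sum.inr.inj h)
    have a := ((key g).2.resolve_left fun h' => hg h'.1).1
    have a' := ((key g').2.resolve_left fun h' => hg' h'.1).1
    refine Subtype.ext (Subtype.ext (funext fun i => ?_))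
    fin_cases i
    · exact g.2.trans g'.2.symm
    · exact a.trans a'.symm
    · exact (key g).1.trans (key g').1.symm
    · exact h1

lemma lowDet_three (e : ℕ) (he : 0 < e) (a : F) (ha : a ≠ 0) :
    lowDet F 2 e a ≤ Nat.gcd (Fintype.card F - 1) (3 * e) := by
  have key : ∀ g : {g : PSeq F 3 3 // g.1 0 = 1 ∧ seqDet g.1 ^ e = a},
      g.1.1 1 = 1 ∧ (g.1.1 2).natDegree = 1 ∧ cTerm (g.1.1 2) ^ (3 * e) = a := by
    intro g
    have h := g.1.2.2
    rw [Fin.sum_univ_three, g.2.1, natDegree_one] at h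
    simp only [Fin.val_one, Fin.val_two, Nat.mul_zero, zero_add] at h
    have h1 : g.1.1 1 = 1 := eq_one_of_monic_natDegree_zero (g.1.2.1 1).1 (by omega)
    have h2 := g.2.2
    rw [seqDet, Fin.prod_univ_three, g.2.1, h1, cTerm_one] at h2
    simp only [one_pow, one_mul, Fin.val_two, ← pow_mul] at h2
    exact ⟨h1, by omega, h2⟩
  refine le_trans ?_ (card_pow_eq_le (3 * e) (by omega) a ha)
  refine Nat.card_le_card_of_injective (fun g => ⟨cTerm (g.1.1 2), (key g).2.2⟩) fun g g' h => ?_
  refine Subtype.ext (Subtype.ext (funext fun i => ?_))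
  fin_cases i
  · exact g.2.1.trans g'.2.1.symm
  · exact (key g).1.trans (key g').1.symm
  · exact eq_of_natDegree_eq_one (g.1.2.1 2).1 (g'.1.2.1 2).1 (key g).2.1 (key g').2.1 (congrArg Subtype.val h)

lemma nz_card_le_pow (j : ℕ) : Nat.card (NZPoly F j) ≤ Fintype.card F ^ j := by
  rcases j with _ | j
  · rw [← nzCount, nzPoly_zero]; simp
  · rw [← nzCount, nzPoly_succ, pow_succ']
    gcongr
    omega

lemma seqCount_two_lower (m : ℕ) : 2 ≤ m →
    (Fintype.card F : ℤ) ^ m - (Fintype.card F : ℤ) ^ (m - 2) - (Fintype.card F : ℤ) ^ (m / 2) ≤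
      seqCount F 2 m := by
  obtain ⟨q, hqdef⟩ : ∃ q : ℤ, q = (Fintype.card F : ℤ) := ⟨_, rfl⟩
  have hq : 2 ≤ q := by rw [hqdef]; exact_mod_cast Fintype.one_lt_card
  rw [← hqdef]
  obtain ⟨-, h22, -, -⟩ := seqCount_small (F := F)
  rw [← hqdef] at h22
  induction m using Nat.strong_induction_on with
  | _ m ih =>
    intro hm
    rcases (show m = 2 ∨ m = 3 ∨ 4 ≤ m by omega) with rfl | rfl | hm4
    · rw [h22]; norm_num; linarith
    · have h := seqCount_two_int (F := F) 1
      rw [seqCount_succ_of_lt F 1 1 (by omega), ← hqdef, seqCount_one 0, pow_zero, mul_one,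
        Nat.cast_sub Fintype.card_pos, ← hqdef] at h
      rw [show (1 : ℕ) + 2 = 3 from rfl] at h
      rw [h]
      push_cast
      norm_num
      nlinarith
    · obtain ⟨j, rfl⟩ : ∃ j, m = j + 4 := ⟨m - 4, by omega⟩
      have h := seqCount_two_int (F := F) (j + 2)
      rw [← hqdef, seqCount_one (j + 1), Nat.cast_mul, Nat.cast_sub Fintype.card_pos, ← hqdef] at h
      push_cast at h
      rw [← hqdef] at h
      have hi := ih (j + 2) (by omega) (by omega)
      rw [show j + 2 + 2 = j + 4 from rfl, show j + 2 + 1 = j + 3 from rfl] at h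
      rw [show j + 2 - 2 = j from rfl, show (j + 2) / 2 = j / 2 + 1 by omega] at hi
      rw [show j + 4 - 2 = j + 2 from rfl, show (j + 4) / 2 = j / 2 + 2 by omega]
      have := mul_le_mul_of_nonneg_left hi (by linarith : (0 : ℤ) ≤ q)
      simp only [pow_add] at h hi this ⊢
      linarith

lemma lowCount_general (k : ℕ) (hk : 3 ≤ k) :
    (lowCount F k : ℤ) ≤ (Fintype.card F : ℤ) ^ (k - 1) + 2 * (Fintype.card F : ℤ) ^ ((k + 1) / 2) := by
  classical
  set A := {g : PSeq F (k + 1) (k + 1) // g.1 0 = 1}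
  let small : PSeq F (k + 1) (k + 1) → Prop := fun g => ∀ j : Fin (k + 1), 2 ≤ j.val → g.1 j = 1
  haveI : Fintype (PSeq F (k + 1) (k + 1)) := Fintype.ofFinite _
  have hemb : seqCount F 2 (k + 1) ≤ Nat.card {g : PSeq F (k + 1) (k + 1) // small g} := by
    let ext' : PSeq F 2 (k + 1) → Fin (k + 1) → F[X] := fun g j =>
      if h : j.val < 2 then g.1 ⟨j.val, h⟩ else 1
    have hprop : ∀ g : PSeq F 2 (k + 1), (∀ j, (ext' g j).Monic ∧ (ext' g j).coeff 0 ≠ 0) ∧
        ∑ j : Fin (k + 1), (j.val + 1) * (ext' g j).natDegree = k + 1 := by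
      intro g
      constructor
      · intro j
        simp only [ext']
        split_ifs
        · exact g.2.1 _
        · simp
      · refine Eq.trans (Fintype.sum_of_injective (Fin.castLE (by omega : 2 ≤ k + 1)) (Fin.castLE_injective _)
          (fun i : Fin 2 => (i.val + 1) * (g.1 i).natDegree) _ ?_ ?_).symm g.2.2
        · intro j hj
          have : ¬ j.val < 2 := fun h => hj ⟨⟨j.val, h⟩, Fin.ext rfl⟩
          simp only [ext', dif_neg this, natDegree_one, Nat.mul_zero]
        · intro i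
          simp only [ext', Fin.val_castLE, dif_pos i.isLt]
    refine Nat.card_le_card_of_injective
      (fun g => ⟨⟨ext' g, (hprop g).1, (hprop g).2⟩, fun j hj => dif_neg (by omega)⟩) fun g g' h => ?_
    refine Subtype.ext (funext fun i => ?_)
    have h' : ext' g = ext' g' := congrArg (fun t : {g : PSeq F (k + 1) (k + 1) // small g} => t.1.1) h
    have := congrFun h' (Fin.castLE (by omega : 2 ≤ k + 1) i)
    simpa only [ext', Fin.val_castLE, dif_pos i.isLt] using this
  have hsplit : lowCount F k ≤ Nat.card {g : A // small g.1} +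
      Nat.card {g : PSeq F (k + 1) (k + 1) // ¬ small g} := by
    rw [← Nat.card_sum]
    let Ψ : A → {g : A // small g.1} ⊕ {g : PSeq F (k + 1) (k + 1) // ¬ small g} := fun g =>
      if h : small g.1 then Sum.inl ⟨g, h⟩ else Sum.inr ⟨g.1, h⟩
    refine Nat.card_le_card_of_injective Ψ fun g g' h => ?_
    simp only [Ψ] at h
    by_cases h1 : small g.1 <;> by_cases h2 : small g'.1
    · rw [dif_pos h1, dif_pos h2] at h; exact congrArg Subtype.val (Sum.inl.inj h)
    · rw [dif_pos h1, dif_neg h2] at h; exact absurd h (by simp)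
    · rw [dif_neg h1, dif_pos h2] at h; exact absurd h (by simp)
    · rw [dif_neg h1, dif_neg h2] at h; exact Subtype.ext (congrArg Subtype.val (Sum.inr.inj h) :)
  have hA : Nat.card {g : A // small g.1} ≤ Fintype.card F ^ ((k + 1) / 2) := by
    refine le_trans ?_ (nz_card_le_pow ((k + 1) / 2))
    have key : ∀ g : {g : A // small g.1}, (g.1.1.1 ⟨1, by omega⟩).natDegree = (k + 1) / 2 := by
      intro g
      have h := g.1.1.2.2
      rw [Finset.sum_eq_single (⟨1, by omega⟩ : Fin (k + 1))] at h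
      · simp only at h; omega
      · intro j _ hj
        rcases (show j.val = 0 ∨ j.val = 1 ∨ 2 ≤ j.val by omega) with h | h | h
        · rw [show j = 0 from Fin.ext h, g.1.2, natDegree_one, Nat.mul_zero]
        · exact absurd (Fin.ext h) hj
        · rw [g.2 j h, natDegree_one, Nat.mul_zero]
      · simp
    refine Nat.card_le_card_of_injective
      (fun g => (⟨_, (g.1.1.2.1 _).1, (g.1.1.2.1 _).2, key g⟩ : NZPoly F ((k + 1) / 2))) fun g g' h => ?_
    refine Subtype.ext (Subtype.ext (Subtype.ext (funext fun j => ?_)))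
    rcases (show j.val = 0 ∨ j.val = 1 ∨ 2 ≤ j.val by omega) with hj | hj | hj
    · rw [show j = 0 from Fin.ext hj, g.1.2, g'.1.2]
    · rw [show j = ⟨1, by omega⟩ from Fin.ext hj]; exact congrArg Subtype.val h
    · rw [g.2 j hj, g'.2 j hj]
  have hcompl : Nat.card {g : PSeq F (k + 1) (k + 1) // small g} +
      Nat.card {g : PSeq F (k + 1) (k + 1) // ¬ small g} = seqCount F (k + 1) (k + 1) := by
    rw [seqCount, Nat.card_eq_fintype_card, Nat.card_eq_fintype_card, Nat.card_eq_fintype_card,
      Fintype.card_subtype_compl, Nat.add_sub_cancel' (Fintype.card_subtype_le _)]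
  have hub := (seqCount_bound F (k + 1) (k + 1)).1
  have hlb := seqCount_two_lower (F := F) (k + 1) (by omega)
  rw [show k + 1 - 2 = k - 1 by omega] at hlb
  have h1 : (lowCount F k : ℤ) ≤ (Nat.card {g : A // small g.1} : ℤ) +
      Nat.card {g : PSeq F (k + 1) (k + 1) // ¬ small g} := by exact_mod_cast hsplit
  have h2 : (Nat.card {g : A // small g.1} : ℤ) ≤ (Fintype.card F : ℤ) ^ ((k + 1) / 2) := by exact_mod_cast hA
  have h3 : (seqCount F 2 (k + 1) : ℤ) ≤ Nat.card {g : PSeq F (k + 1) (k + 1) // small g} := by exact_mod_cast hemb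
  have h4 : (Nat.card {g : PSeq F (k + 1) (k + 1) // small g} : ℤ) +
      Nat.card {g : PSeq F (k + 1) (k + 1) // ¬ small g} = seqCount F (k + 1) (k + 1) := by exact_mod_cast hcompl
  linarith

end H41
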