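import Mathlib
import Cfsg.Agent.H41.SeqBounds

/-! Class number bounds for `SL n q` and `PSL n q`. -/

set_option autoImplicit false

open Polynomial

namespace H41

variable {F : Type*} [Field F] [Fintype F] {n : ℕ}

omit [Fintype F] in
/-- A polynomial fixed by scaling with `z` is a polynomial in `X ^ orderOf z`. -/
lemma exists_expand_of_fixed (z : Fˣ) (o : ℕ) (ho : orderOf z = o) (ho0 : 0 < o) (g : F[X])
    (hm : g.Monic) (h0 : g.coeff 0 ≠ 0) (hz : zScale z g = g) :
    ∃ h : F[X], h.Monic ∧ h.coeff 0 ≠ 0 ∧ expand F o h = g := by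
  have hdvd : ∀ k, k ≤ g.natDegree → g.coeff k ≠ 0 → o ∣ g.natDegree - k := by
    intro k hk hc
    have := congrArg (fun p => p.coeff k) hz
    simp only [coeff_zScale] at this
    have hone : (z : F) ^ (g.natDegree - k) = 1 := by
      have hzk : (z : F) ^ k * ((z⁻¹ : Fˣ) : F) ^ k = 1 := by
        rw [← mul_pow, ← Units.val_mul, mul_inv_cancel, Units.val_one, one_pow]
      apply mul_right_cancel₀ hc
      calc (z : F) ^ (g.natDegree - k) * g.coeff k
          = (z : F) ^ (g.natDegree - k) * ((z : F) ^ k * ((z⁻¹ : Fˣ) : F) ^ k) * g.coeff k := by rw [hzk, mul_one]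
        _ = (z : F) ^ (g.natDegree - k + k) * (g.coeff k * ((z⁻¹ : Fˣ) : F) ^ k) := by rw [pow_add]; ring
        _ = g.coeff k := by rw [Nat.sub_add_cancel hk, this]
        _ = 1 * g.coeff k := (one_mul _).symm
    rw [← ho]
    exact orderOf_dvd_of_pow_eq_one (Units.ext (by rw [Units.val_pow_eq_pow_val, hone, Units.val_one]))
  have hd : o ∣ g.natDegree := by simpa using hdvd 0 (Nat.zero_le _) h0
  have hexp : expand F o (contract o g) = g := by
    ext k
    rw [coeff_expand ho0]
    split_ifs with hk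
    · rw [coeff_contract ho0.ne', Nat.div_mul_cancel hk]
    · by_contra hne
      have hne' : g.coeff k ≠ 0 := fun h => hne h.symm
      have hle : k ≤ g.natDegree := le_natDegree_of_ne_zero hne'
      exact hk ((Nat.dvd_sub_iff_right hle hd).mp (hdvd k hle hne'))
  refine ⟨contract o g, ?_, ?_, hexp⟩
  · exact (monic_expand_iff ho0).mp (hexp.symm ▸ hm)
  · rw [coeff_contract ho0.ne', zero_mul]; exact h0

omit [Fintype F] in
lemma cTerm_expand (o : ℕ) (ho : 0 < o) (h : F[X]) :
    cTerm (expand F o h) = ((-1 : F) ^ (o - 1)) ^ h.natDegree * cTerm h := by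
  have h0 : (expand F o h).coeff 0 = h.coeff 0 := by
    have := coeff_expand_mul ho h 0
    simpa using this
  rw [cTerm, cTerm, natDegree_expand, h0, ← pow_mul, ← mul_assoc, ← pow_add]
  congr 2
  obtain ⟨t, rfl⟩ : ∃ t, o = t + 1 := ⟨o - 1, by omega⟩
  simp only [Nat.add_sub_cancel]
  ring

theorem fixedCount_le (z : rootsOfUnity n F) (e : ℕ) (he : 0 < e) :
    fixedCount z e = 0 ∨ (orderOf z * e ∣ n ∧
      ∃ a : F, a ≠ 0 ∧ fixedCount z e ≤ zCount F (n / (orderOf z * e)) e a) := by
  classical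
  obtain ⟨o, ho⟩ : ∃ o, o = orderOf z := ⟨_, rfl⟩
  rw [← ho]
  have ho' : orderOf (z : Fˣ) = o := by rw [ho, Subgroup.orderOf_coe]
  have ho0 : 0 < o := ho ▸ orderOf_pos z
  set S := {s : EDiv F n // s.1.map (fun x => (zScale (z : Fˣ) x.1, x.2)) = s.1 ∧
    seqDet (seqFun (n := n) s.1) = 1 ∧ ∀ x ∈ s.1, e ∣ x.2}
  rcases isEmpty_or_nonempty S with hS | ⟨⟨s₁⟩⟩
  · exact Or.inl Nat.card_of_isEmpty
  refine Or.inr ?_
  have heo : 0 < o * e := Nat.mul_pos ho0 he
  set m := n / (o * e) with hmdef
  have hem : e * m ≤ n :=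
    le_trans (Nat.mul_le_mul_right m (Nat.le_mul_of_pos_left e ho0)) (Nat.mul_div_le n (o * e))
  let idx : Fin m → Fin n := fun i =>
    ⟨e * (i.val + 1) - 1, by
      have := Nat.mul_le_mul_left e (Nat.succ_le_of_lt i.isLt)
      have : 0 < e * (i.val + 1) := Nat.mul_pos he (Nat.succ_pos _)
      rw [Nat.succ_eq_add_one] at *
      omega⟩
  have hidx : ∀ i, (idx i).val + 1 = e * (i.val + 1) := fun i => by
    have : 0 < e * (i.val + 1) := Nat.mul_pos he (Nat.succ_pos _)
    simp only [idx]; omega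
  have hidxinj : Function.Injective idx := fun i j h => by
    have h1 := hidx i
    rw [h, hidx j] at h1
    exact Fin.ext (by have := Nat.eq_of_mul_eq_mul_left he h1; omega)
  have hfix : ∀ (s : S) (j : Fin n), zScale (z : Fˣ) (seqFun s.1.1 j) = seqFun s.1.1 j := fun s j =>
    zScale_seqFun _ s.1 s.2.1 j
  have hprops : ∀ (s : S) (j : Fin n), (seqFun s.1.1 j).Monic ∧ (seqFun s.1.1 j).coeff 0 ≠ 0 :=
    fun s j => ((edivSeqEquiv n) s.1).2.1 j
  have hexp : ∀ (s : S) (j : Fin n), ∃ h : F[X], h.Monic ∧ h.coeff 0 ≠ 0 ∧ expand F o h = seqFun s.1.1 j :=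
    fun s j => exists_expand_of_fixed _ o ho' ho0 _ (hprops s j).1 (hprops s j).2 (hfix s j)
  choose H hHm hH0 hHe using hexp
  have hout : ∀ (s : S) (j : Fin n), j ∉ Set.range idx → seqFun s.1.1 j = 1 := by
    intro s j hj
    by_contra hne
    have hpos : 0 < (seqFun s.1.1 j).natDegree := (hprops s j).1.natDegree_pos.mpr hne
    have hej : e ∣ j.val + 1 := by
      by_contra hn
      apply hne
      rw [seqFun, Multiset.filter_eq_nil.mpr (fun x hx hx2 => hn (by have h2 := s.2.2.2 x hx; rwa [hx2] at h2))]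
      simp
    obtain ⟨c, hc⟩ := hej
    have hdeg : o ≤ (seqFun s.1.1 j).natDegree := by
      rw [← hHe s j, natDegree_expand] at hpos ⊢
      exact Nat.le_mul_of_pos_left o (Nat.pos_of_mul_pos_right hpos)
    have hle : (j.val + 1) * (seqFun s.1.1 j).natDegree ≤ n :=
      (Finset.single_le_sum (f := fun k : Fin n => (k.val + 1) * (seqFun s.1.1 k).natDegree)
        (fun k _ => Nat.zero_le _) (Finset.mem_univ j)).trans_eq ((edivSeqEquiv n) s.1).2.2
    have hc0 : 0 < c := by
      rcases Nat.eq_zero_or_pos c with rfl | h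
      · omega
      · exact h
    have : c * (o * e) ≤ n := by
      refine le_trans ?_ hle
      rw [hc, show c * (o * e) = e * c * o by ring]
      exact Nat.mul_le_mul_left _ hdeg
    have hcm : c ≤ m := (Nat.le_div_iff_mul_le heo).mpr this
    refine hj ⟨⟨c - 1, by omega⟩, Fin.ext ?_⟩
    show e * (c - 1 + 1) - 1 = j.val
    rw [Nat.sub_add_cancel hc0]; omega
  have hsum : ∀ s : S, n = o * e * ∑ i : Fin m, (i.val + 1) * (H s (idx i)).natDegree := by
    intro s
    conv_lhs => rw [← ((edivSeqEquiv n) s.1).2.2]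
    rw [Finset.mul_sum]
    refine (Fintype.sum_of_injective idx hidxinj _ _ ?_ ?_).symm
    · intro j hj
      show (j.val + 1) * (seqFun s.1.1 j).natDegree = 0
      rw [hout s j hj, natDegree_one, Nat.mul_zero]
    · intro i
      show _ = ((idx i).val + 1) * (seqFun s.1.1 (idx i)).natDegree
      rw [← hHe s (idx i), natDegree_expand, hidx]
      ring
  have hdiv : o * e ∣ n := ⟨_, hsum s₁⟩
  have hwt : ∀ s : S, ∑ i : Fin m, (i.val + 1) * (H s (idx i)).natDegree = m := by
    intro s
    have := hsum s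
    show _ = n / (o * e)
    exact (Nat.div_eq_of_eq_mul_right heo this).symm
  refine ⟨hdiv, (((-1 : F) ^ (o - 1)) ^ m) ^ e, by simp, ?_⟩
  have hdet : ∀ s : S, (∏ i : Fin m, cTerm (H s (idx i)) ^ (i.val + 1)) ^ e = (((-1 : F) ^ (o - 1)) ^ m) ^ e := by
    intro s
    have h1 : (1 : F) = ∏ i : Fin m, (cTerm (seqFun s.1.1 (idx i))) ^ ((idx i).val + 1) := by
      refine s.2.2.1.symm.trans ?_
      rw [seqDet]
      refine (Fintype.prod_of_injective idx hidxinj _ _ ?_ fun i => rfl).symm
      intro j hj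
      rw [hout s j hj, cTerm_one, one_pow]
    have h2 : (1 : F) = (((-1 : F) ^ (o - 1)) ^ m) ^ e * (∏ i : Fin m, cTerm (H s (idx i)) ^ (i.val + 1)) ^ e := by
      conv_lhs => rw [h1]
      rw [← mul_pow]
      have hpow : ((-1 : F) ^ (o - 1)) ^ m =
          ((-1 : F) ^ (o - 1)) ^ ∑ i : Fin m, (i.val + 1) * (H s (idx i)).natDegree := by rw [hwt s]
      rw [hpow, ← Finset.prod_pow_eq_pow_sum, ← Finset.prod_mul_distrib, ← Finset.prod_pow]
      refine Finset.prod_congr rfl fun i _ => ?_
      rw [← hHe s (idx i), cTerm_expand o ho0, hidx, mul_comm e, pow_mul]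
      congr 1
      rw [mul_pow]
      ring
    have h3 : (((-1 : F) ^ (o - 1)) ^ m) ^ e * (((-1 : F) ^ (o - 1)) ^ m) ^ e = 1 := by
      rw [← mul_pow, ← mul_pow, ← mul_pow, neg_one_mul, neg_neg, one_pow, one_pow, one_pow]
    calc _ = (((-1 : F) ^ (o - 1)) ^ m) ^ e * (((-1 : F) ^ (o - 1)) ^ m) ^ e *
          (∏ i : Fin m, cTerm (H s (idx i)) ^ (i.val + 1)) ^ e := by rw [h3, one_mul]
      _ = _ := by rw [mul_assoc, ← h2, mul_one]
  refine Nat.card_le_card_of_injective
    (fun s => ⟨⟨fun i => H s (idx i), fun i => ⟨hHm _ _, hH0 _ _⟩, hwt s⟩, hdet s⟩) fun s t h => ?_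
  have h' : ∀ i, H s (idx i) = H t (idx i) := fun i =>
    congrFun (congrArg (fun u : {h : PSeq F m m // seqDet h.1 ^ e = _} => u.1.1) h) i
  apply Subtype.ext
  apply (edivSeqEquiv n).injective
  refine Subtype.ext (funext fun j => ?_)
  show seqFun s.1.1 j = seqFun t.1.1 j
  by_cases hj : j ∈ Set.range idx
  · obtain ⟨i, rfl⟩ := hj
    rw [← hHe s, ← hHe t, h']
  · rw [hout s j hj, hout t j hj]

/-- Summing a function of the order over a cyclic group. -/
lemma sum_orderOf_cyclic {G : Type*} [Group G] [Fintype G] [IsCyclic G] (f : ℕ → ℕ) :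
    ∑ z : G, f (orderOf z) = ∑ o ∈ (Fintype.card G).divisors, o.totient * f o := by
  classical
  rw [← Finset.sum_fiberwise_of_maps_to (g := orderOf) (t := (Fintype.card G).divisors)
    (fun z _ => Nat.mem_divisors.mpr ⟨orderOf_dvd_card, Fintype.card_ne_zero⟩)]
  refine Finset.sum_congr rfl fun o ho => ?_
  rw [Finset.sum_congr rfl (fun z hz => by rw [(Finset.mem_filter.mp hz).2]), Finset.sum_const,
    IsCyclic.card_orderOf_eq_totient (Nat.dvd_of_mem_divisors ho), smul_eq_mul]

omit [Fintype F] in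
lemma gcd_comm_sub (q : ℕ) : Nat.gcd n (q - 1) = Nat.gcd (q - 1) n := Nat.gcd_comm _ _

lemma card_rootsOfUnity_gcd [Fintype (rootsOfUnity n F)] :
    Fintype.card (rootsOfUnity n F) = Nat.gcd n (Fintype.card F - 1) := by
  classical
  have h : (rootsOfUnity n F) = (powMonoidHom n : Fˣ →* Fˣ).ker := by
    ext u; simp [MonoidHom.mem_ker]
  rw [← Nat.card_eq_fintype_card, h, IsCyclic.card_powMonoidHom_ker, Nat.card_eq_fintype_card,
    Fintype.card_units, Nat.gcd_comm]

lemma fixCount_le_of_bound (hn : 0 < n) (B : ℕ → ℕ → ℕ)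
    (hB : ∀ o e, 0 < o → 0 < e → o * e ∣ n → ∀ a : F, a ≠ 0 → zCount F (n / (o * e)) e a ≤ B o e)
    (z : rootsOfUnity n F) :
    fixCount z ≤ ∑ e ∈ (Nat.gcd n (Fintype.card F - 1)).divisors,
      e.totient * (if orderOf z * e ∣ n then B (orderOf z) e else 0) := by
  refine (fixCount_le hn z).trans (Finset.sum_le_sum fun e he => Nat.mul_le_mul_left _ ?_)
  have he0 : 0 < e := Nat.pos_of_mem_divisors he
  rcases fixedCount_le z e he0 with h | ⟨hd, a, ha, h⟩
  · rw [h]; exact Nat.zero_le _
  · rw [if_pos hd]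
    exact h.trans (hB _ e (orderOf_pos z) he0 hd a ha)

theorem card_SL_classes_le (hn : 0 < n) (B : ℕ → ℕ → ℕ)
    (hB : ∀ o e, 0 < o → 0 < e → o * e ∣ n → ∀ a : F, a ≠ 0 → zCount F (n / (o * e)) e a ≤ B o e) :
    Nat.card (ConjClasses (Matrix.SpecialLinearGroup (Fin n) F)) ≤
      ∑ e ∈ (Nat.gcd n (Fintype.card F - 1)).divisors, e.totient * B 1 e := by
  rw [← fixCount_one]
  refine (fixCount_le_of_bound hn B hB 1).trans (le_of_eq (Finset.sum_congr rfl fun e he => ?_))
  rw [orderOf_one, if_pos]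
  rw [one_mul]
  exact (Nat.dvd_of_mem_divisors he).trans (Nat.gcd_dvd_left _ _)

theorem gcd_mul_card_PSL_classes_le (hn : 0 < n) (B : ℕ → ℕ → ℕ)
    (hB : ∀ o e, 0 < o → 0 < e → o * e ∣ n → ∀ a : F, a ≠ 0 → zCount F (n / (o * e)) e a ≤ B o e) :
    Nat.gcd n (Fintype.card F - 1) *
        Nat.card (ConjClasses (Matrix.ProjectiveSpecialLinearGroup (Fin n) F)) ≤
      ∑ o ∈ (Nat.gcd n (Fintype.card F - 1)).divisors,
        o.totient * ∑ e ∈ (Nat.gcd n (Fintype.card F - 1)).divisors,
          e.totient * (if o * e ∣ n then B o e else 0) := by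
  classical
  haveI : NeZero n := ⟨hn.ne'⟩
  letI : Fintype (rootsOfUnity n F) := Fintype.ofFinite _
  rw [mul_comm, ← card_rootsOfUnity_gcd, card_PSL_classes_mul hn]
  refine (Finset.sum_le_sum fun z _ => fixCount_le_of_bound hn B hB z).trans (le_of_eq ?_)
  rw [card_rootsOfUnity_gcd]
  rw [sum_orderOf_cyclic (G := rootsOfUnity n F) (fun o =>
    ∑ e ∈ (Nat.gcd n (Fintype.card F - 1)).divisors, e.totient * (if o * e ∣ n then B o e else 0)),
    card_rootsOfUnity_gcd]

theorem card_SL_classes_gt (hn : 2 ≤ n) :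
    Fintype.card F ^ (n - 1) < Nat.card (ConjClasses (Matrix.SpecialLinearGroup (Fin n) F)) := by
  classical
  obtain ⟨m, rfl⟩ : ∃ m, n = m + 2 := ⟨n - 2, by omega⟩
  haveI : Nonempty (Fin (m + 2)) := ⟨0⟩
  have hmem : ∀ v : Fin (m + 1) → F, ∃ f : NZPoly F (m + 2), cTerm f.1 = 1 ∧ ∀ i : Fin (m + 1), f.1.coeff (i.val + 1) = v i := by
    intro v
    let a : F := (-1) ^ (m + 2)
    let r : F[X] := C a + ∑ i : Fin (m + 1), C (v i) * X ^ (i.val + 1)
    have hr : r.degree < (m + 2 : ℕ) := by
      refine (degree_add_le _ _).trans_lt (max_lt ?_ ?_)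
      · exact degree_C_le.trans_lt (by exact_mod_cast Nat.succ_pos (m + 1))
      · refine (degree_sum_le _ _).trans_lt ((Finset.sup_lt_iff (WithBot.bot_lt_coe _)).mpr fun i _ => ?_)
        exact (degree_C_mul_X_pow_le _ _).trans_lt (by exact_mod_cast Nat.succ_lt_succ i.isLt)
    have hd : (X ^ (m + 2) + r).natDegree = m + 2 := natDegree_eq_of_degree_eq_some (by
      rw [degree_add_eq_left_of_degree_lt (by rwa [degree_X_pow]), degree_X_pow])
    have h0 : (X ^ (m + 2) + r).coeff 0 = a := by simp [r, coeff_X_pow]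
    refine ⟨⟨_, monic_X_pow_add hr, by rw [h0]; exact pow_ne_zero _ (by simp), hd⟩, ?_, fun i => ?_⟩
    · show (-1 : F) ^ (X ^ (m + 2) + r).natDegree * (X ^ (m + 2) + r).coeff 0 = 1
      rw [hd, h0, ← mul_pow, neg_one_mul, neg_neg, one_pow]
    · simp only [r, coeff_add, finsetSum_coeff, coeff_C_mul, coeff_X_pow]
      rw [if_neg (by omega), coeff_C, if_neg (by omega), zero_add, zero_add, Finset.sum_eq_single i]
      · rw [if_pos rfl, mul_one]
      · intro j _ hj
        rw [if_neg (fun h => hj (Fin.ext (by omega))), mul_zero]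
      · simp
  choose f hfc hfv using hmem
  -- one more sequence: a Jordan block of size two
  obtain ⟨u, hum, hud, huc⟩ : ∃ u : F[X], u.Monic ∧ u.natDegree = 1 ∧ u.coeff 0 = -1 :=
    ⟨X - C 1, monic_X_sub_C 1, natDegree_X_sub_C 1, by simp⟩
  let extra : Fin (m + 2) → F[X] := fun j =>
    if j.val = 0 then u ^ m else if j.val = 1 then u else 1
  have hX1 : u.coeff 0 ≠ 0 := by simp [huc]
  have hextra : (∀ j, (extra j).Monic ∧ (extra j).coeff 0 ≠ 0) ∧
      ∑ j : Fin (m + 2), (j.val + 1) * (extra j).natDegree = m + 2 := by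
    constructor
    · intro j
      simp only [extra]
      split_ifs
      · refine ⟨hum.pow m, ?_⟩
        rw [coeff_zero_eq_eval_zero, eval_pow, ← coeff_zero_eq_eval_zero]
        exact pow_ne_zero m hX1
      · exact ⟨hum, hX1⟩
      · simp
    · rw [Fin.sum_univ_succ, Finset.sum_eq_single (⟨0, by omega⟩ : Fin (m + 1))]
      · simp [extra, hum.natDegree_pow, hud]
      · intro j _ hj
        have : j.val ≠ 0 := fun h => hj (Fin.ext h)
        simp [extra, this]
      · simp
  let seqs : Option (Fin (m + 1) → F) → PSeq F (m + 2) (m + 2) := fun o =>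
    o.elim ⟨extra, hextra.1, hextra.2⟩ (fun v => singleSeq (m := m + 2) 0 (f v) (by simp))
  have hdet1 : ∀ o, seqDet (seqs o).1 = 1 := by
    rintro (_ | v)
    · show ∏ j, cTerm (extra j) ^ (j.val + 1) = 1
      rw [Fin.prod_univ_succ, Finset.prod_eq_single (⟨0, by omega⟩ : Fin (m + 1))]
      · simp only [extra, Fin.val_zero, Fin.val_succ, if_true, zero_add, pow_one]
        rw [cTerm_pow hum.ne_zero]
        simp [cTerm, hud, huc]
      · intro j _ hj
        have : j.val ≠ 0 := fun h => hj (Fin.ext h)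
        simp [extra, this, cTerm_one]
      · simp
    · show ∏ j, cTerm (single 0 (f v).1 j) ^ (j.val + 1) = 1
      rw [Finset.prod_eq_single (0 : Fin (m + 2))]
      · simp [single, hfc]
      · intro j _ hj; simp [single, hj, cTerm_one]
      · simp
  have hinj : Function.Injective seqs := by
    rintro (_ | v) (_ | w) h
    · rfl
    · have := congrFun (congrArg Subtype.val h) 1
      exfalso
      have hd : (extra 1).natDegree = 1 := by
        simp [extra, hud]
      simp only [seqs, Option.elim, singleSeq, single] at this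
      rw [this] at hd
      simp at hd
    · have := congrFun (congrArg Subtype.val h) 1
      exfalso
      have hd : (extra 1).natDegree = 1 := by
        simp [extra, hud]
      simp only [seqs, Option.elim, singleSeq, single] at this
      rw [← this] at hd
      simp at hd
    · have := congrFun (congrArg Subtype.val h) 0
      simp only [seqs, Option.elim, singleSeq, single, Function.update_self] at this
      refine congrArg some (funext fun i => ?_)
      rw [← hfv v i, this, hfv w i]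
  let toC : Option (Fin (m + 1) → F) → ConjClasses (Matrix.SpecialLinearGroup (Fin (m + 2)) F) := fun o =>
    ConjClasses.mk ⟨(glOfEDiv ((edivSeqEquiv (m + 2)).symm (seqs o))).val, by
      rw [det_glOfEDiv]
      have h := congrArg Subtype.val ((edivSeqEquiv (m + 2)).apply_symm_apply (seqs o))
      rw [show seqFun (n := m + 2) ((edivSeqEquiv (m + 2)).symm (seqs o)).1 = (seqs o).1 from h]
      exact hdet1 o⟩
  have hC : Function.Injective toC := by
    intro a b h
    apply hinj
    apply (edivSeqEquiv (m + 2)).symm.injective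
    apply glClassEquiv.injective
    exact congrArg (ConjClasses.map Matrix.SpecialLinearGroup.toGL) h |> fun h' => by
      rw [glClassEquiv_apply, glClassEquiv_apply]
      refine Eq.trans ?_ (h'.trans ?_)
      · exact congrArg ConjClasses.mk (Units.ext rfl)
      · exact congrArg ConjClasses.mk (Units.ext rfl)
  have := Nat.card_le_card_of_injective toC hC
  rw [Nat.card_eq_fintype_card, Fintype.card_option, Fintype.card_fun, Fintype.card_fin] at this
  show Fintype.card F ^ (m + 1) < _
  omega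

theorem le_gcd_mul_card_PSL_classes (hn : 0 < n) :
    Nat.card (ConjClasses (Matrix.SpecialLinearGroup (Fin n) F)) ≤ Nat.gcd n (Fintype.card F - 1) *
        Nat.card (ConjClasses (Matrix.ProjectiveSpecialLinearGroup (Fin n) F)) := by
  classical
  haveI : NeZero n := ⟨hn.ne'⟩
  letI : Fintype (rootsOfUnity n F) := Fintype.ofFinite _
  rw [mul_comm, ← card_rootsOfUnity_gcd, card_PSL_classes_mul hn, ← fixCount_one]
  exact Finset.single_le_sum (f := fun z : rootsOfUnity n F => fixCount z) (fun z _ => Nat.zero_le _)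
    (Finset.mem_univ 1)

end H41
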