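import Mathlib

/-!
Choice of a vector and a functional for the triangular factorisation with regular factors.
-/

set_option autoImplicit false
set_option linter.style.haveILetI false

namespace H41.Reg

open Module

variable {K : Type*} [Field K] {W : Type*} [AddCommGroup W] [Module K W]

/-- A vector space is not covered by few proper subspaces. -/
theorem exists_notMem_list : ∀ (S : List (Submodule K W)), (Fin S.length ↪ K) → (∀ A ∈ S, A ≠ ⊤) →
    ∃ x : W, ∀ A ∈ S, x ∉ A := by
  intro S
  induction S with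
  | nil => intro _ _; exact ⟨0, fun A hA => absurd hA List.not_mem_nil⟩
  | cons A₀ S ih =>
    intro f hS
    obtain ⟨x, hx⟩ := ih ((Fin.castSuccEmb).trans f) fun A hA => hS A (List.mem_cons_of_mem _ hA)
    by_cases hxA : x ∈ A₀
    swap
    · exact ⟨x, fun A hA => by rcases List.mem_cons.1 hA with rfl | h; exacts [hxA, hx A h]⟩
    obtain ⟨y, -, hy⟩ := SetLike.exists_of_lt (lt_of_le_of_ne le_top (hS A₀ List.mem_cons_self))
    by_contra hcon
    push Not at hcon
    have hpt : ∀ i : Fin (S.length + 1), ∃ j : Fin S.length, y + f i • x ∈ S.get j := by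
      intro i
      obtain ⟨A, hA, hmem⟩ := hcon (y + f i • x)
      rcases List.mem_cons.1 hA with rfl | h
      · exact absurd ((A.add_mem_iff_left (A.smul_mem _ hxA)).1 hmem) hy
      · obtain ⟨j, rfl⟩ := List.get_of_mem h
        exact ⟨j, hmem⟩
    choose j hj using hpt
    obtain ⟨a, b, hab, he⟩ := Fintype.exists_ne_map_eq_of_card_lt j (by simp)
    have h1 : (f a - f b) • x ∈ S.get (j a) := by
      have := (S.get (j a)).sub_mem (hj a) (he ▸ hj b)
      rw [sub_smul]
      simpa using this
    exact hx _ (List.get_mem S (j a))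
      ((Submodule.smul_mem_iff _ (sub_ne_zero.2 (fun e => hab (f.injective e)))).1 h1)

/-- Small lists suffice over a field with at least four elements. -/
theorem exists_notMem_list_four (e : Fin 4 ↪ K) (S : List (Submodule K W)) (hl : S.length ≤ 4)
    (hS : ∀ A ∈ S, A ≠ ⊤) : ∃ x : W, ∀ A ∈ S, x ∉ A :=
  exists_notMem_list S ((Fin.castLEEmb hl).trans e) hS

variable {V : Type*} [AddCommGroup V] [Module K V]

lemma exists_functional {w z : V} (h : z ∉ K ∙ w) : ∃ p : Dual K V, p w = 0 ∧ p z ≠ 0 := by
  obtain ⟨p, hp, hpm⟩ := Submodule.exists_dual_map_eq_bot_of_notMem h inferInstance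
  refine ⟨p, ?_, hp⟩
  have : p w ∈ (K ∙ w).map p := Submodule.mem_map_of_mem (Submodule.mem_span_singleton_self w)
  rwa [hpm, Submodule.mem_bot] at this

/-- A non-scalar map has a non-eigenvector outside two proper subspaces. -/
theorem exists_not_eigen (e : Fin 4 ↪ K) (S : V →ₗ[K] V) (hS : ∀ σ : K, ∃ x, S x ≠ σ • x) (A B : Submodule K V)
    (hA : A ≠ ⊤) (hB : B ≠ ⊤) : ∃ v, v ∉ A ∧ v ∉ B ∧ ∀ μ : K, S v ≠ μ • v := by
  classical
  by_contra hcon
  push Not at hcon
  obtain ⟨x, hx⟩ := exists_notMem_list_four e [A, B] (by simp) (by simp [hA, hB])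
  have hxA := hx A (by simp)
  have hxB := hx B (by simp)
  obtain ⟨l, hl⟩ := hcon x hxA hxB
  obtain ⟨z, hz⟩ := hS l
  have hxz : LinearIndependent K ![x, z] := by
    rw [LinearIndependent.pair_iff' (fun h => hxA (by rw [h]; exact A.zero_mem))]
    intro a ha
    apply hz
    rw [← ha, map_smul, hl, smul_comm]
  let T := Finset.univ.filter fun i : Fin 4 => z + e i • x ∉ A ∧ z + e i • x ∉ B
  have huniq : ∀ C : Submodule K V, x ∉ C → (Finset.univ.filter fun i : Fin 4 => z + e i • x ∈ C).card ≤ 1 := by
    intro C hC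
    rw [Finset.card_le_one]
    intro i hi j hj
    by_contra hij
    simp only [Finset.mem_filter, Finset.mem_univ, true_and] at hi hj
    have := C.sub_mem hi hj
    rw [add_sub_add_left_eq_sub, ← sub_smul] at this
    exact hC ((C.smul_mem_iff (sub_ne_zero.2 fun h => hij (e.injective h))).1 this)
  have hT : 1 < T.card := by
    have hsub : Finset.univ ⊆ T ∪ ((Finset.univ.filter fun i : Fin 4 => z + e i • x ∈ A) ∪
        (Finset.univ.filter fun i : Fin 4 => z + e i • x ∈ B)) := by
      intro i _
      simp only [T, Finset.mem_union, Finset.mem_filter, Finset.mem_univ, true_and]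
      tauto
    have := (Finset.card_le_card hsub).trans ((Finset.card_union_le _ _).trans
      (Nat.add_le_add_left (Finset.card_union_le _ _) _))
    have := huniq A hxA
    have := huniq B hxB
    rw [Finset.card_univ, Fintype.card_fin] at *
    omega
  obtain ⟨i, hi, j, hj, hij⟩ := Finset.one_lt_card.1 hT
  simp only [T, Finset.mem_filter, Finset.mem_univ, true_and] at hi hj
  obtain ⟨μ, hμ⟩ := hcon _ hi.1 hi.2
  obtain ⟨ν, hν⟩ := hcon _ hj.1 hj.2
  rw [map_add, map_smul, hl] at hμ hν
  have hSz : S z = μ • z + (e i * (μ - l)) • x := by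
    rw [eq_sub_of_add_eq hμ, smul_add, smul_smul, smul_smul]
    rw [mul_sub, sub_smul, mul_comm μ (e i)]
    abel
  have h2 : (e i * (μ - l) - e j * (ν - l)) • x + (μ - ν) • z = 0 := by
    have hSz' : S z = ν • z + (e j * (ν - l)) • x := by
      rw [eq_sub_of_add_eq hν, smul_add, smul_smul, smul_smul]
      rw [mul_sub, sub_smul, mul_comm ν (e j)]
      abel
    rw [sub_smul, sub_smul]
    calc _ = S z - S z := by nth_rw 1 [hSz]; rw [hSz']; abel
      _ = 0 := sub_self _
  obtain ⟨h3, h4⟩ := (LinearIndependent.pair_iff.1 hxz) _ _ h2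
  rw [← sub_eq_zero.1 h4, ← sub_mul, mul_eq_zero] at h3
  have hμl : μ = l := sub_eq_zero.1 (h3.resolve_left (sub_ne_zero.2 fun h => hij (e.injective h)))
  apply hz
  rw [hSz, hμl, sub_self, mul_zero, zero_smul, add_zero]

section Choice

variable (g : V →ₗ[K] V) (v : V) (p : Dual K V)

/-- The complement is scalar. -/
def IsScalarOn (ν : K) : Prop := ∀ x, p x = 0 → g x - ν • x ∈ K ∙ g v

/-- The complement differs from the identity by rank at most one. -/
def IsSmallOn : Prop := ∃ a : V, ∀ x, p x = 0 → g x - x ∈ Submodule.span K {g v, a}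

lemma span_two_le (a b : V) : finrank K (Submodule.span K ({a, b} : Set V)) ≤ 2 := by
  classical
  have h := finrank_span_finset_le_card (R := K) ({a, b} : Finset V)
  rw [Finset.coe_insert, Finset.coe_singleton] at h
  exact h.trans Finset.card_le_two

lemma span_three_le (a b c : V) : finrank K (Submodule.span K ({a, b, c} : Set V)) ≤ 3 := by
  classical
  have h := finrank_span_finset_le_card (R := K) ({a, b, c} : Finset V)
  rw [Finset.coe_insert, Finset.coe_insert, Finset.coe_singleton] at h
  exact h.trans Finset.card_le_three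

variable [FiniteDimensional K V]

/-- The functionals killing the moved vector. -/
def annW : Submodule K (Dual K V) := LinearMap.ker (Dual.eval K V (g v - v))

lemma mem_annW {p : Dual K V} : p ∈ annW g v ↔ p (g v - v) = 0 := Iff.rfl

lemma proper_of_notMem {z : V} (h : z ∉ K ∙ (g v - v)) :
    (LinearMap.ker (Dual.eval K V z)).comap (annW g v).subtype ≠ ⊤ := by
  intro htop
  obtain ⟨p, hp1, hp2⟩ := exists_functional h
  have : (⟨p, (mem_annW g v).2 hp1⟩ : annW g v) ∈ (LinearMap.ker (Dual.eval K V z)).comap (annW g v).subtype := by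
    rw [htop]; trivial
  exact hp2 this

lemma proper_of_not_le {U : Submodule K V} (h : ¬ U ≤ K ∙ (g v - v)) :
    U.dualAnnihilator.comap (annW g v).subtype ≠ ⊤ := by
  intro htop
  obtain ⟨z, hz, hz'⟩ := SetLike.not_le_iff_exists.1 h
  obtain ⟨p, hp1, hp2⟩ := exists_functional hz'
  have : (⟨p, (mem_annW g v).2 hp1⟩ : annW g v) ∈ U.dualAnnihilator.comap (annW g v).subtype := by
    rw [htop]; trivial
  exact hp2 ((Submodule.mem_dualAnnihilator _).1 this z hz)

lemma normalise {p : Dual K V} (hw : p (g v - v) = 0) (hv : p v ≠ 0) :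
    ((p v)⁻¹ • p) v = 1 ∧ ((p v)⁻¹ • p) (g v) = 1 := by
  rw [map_sub, sub_eq_zero] at hw
  simp [hw, hv]

variable {g v}

/-- At most one functional gives a scalar complement. -/
lemma scalar_unique (hinj : Function.Injective g) (hv : ∀ a : K, g v ≠ a • v)
    {p p' : Dual K V} (hp : p v = 1 ∧ p (g v) = 1) (hp' : p' v = 1 ∧ p' (g v) = 1) {ν ν' : K}
    (h : IsScalarOn g v p ν) (h' : IsScalarOn g v p' ν') : p = p' := by
  set w := g v - v with hw
  obtain ⟨a, ha⟩ := Submodule.mem_span_singleton.1 (h w (by rw [hw, map_sub, hp.1, hp.2, sub_self]))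
  obtain ⟨b, hb⟩ := Submodule.mem_span_singleton.1 (h' w (by rw [hw, map_sub, hp'.1, hp'.2, sub_self]))
  have hνν : ν = ν' := by
    by_contra hne
    have h1 : (a - b) • g v = (ν' - ν) • w := by
      rw [sub_smul, sub_smul, ha, hb]; abel
    rw [hw, smul_sub] at h1
    have h2 : (a - b - (ν' - ν)) • g v = (ν - ν') • v := by
      rw [sub_smul, h1, sub_smul ν]
      rw [sub_smul ν' ν v]
      abel
    by_cases hz : a - b - (ν' - ν) = 0
    · rw [hz, zero_smul] at h2
      rcases smul_eq_zero.1 h2.symm with h3 | h3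
      · exact hne (sub_eq_zero.1 h3)
      · exact hv 0 (by rw [h3, map_zero, smul_zero])
    · exact hv ((a - b - (ν' - ν))⁻¹ * (ν - ν')) (by rw [mul_smul, ← h2, inv_smul_smul₀ hz])
  subst hνν
  by_contra hne
  obtain ⟨z, hz, hpz⟩ : ∃ z, p z = 0 ∧ p' z ≠ 0 := by
    by_contra hcon
    push Not at hcon
    apply hne
    refine LinearMap.ext fun x => ?_
    have := hcon (x - p x • v) (by rw [map_sub, map_smul, hp.1]; simp)
    rw [map_sub, map_smul, hp'.1, smul_eq_mul, mul_one, sub_eq_zero] at this
    exact this.symm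
  obtain ⟨c, hc⟩ := Submodule.mem_span_singleton.1 (h z hz)
  obtain ⟨d, hd⟩ := Submodule.mem_span_singleton.1 (h' (z - p' z • v) (by rw [map_sub, map_smul, hp'.1]; simp))
  rw [map_sub, map_smul, smul_sub] at hd
  have h1 : (d - c + p' z) • g v = (ν * p' z) • v := by
    rw [add_smul, sub_smul, hd, hc, mul_smul]; abel
  by_cases hν : ν = 0
  · subst hν
    rw [zero_smul, sub_zero] at hc
    have h5 : z = c • v := hinj (by rw [map_smul]; exact hc.symm)
    rw [h5, map_smul, hp.1, smul_eq_mul, mul_one] at hz
    rw [h5, hz, zero_smul, map_zero] at hpz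
    exact hpz rfl
  · by_cases hz' : d - c + p' z = 0
    · rw [hz', zero_smul] at h1
      rcases smul_eq_zero.1 h1.symm with h3 | h3
      · exact mul_ne_zero hν hpz h3
      · exact hv 0 (by rw [h3, map_zero, smul_zero])
    · exact hv ((d - c + p' z)⁻¹ * (ν * p' z)) (by rw [mul_smul, ← h1, inv_smul_smul₀ hz'])

lemma rank_of_small (hp : p v = 1) (hgv : p (g v) = 1) {a : V}
    (h : ∀ x, p x = 0 → g x - x ∈ Submodule.span K {g v, a}) :
    LinearMap.range (g - LinearMap.id : V →ₗ[K] V) ≤ Submodule.span K {g v, a, v} := by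
  rintro _ ⟨x, rfl⟩
  have h1 := h (x - p x • v) (by rw [map_sub, map_smul, hp]; simp)
  have h2 : (g - LinearMap.id : V →ₗ[K] V) x = (g (x - p x • v) - (x - p x • v)) + p x • (g v - v) := by
    simp [smul_sub]; abel
  rw [h2]
  refine Submodule.add_mem _ (Submodule.span_mono (by simp [Set.insert_subset_iff]) h1)
    (Submodule.smul_mem _ _ (Submodule.sub_mem _ (Submodule.subset_span (by simp)) (Submodule.subset_span (by simp))))

lemma small_invertible (hT : LinearMap.range (g - LinearMap.id : V →ₗ[K] V) = ⊤) (hdim : 3 ≤ finrank K V) (hp : p v = 1)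
    (hgv : p (g v) = 1) (h : IsSmallOn g v p) :
    finrank K V = 3 ∧ ∀ z, g z - z = g v → p z = 0 := by
  obtain ⟨a, ha⟩ := h
  have h1 := rank_of_small p hp hgv ha
  rw [hT, top_le_iff] at h1
  have h3 : finrank K (Submodule.span K ({g v, a, v} : Set V)) ≤ 3 :=
    span_three_le _ _ _
  rw [h1, finrank_top] at h3
  refine ⟨le_antisymm h3 hdim, fun z hz => ?_⟩
  set T := g - LinearMap.id with hTdef
  have hinj : Function.Injective T := LinearMap.injective_iff_surjective.2 (LinearMap.range_eq_top.1 hT)
  have hker : finrank K (LinearMap.ker p) + 1 = finrank K V := by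
    rw [← LinearMap.finrank_range_add_finrank_ker p, add_comm]
    congr 1
    rw [LinearMap.range_eq_top.2 (fun c => ⟨c • v, by simp [hp]⟩), finrank_top, finrank_self]
  have hle : (LinearMap.ker p).map T ≤ Submodule.span K {g v, a} := by
    rintro _ ⟨x, hx, rfl⟩
    simpa [hTdef] using ha x hx
  have hdim2 : finrank K ((LinearMap.ker p).map T) = finrank K (LinearMap.ker p) :=
    (Submodule.equivMapOfInjective T hinj _).finrank_eq.symm
  have hspan : finrank K (Submodule.span K ({g v, a} : Set V)) ≤ 2 :=
    span_two_le _ _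
  have heq := Submodule.eq_of_le_of_finrank_le hle (by rw [hdim2]; omega)
  obtain ⟨x, hx, hxT⟩ : g v ∈ (LinearMap.ker p).map T := heq ▸ Submodule.subset_span (by simp)
  have : x = z := hinj (hxT.trans (by simp [hTdef, hz]))
  exact this ▸ hx

lemma small_singular (hR : v ∉ LinearMap.range (g - LinearMap.id : V →ₗ[K] V)) (hp : p v = 1) (hgv : p (g v) = 1)
    (hr : 2 ≤ finrank K (LinearMap.range (g - LinearMap.id : V →ₗ[K] V))) (h : IsSmallOn g v p) :
    finrank K (LinearMap.range (g - LinearMap.id : V →ₗ[K] V)) = 2 ∧ ∀ z ∈ LinearMap.ker (g - LinearMap.id : V →ₗ[K] V), p z = 0 := by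
  obtain ⟨a, ha⟩ := h
  set T := g - LinearMap.id with hTdef
  set R := LinearMap.range T with hRdef
  have h1 := rank_of_small p hp hgv ha
  have hlt : R < Submodule.span K {g v, a, v} :=
    lt_of_le_of_ne h1 fun e => hR (by rw [hRdef, ← hTdef] at *; rw [e]; exact Submodule.subset_span (by simp))
  have h3 : finrank K (Submodule.span K ({g v, a, v} : Set V)) ≤ 3 :=
    span_three_le _ _ _
  have h4 := Submodule.finrank_lt_finrank_of_lt hlt
  refine ⟨by omega, fun z hz => ?_⟩
  by_contra hpz
  rw [LinearMap.mem_ker] at hz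
  have hle : R ≤ (LinearMap.ker p).map T := by
    rintro _ ⟨x, rfl⟩
    exact ⟨x - (p x / p z) • z, by rw [SetLike.mem_coe, LinearMap.mem_ker, map_sub, map_smul, smul_eq_mul, div_mul_cancel₀ _ hpz, sub_self],
      by rw [map_sub, map_smul, hz, smul_zero, sub_zero]⟩
  have hgvR : g v ∉ R := fun hmem => hR (by
    have := R.sub_mem hmem (LinearMap.mem_range_self T v : T v ∈ R)
    simpa [hTdef] using this)
  have hle2 : R < Submodule.span K {g v, a} := by
    refine lt_of_le_of_ne (fun y hy => ?_) fun e => hgvR (e ▸ Submodule.subset_span (by simp))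
    obtain ⟨x, hx, rfl⟩ := hle hy
    simpa [hTdef] using ha x hx
  have hspan : finrank K (Submodule.span K ({g v, a} : Set V)) ≤ 2 :=
    span_two_le _ _
  have h5 := Submodule.finrank_lt_finrank_of_lt hle2
  omega

/-- **The choice.** -/
theorem exists_choice (e : Fin 4 ↪ K) (hbig : Nonempty (Fin 5 ↪ K) ∨ ∀ ν : K, ν ^ 2 = 1 → ν = 1)
    (hinj : Function.Injective g) (hns : ∀ μ : K, ∃ x, g x ≠ μ • x)
    (hr : 2 ≤ finrank K (LinearMap.range (g - LinearMap.id : V →ₗ[K] V)))
    (h3 : finrank K V = 3 → Function.Injective (g - LinearMap.id : V →ₗ[K] V) → ∀ σ : K, ∃ x, g (g x) - g x - g x + x ≠ σ • g x)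
    (c : V) (hc : c ≠ 0) (ρ : Dual K V) (hρ : ρ ≠ 0) :
    ∃ (v : V) (p : Dual K V), p v = 1 ∧ p (g v) = 1 ∧ g v ≠ v ∧ ρ v ≠ 0 ∧ p c ≠ 0 ∧ p ∘ₗ g ≠ p ∧
      (3 ≤ finrank K V → (∀ ν : K, ν ^ (finrank K V - 1) = 1 → ¬ IsScalarOn g v p ν) ∧ ¬ IsSmallOn g v p) := by
  classical
  set T := g - LinearMap.id with hTdef
  have hm : 2 ≤ finrank K V := hr.trans (Submodule.finrank_le _)
  have hTapp : ∀ x, T x = g x - x := fun x => rfl
  have hH : LinearMap.ker ρ ≠ ⊤ := fun h => hρ (LinearMap.ker_eq_top.1 h)
  have hL : (K ∙ c).comap T ≠ ⊤ := fun h => by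
    have h1 : LinearMap.range T ≤ K ∙ c := by
      rintro _ ⟨x, rfl⟩
      have : x ∈ (K ∙ c).comap T := by rw [h]; trivial
      exact this
    have := hr.trans (Submodule.finrank_mono h1)
    rw [finrank_span_singleton hc] at this
    omega
  -- the final step
  have finish : ∀ (v : V) (p : Dual K V), ρ v ≠ 0 → g v ≠ v → p ∈ annW g v → p v ≠ 0 → p c ≠ 0 →
      (¬ ∀ y ∈ LinearMap.range T, p y = 0) →
      (3 ≤ finrank K V → (∀ ν : K, ν ^ (finrank K V - 1) = 1 → ¬ IsScalarOn g v ((p v)⁻¹ • p) ν) ∧
        ¬ IsSmallOn g v ((p v)⁻¹ • p)) →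
      ∃ (v : V) (p : Dual K V), p v = 1 ∧ p (g v) = 1 ∧ g v ≠ v ∧ ρ v ≠ 0 ∧ p c ≠ 0 ∧ p ∘ₗ g ≠ p ∧
        (3 ≤ finrank K V → (∀ ν : K, ν ^ (finrank K V - 1) = 1 → ¬ IsScalarOn g v p ν) ∧ ¬ IsSmallOn g v p) := by
    intro v p hρv hgv hw hpv hpc hpR hN
    obtain ⟨h1, h2⟩ := normalise g v ((mem_annW g v).1 hw) hpv
    refine ⟨v, (p v)⁻¹ • p, h1, h2, hgv, hρv, by simp [hpv, hpc], fun he => hpR ?_, hN⟩
    rintro _ ⟨x, rfl⟩
    have h4 := LinearMap.congr_fun he x
    simp only [LinearMap.comp_apply, LinearMap.smul_apply, smul_eq_mul] at h4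
    rw [hTapp, map_sub, mul_left_cancel₀ (inv_ne_zero hpv) h4, sub_self]
  -- the subspace of scalar complements
  have hscal : ∀ v, (∀ a : K, g v ≠ a • v) → 3 ≤ finrank K V →
      ∃ A : Submodule K (annW g v), A ≠ ⊤ ∧ ∀ p : annW g v, (p : Dual K V) v ≠ 0 → p ∉ A →
        ∀ ν : K, ν ^ (finrank K V - 1) = 1 → ¬ IsScalarOn g v (((p : Dual K V) v)⁻¹ • (p : Dual K V)) ν := by
    intro v hv h3V
    by_cases hex : ∃ p : annW g v, (p : Dual K V) v ≠ 0 ∧ ∃ ν : K, ν ^ (finrank K V - 1) = 1 ∧
        IsScalarOn g v (((p : Dual K V) v)⁻¹ • (p : Dual K V)) ν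
    · obtain ⟨p₀, hp₀, ν₀, -, hs₀⟩ := hex
      refine ⟨K ∙ p₀, fun htop => ?_, fun p hpv hpA ν _ hs => hpA ?_⟩
      · have h1 : finrank K (annW g v) ≤ 1 := by
          rw [← finrank_top K (annW g v), ← htop]
          exact (finrank_span_le_card _).trans (by simp)
        have h2 := LinearMap.finrank_range_add_finrank_ker (Dual.eval K V (g v - v))
        have h4 : finrank K (LinearMap.range (Dual.eval K V (g v - v))) ≤ 1 := by
          have := Submodule.finrank_le (LinearMap.range (Dual.eval K V (g v - v)))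
          rwa [finrank_self] at this
        rw [Subspace.dual_finrank_eq] at h2
        have h5 : finrank K V ≤ 1 + 1 := le_trans (le_of_eq h2.symm) (Nat.add_le_add h4 h1)
        omega
      · have heq := scalar_unique hinj hv (normalise g v ((mem_annW g v).1 p.2) hpv)
          (normalise g v ((mem_annW g v).1 p₀.2) hp₀) hs hs₀
        refine Submodule.mem_span_singleton.2 ⟨(p : Dual K V) v * ((p₀ : Dual K V) v)⁻¹, Subtype.ext ?_⟩
        rw [Submodule.coe_smul, mul_smul, ← heq, smul_inv_smul₀ hpv]
    · push Not at hex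
      refine ⟨⊥, fun h => ?_, fun p hpv _ ν hν hs => hex p hpv ν hν hs⟩
      obtain ⟨φ, hφw, hφ⟩ := exists_functional (K := K) (w := g v - v) (z := v) (fun hmem => by
        obtain ⟨a, ha⟩ := Submodule.mem_span_singleton.1 hmem
        rw [smul_sub] at ha
        by_cases ha0 : a = 0
        · rw [ha0, zero_smul, zero_smul, sub_zero] at ha
          exact hv 0 (by rw [← ha, map_zero, smul_zero])
        · exact hv (a⁻¹ * (1 + a)) (by
            rw [mul_smul, add_smul, one_smul]
            nth_rw 2 [← ha]
            rw [sub_add_cancel, inv_smul_smul₀ ha0]))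
      have : (⟨φ, hφw⟩ : annW g v) ∈ (⊤ : Submodule K (annW g v)) := trivial
      rw [← h, Submodule.mem_bot] at this
      exact hφ (by rw [show φ = 0 from congrArg Subtype.val this]; rfl)
  have hvspan : ∀ v, (∀ a : K, g v ≠ a • v) → v ∉ K ∙ (g v - v) := fun v hv hmem => by
    obtain ⟨a, ha⟩ := Submodule.mem_span_singleton.1 hmem
    rw [smul_sub] at ha
    by_cases ha0 : a = 0
    · rw [ha0, zero_smul, zero_smul, sub_zero] at ha
      exact hv 0 (by rw [← ha, map_zero, smul_zero])
    · exact hv (a⁻¹ * (1 + a)) (by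
        rw [mul_smul, add_smul, one_smul]
        nth_rw 2 [← ha]
        rw [sub_add_cancel, inv_smul_smul₀ ha0])
  have hcspan : ∀ v, v ∉ (K ∙ c).comap T → c ∉ K ∙ (g v - v) := fun v hv hmem => by
    obtain ⟨a, ha⟩ := Submodule.mem_span_singleton.1 hmem
    apply hv
    rw [Submodule.mem_comap, hTapp, Submodule.mem_span_singleton]
    refine ⟨a⁻¹, ?_⟩
    rw [← ha, inv_smul_smul₀]
    rintro rfl
    exact hc (by rw [← ha, zero_smul])
  by_cases hT : Function.Injective T
  · have hrange : LinearMap.range T = ⊤ := LinearMap.range_eq_top.2 (LinearMap.injective_iff_surjective.1 hT)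
    let ge := LinearEquiv.ofInjectiveEndo g hinj
    let S : V →ₗ[K] V := if finrank K V = 3 then ge.symm.toLinearMap ∘ₗ T ∘ₗ T else g
    have hSs : ∀ σ : K, ∃ x, S x ≠ σ • x := by
      intro σ
      by_cases h3V : finrank K V = 3
      · obtain ⟨x, hx⟩ := h3 h3V hT σ
        refine ⟨x, fun h => hx ?_⟩
        simp only [S, if_pos h3V, LinearMap.comp_apply, LinearEquiv.coe_coe, LinearEquiv.symm_apply_eq] at h
        rw [show ge (σ • x) = σ • g x by rw [map_smul]; rfl, hTapp, hTapp, map_sub] at h
        rw [← h]; abel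
      · simp only [S, if_neg h3V]; exact hns σ
    obtain ⟨v, hvH, hvL, hvS⟩ := exists_not_eigen e S hSs _ _ hH hL
    have hgv : ∀ a : K, g v ≠ a • v := by
      intro a ha
      by_cases h3V : finrank K V = 3
      · by_cases hv0 : v = 0
        · exact hvS 0 (by rw [hv0, map_zero, smul_zero])
        have ha0 : a ≠ 0 := fun h => hv0 (hinj (by rw [ha, h, zero_smul, map_zero]))
        refine hvS (a⁻¹ * (a - 1) ^ 2) ?_
        simp only [S, if_pos h3V, LinearMap.comp_apply, LinearEquiv.coe_coe, LinearEquiv.symm_apply_eq]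
        rw [show ge ((a⁻¹ * (a - 1) ^ 2) • v) = (a⁻¹ * (a - 1) ^ 2) • g v by rw [map_smul]; rfl, ha, smul_smul,
          hTapp, hTapp, ha, map_sub, map_smul, ha, smul_smul, show a⁻¹ * (a - 1) ^ 2 * a = a * a - a - a + 1 by
            field_simp; ring, add_smul, sub_smul, sub_smul, one_smul]
        abel
      · exact hvS a (by simp only [S, if_neg h3V]; exact ha)
    have hρv : ρ v ≠ 0 := hvH
    have hgv1 : g v ≠ v := fun h => hgv 1 (by rw [one_smul, h])
    let Av := (LinearMap.ker (Dual.eval K V v)).comap (annW g v).subtype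
    let Ac := (LinearMap.ker (Dual.eval K V c)).comap (annW g v).subtype
    let base := [Av, Ac]
    have hbase : ∀ A ∈ base, A ≠ ⊤ := by
      intro A hA
      simp only [base, List.mem_cons, List.not_mem_nil, or_false] at hA
      rcases hA with rfl | rfl
      · exact proper_of_notMem g v (hvspan v hgv)
      · exact proper_of_notMem g v (hcspan v hvL)
    have hR : ∀ p : annW g v, (p : Dual K V) v ≠ 0 → ¬ ∀ y ∈ LinearMap.range T, (p : Dual K V) y = 0 :=
      fun p hp h => hp (h v (hrange ▸ Submodule.mem_top))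
    by_cases h3V : 3 ≤ finrank K V
    swap
    · obtain ⟨p, hp⟩ := exists_notMem_list_four (W := annW g v) e base (by simp [base]) hbase
      exact finish v p hρv hgv1 p.2 (hp Av (by simp [base])) (hp Ac (by simp [base])) (hR p (hp Av (by simp [base])))
        (fun h => absurd h h3V)
    obtain ⟨A, hA, hAs⟩ := hscal v hgv h3V
    obtain ⟨z, hz⟩ := LinearMap.range_eq_top.1 hrange (g v)
    by_cases hd3 : finrank K V = 3
    · have hzspan : z ∉ K ∙ (g v - v) := fun hmem => by
        obtain ⟨a, ha⟩ := Submodule.mem_span_singleton.1 hmem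
        rw [← ha, map_smul] at hz
        have ha0 : a ≠ 0 := fun h => hgv 0 (by rw [zero_smul, ← hz, h, zero_smul])
        refine hvS a⁻¹ ?_
        simp only [S, if_pos hd3, LinearMap.comp_apply, LinearEquiv.coe_coe, LinearEquiv.symm_apply_eq]
        rw [show ge (a⁻¹ • v) = a⁻¹ • g v by rw [map_smul]; rfl, ← hz, inv_smul_smul₀ ha0, ← hTapp]
      obtain ⟨p, hp⟩ := exists_notMem_list_four (W := annW g v) e (A :: (LinearMap.ker (Dual.eval K V z)).comap (annW g v).subtype :: base)
        (by simp [base]) (by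
          intro B hB
          simp only [List.mem_cons] at hB
          rcases hB with rfl | rfl | h
          · exact hA
          · exact proper_of_notMem g v hzspan
          · exact hbase B (by simpa using h))
      have hpv : (p : Dual K V) v ≠ 0 := hp Av (by simp [base])
      refine finish v p hρv hgv1 p.2 hpv (hp Ac (by simp [base])) (hR p hpv) fun _ => ⟨hAs p hpv (hp A (by simp)), fun hs => ?_⟩
      obtain ⟨n1, n2⟩ := normalise g v ((mem_annW g v).1 p.2) hpv
      have h5 := (small_invertible _ hrange h3V n1 n2 hs).2 z (by rw [← hTapp]; exact hz)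
      rw [LinearMap.smul_apply, smul_eq_mul, mul_eq_zero] at h5
      exact hp ((LinearMap.ker (Dual.eval K V z)).comap (annW g v).subtype) (by simp) (h5.resolve_left (inv_ne_zero hpv))
    · obtain ⟨p, hp⟩ := exists_notMem_list_four (W := annW g v) e (A :: base) (by simp [base]) (by
          intro B hB
          simp only [List.mem_cons] at hB
          rcases hB with rfl | h
          · exact hA
          · exact hbase B (by simpa using h))
      have hpv : (p : Dual K V) v ≠ 0 := hp Av (by simp [base])
      refine finish v p hρv hgv1 p.2 hpv (hp Ac (by simp [base])) (hR p hpv) fun _ => ⟨hAs p hpv (hp A (by simp)), fun hs => ?_⟩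
      obtain ⟨n1, n2⟩ := normalise g v ((mem_annW g v).1 p.2) hpv
      exact hd3 (small_invertible _ hrange h3V n1 n2 hs).1
  · -- singular case
    have hRne : LinearMap.range T ≠ ⊤ := fun h => hT (LinearMap.injective_iff_surjective.2 (LinearMap.range_eq_top.1 h))
    have hKer : LinearMap.ker T ≠ ⊥ := fun h => hT (LinearMap.ker_eq_bot.1 h)
    have hlt := Submodule.finrank_lt hRne
    have h3V : 3 ≤ finrank K V := by omega
    have hk2 : finrank K V = 3 → LinearMap.ker (T ∘ₗ T) ≠ ⊤ := by
      intro h3V h
      rw [LinearMap.ker_eq_top] at h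
      have h1 : LinearMap.range T ≤ LinearMap.ker T := by
        rintro _ ⟨x, rfl⟩; exact LinearMap.congr_fun h x
      have h2 := LinearMap.finrank_range_add_finrank_ker T
      have := hr
      have := Submodule.finrank_mono h1
      omega
    let K2 : Submodule K V := if finrank K V = 3 then LinearMap.ker (T ∘ₗ T) else ⊥
    obtain ⟨v, hv⟩ := exists_notMem_list_four e [LinearMap.ker ρ, (K ∙ c).comap T, LinearMap.range T, K2] (by simp) (by
      intro B hB
      simp only [List.mem_cons, List.not_mem_nil, or_false] at hB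
      rcases hB with rfl | rfl | rfl | rfl
      · exact hH
      · exact hL
      · exact hRne
      · simp only [K2]
        split_ifs with h
        · exact hk2 h
        · exact fun hb => hH (by
            rw [eq_top_iff]
            intro x _
            rw [(Submodule.mem_bot K).1 (hb ▸ Submodule.mem_top : x ∈ (⊥ : Submodule K V))]
            exact Submodule.zero_mem _))
    have hρv : ρ v ≠ 0 := hv (LinearMap.ker ρ) (by simp)
    have hvL := hv ((K ∙ c).comap T) (by simp)
    have hvR := hv (LinearMap.range T) (by simp)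
    have hgv : ∀ a : K, g v ≠ a • v := by
      intro a ha
      by_cases h1 : a = 1
      · apply hvL
        rw [Submodule.mem_comap, hTapp, ha, h1, one_smul, sub_self]
        exact Submodule.zero_mem _
      · refine hvR ⟨(a - 1)⁻¹ • v, ?_⟩
        have h2 : T v = (a - 1) • v := by rw [hTapp, ha, sub_smul, one_smul]
        rw [map_smul, h2, inv_smul_smul₀ (sub_ne_zero.2 h1)]
    have hgv1 : g v ≠ v := fun h => hgv 1 (by rw [one_smul, h])
    have hRw : ¬ LinearMap.range T ≤ K ∙ (g v - v) := fun h => by
      have := (hr.trans (Submodule.finrank_mono h)).trans (finrank_span_le_card _)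
      simp at this
    let Av := (LinearMap.ker (Dual.eval K V v)).comap (annW g v).subtype
    let Ac := (LinearMap.ker (Dual.eval K V c)).comap (annW g v).subtype
    let AR := (LinearMap.range T).dualAnnihilator.comap (annW g v).subtype
    let base := [Av, Ac, AR]
    have hbase : ∀ A ∈ base, A ≠ ⊤ := by
      intro A hA
      simp only [base, List.mem_cons, List.not_mem_nil, or_false] at hA
      rcases hA with rfl | rfl | rfl
      · exact proper_of_notMem g v (hvspan v hgv)
      · exact proper_of_notMem g v (hcspan v hvL)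
      · exact proper_of_not_le g v hRw
    have hR : ∀ p : annW g v, p ∉ (LinearMap.range T).dualAnnihilator.comap (annW g v).subtype →
        ¬ ∀ y ∈ LinearMap.range T, (p : Dual K V) y = 0 := fun p hp h => hp ((Submodule.mem_dualAnnihilator _).2 h)
    obtain ⟨A, hA, hAs⟩ := hscal v hgv h3V
    by_cases hr2 : finrank K (LinearMap.range T) = 2
    swap
    · obtain ⟨p, hp⟩ := exists_notMem_list_four (W := annW g v) e (A :: base) (by simp [base]) (by
        intro B hB
        simp only [List.mem_cons] at hB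
        rcases hB with rfl | h
        · exact hA
        · exact hbase B (by simpa using h))
      have hpv : (p : Dual K V) v ≠ 0 := hp Av (by simp [base])
      refine finish v p hρv hgv1 p.2 hpv (hp Ac (by simp [base])) (hR p (hp AR (by simp [base]))) fun _ =>
        ⟨hAs p hpv (hp A (by simp)), fun hs => ?_⟩
      obtain ⟨n1, n2⟩ := normalise g v ((mem_annW g v).1 p.2) hpv
      exact hr2 (small_singular _ hvR n1 n2 hr hs).1
    let Z := (LinearMap.ker T).dualAnnihilator.comap (annW g v).subtype
    have hZ : Z ≠ ⊤ := by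
      refine proper_of_not_le g v fun hle => ?_
      have h1 := Submodule.finrank_mono hle
      have h2 := LinearMap.finrank_range_add_finrank_ker T
      have hw1 : finrank K (K ∙ (g v - v)) = 1 := finrank_span_singleton (sub_ne_zero.2 hgv1)
      rw [hw1] at h1
      have hd3 : finrank K V = 3 := by omega
      have heq := Submodule.eq_of_le_of_finrank_le hle (by rw [hw1]; omega)
      have hmem : g v - v ∈ LinearMap.ker T := heq ▸ Submodule.mem_span_singleton_self _
      refine hv K2 (by simp) ?_
      simp only [K2, if_pos hd3]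
      rw [LinearMap.mem_ker, LinearMap.comp_apply]
      exact hmem
    have hnu : ∀ (p : annW g v), (p : Dual K V) v ≠ 0 → p ∉ Z → ∀ ν : K, ν ^ (finrank K V - 1) = 1 →
        IsScalarOn g v (((p : Dual K V) v)⁻¹ • (p : Dual K V)) ν →
        finrank K V = 3 ∧ ν ^ 2 = 1 ∧ ν ≠ 1 := by
      intro p hpv hpZ ν hν hs
      set p' := ((p : Dual K V) v)⁻¹ • (p : Dual K V)
      have hν1 : ν ≠ 1 := by
        rintro rfl
        obtain ⟨n1, n2⟩ := normalise g v ((mem_annW g v).1 p.2) hpv
        have hs' : IsSmallOn g v p' := ⟨g v, fun x hx => by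
          have h6 := hs x hx
          rw [one_smul] at h6
          exact Submodule.span_mono (by simp) h6⟩
        refine hpZ ((Submodule.mem_dualAnnihilator _).2 fun y hy => ?_)
        have h5 := (small_singular _ hvR n1 n2 hr hs').2 y hy
        simp only [p', LinearMap.smul_apply, smul_eq_mul, mul_eq_zero] at h5
        exact h5.resolve_left (inv_ne_zero hpv)
      have hd : finrank K V = 3 := by
        by_contra hne
        have h2 := LinearMap.finrank_range_add_finrank_ker T
        have hp'0 : ∀ x ∈ LinearMap.ker T, p' x = 0 → x = 0 := by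
          intro x hx hpx
          obtain ⟨a, ha⟩ := Submodule.mem_span_singleton.1 (hs x hpx)
          rw [LinearMap.mem_ker, hTapp, sub_eq_zero] at hx
          rw [hx] at ha
          obtain ⟨n1, n2⟩ := normalise g v ((mem_annW g v).1 p.2) hpv
          have h7 := congrArg p' ha
          rw [map_smul, n2, map_sub, map_smul, hpx, smul_zero, sub_zero, smul_eq_mul, mul_one] at h7
          rw [h7, zero_smul] at ha
          have h8 : (1 - ν) • x = 0 := by rw [sub_smul, one_smul, ← ha]
          exact (smul_eq_zero.1 h8).resolve_left (sub_ne_zero.2 (Ne.symm hν1))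
        have hinj' : Function.Injective (p'.comp (LinearMap.ker T).subtype) := by
          rw [← LinearMap.ker_eq_bot, eq_bot_iff]
          intro x hx
          exact (Submodule.mem_bot K).2 (Subtype.ext (hp'0 x x.2 hx))
        have := LinearMap.finrank_le_finrank_of_injective hinj'
        rw [finrank_self] at this
        omega
      rw [hd] at hν
      exact ⟨hd, hν, hν1⟩
    rcases hbig with ⟨⟨e5⟩⟩ | hsq
    · obtain ⟨p, hp⟩ := exists_notMem_list (W := annW g v) (A :: Z :: base) ((Fin.castLEEmb (by simp [base])).trans e5) (by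
        intro B hB
        simp only [List.mem_cons] at hB
        rcases hB with rfl | rfl | h
        · exact hA
        · exact hZ
        · exact hbase B (by simpa using h))
      have hpv : (p : Dual K V) v ≠ 0 := hp Av (by simp [base])
      refine finish v p hρv hgv1 p.2 hpv (hp Ac (by simp [base])) (hR p (hp AR (by simp [base]))) fun _ =>
        ⟨hAs p hpv (hp A (by simp)), fun hs => hp Z (by simp) ((Submodule.mem_dualAnnihilator _).2 fun y hy => ?_)⟩
      obtain ⟨n1, n2⟩ := normalise g v ((mem_annW g v).1 p.2) hpv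
      have h5 := (small_singular _ hvR n1 n2 hr hs).2 y hy
      rw [LinearMap.smul_apply, smul_eq_mul, mul_eq_zero] at h5
      exact h5.resolve_left (inv_ne_zero hpv)
    · obtain ⟨p, hp⟩ := exists_notMem_list_four (W := annW g v) e (Z :: base) (by simp [base]) (by
        intro B hB
        simp only [List.mem_cons] at hB
        rcases hB with rfl | h
        · exact hZ
        · exact hbase B (by simpa using h))
      have hpv : (p : Dual K V) v ≠ 0 := hp Av (by simp [base])
      refine finish v p hρv hgv1 p.2 hpv (hp Ac (by simp [base])) (hR p (hp AR (by simp [base]))) fun _ =>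
        ⟨fun ν hν hs => ?_, fun hs => hp Z (by simp) ((Submodule.mem_dualAnnihilator _).2 fun y hy => ?_)⟩
      · obtain ⟨-, h1, h2⟩ := hnu p hpv (hp Z (by simp)) ν hν hs
        exact h2 (hsq ν h1)
      obtain ⟨n1, n2⟩ := normalise g v ((mem_annW g v).1 p.2) hpv
      have h5 := (small_singular _ hvR n1 n2 hr hs).2 y hy
      rw [LinearMap.smul_apply, smul_eq_mul, mul_eq_zero] at h5
      exact h5.resolve_left (inv_ne_zero hpv)

end Choice

end H41.Reg
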