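import Cfsg.Agent.H41.TriFactor
import Cfsg.Agent.H41.RegChoice

/-!
Products of two regular unipotent matrices.
-/

set_option autoImplicit false
set_option linter.style.haveILetI false

namespace H41.Reg

open Matrix

variable {K : Type*} [Field K] {n : ℕ}

/-- Lower unitriangular with no zero on the subdiagonal. -/
def IsRegLower (L : Matrix (Fin n) (Fin n) K) : Prop :=
  IsLowerWith (fun _ => 1) L ∧ ∀ i j : Fin n, i.val = j.val + 1 → L i j ≠ 0

/-- Upper unitriangular with no zero on the superdiagonal. -/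
def IsRegUpper (U : Matrix (Fin n) (Fin n) K) : Prop :=
  IsUpperWith (fun _ => 1) U ∧ ∀ i j : Fin n, j.val = i.val + 1 → U i j ≠ 0

lemma isRegLower_border {c : Fin (n + 1) → K} {L : Matrix (Fin (n + 1)) (Fin (n + 1)) K} (hc : c 0 ≠ 0)
    (h : IsRegLower L) : IsRegLower (border 1 0 c L) := by
  refine ⟨isLowerWith_border (β := fun _ => 1) h.1, fun i j hij => ?_⟩
  cases i using Fin.cases with
  | zero => simp at hij
  | succ i =>
    cases j using Fin.cases with
    | zero =>
      simp at hij
      rw [show i = 0 from Fin.ext (by simpa using hij), border_succ_zero]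
      exact hc
    | succ j => rw [border_succ_succ]; exact h.2 i j (by simpa using hij)

lemma isRegUpper_border {r : Fin (n + 1) → K} {U : Matrix (Fin (n + 1)) (Fin (n + 1)) K} (hr : r 0 ≠ 0)
    (h : IsRegUpper U) : IsRegUpper (border 1 r 0 U) := by
  refine ⟨isUpperWith_border (γ := fun _ => 1) h.1, fun i j hij => ?_⟩
  cases j using Fin.cases with
  | zero => simp at hij
  | succ j =>
    cases i using Fin.cases with
    | zero =>
      simp at hij
      rw [show j = 0 from Fin.ext (by simpa using hij), border_zero_succ]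
      exact hr
    | succ i => rw [border_succ_succ]; exact h.2 i j (by simpa using hij)

/-- Completing a vector to an invertible matrix. -/
lemma exists_col (v : Fin n → K) (hv : v ≠ 0) (i₀ : Fin n) :
    ∃ P : Matrix (Fin n) (Fin n) K, IsUnit P.det ∧ ∀ x, P x i₀ = v x := by
  obtain ⟨i, hi⟩ := Function.ne_iff.1 hv
  refine ⟨((1 : Matrix (Fin n) (Fin n) K).updateCol i v).submatrix id (Equiv.swap i₀ i), ?_, fun x => ?_⟩
  · rw [Matrix.det_permute', isUnit_iff_ne_zero, ← Matrix.cramer_apply, Matrix.cramer_one]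
    refine mul_ne_zero ?_ hi
    rcases Int.units_eq_one_or (Equiv.Perm.sign (Equiv.swap i₀ i)) with h | h <;> simp [h]
  · simp

lemma inv_mulVec_apply {P : Matrix (Fin n) (Fin n) K} (hP : IsUnit P.det) {f : Fin n → K} {i₀ : Fin n}
    (hf : f ᵥ* P = Pi.single i₀ 1) (x : Fin n → K) : (P⁻¹ *ᵥ x) i₀ = f ⬝ᵥ x := by
  have h : f ⬝ᵥ (P *ᵥ (P⁻¹ *ᵥ x)) = (f ᵥ* P) ⬝ᵥ (P⁻¹ *ᵥ x) := Matrix.dotProduct_mulVec _ _ _
  rw [Matrix.mulVec_mulVec (M := P), Matrix.mul_nonsing_inv _ hP, Matrix.one_mulVec, hf, single_dotProduct,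
    one_mul] at h
  exact h.symm

lemma border_mulVec_cons (a : K) (r c : Fin n → K) (M : Matrix (Fin n) (Fin n) K) (y : Fin n → K) :
    border a r c M *ᵥ Fin.cons 0 y = Fin.cons (r ⬝ᵥ y) (M *ᵥ y) := by
  funext i
  cases i using Fin.cases <;> simp [Matrix.mulVec, dotProduct, Fin.sum_univ_succ]

/-- **Factorisation with regular factors.** -/
theorem exists_reg (e : Fin 4 ↪ K) (hbig : Nonempty (Fin 5 ↪ K) ∨ ∀ ν : K, ν ^ 2 = 1 → ν = 1) :
    ∀ (n : ℕ) (g : Matrix (Fin (n + 1)) (Fin (n + 1)) K), g.det = 1 →
      (n = 0 ∨ ((∀ μ : K, g ≠ μ • 1) ∧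
        2 ≤ Module.finrank K (LinearMap.range (Matrix.toLin' g - LinearMap.id : (Fin (n + 1) → K) →ₗ[K] _)))) →
      ∀ c r : Fin (n + 1) → K, c ≠ 0 → r ≠ 0 →
      ∃ P : Matrix (Fin (n + 1)) (Fin (n + 1)) K, IsUnit P.det ∧ ∃ L U, IsRegLower L ∧ IsRegUpper U ∧
        g * P = P * (L * U) ∧ (P⁻¹ *ᵥ c) 0 ≠ 0 ∧ (r ᵥ* P) 0 ≠ 0 := by
  intro n
  induction n with
  | zero =>
    intro g hdet _ c r hc hr
    have h1 : ∀ x : Fin 1 → K, x ≠ 0 → x 0 ≠ 0 := fun x hx h0 => hx (funext fun i => by
      obtain rfl := Subsingleton.elim (α := Fin 1) i 0; exact h0)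
    refine ⟨1, by simp, 1, 1, ⟨⟨fun i j h => absurd h (by rw [Subsingleton.elim (α := Fin 1) i j]; exact lt_irrefl _),
      fun i => by simp⟩, fun i j h => ?_⟩, ⟨⟨fun i j h => absurd h (by rw [Subsingleton.elim (α := Fin 1) i j]; exact lt_irrefl _),
      fun i => by simp⟩, fun i j h => ?_⟩, ?_, ?_, ?_⟩
    · omega
    · omega
    · ext i j
      obtain rfl := Subsingleton.elim (α := Fin 1) i 0
      obtain rfl := Subsingleton.elim (α := Fin 1) j 0
      simpa [Matrix.det_fin_one] using hdet
    · simpa using h1 c hc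
    · simpa using h1 r hr
  | succ n ih =>
    intro g hdet hg c r hc hr
    obtain ⟨hns, hrank⟩ := hg.resolve_left (Nat.succ_ne_zero n)
    set gl := Matrix.toLin' g with hgl
    have hgu : IsUnit g.det := by rw [hdet]; exact isUnit_one
    have hinj : Function.Injective gl := Matrix.mulVec_injective_of_isUnit ((Matrix.isUnit_iff_isUnit_det _).2 hgu)
    have hns' : ∀ μ : K, ∃ x, gl x ≠ μ • x := by
      intro μ
      by_contra h
      push Not at h
      exact hns μ (Matrix.ext_iff_mulVec.2 fun x => by
        rw [Matrix.smul_mulVec, Matrix.one_mulVec]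
        exact h x)
    have h3 : Module.finrank K (Fin (n + 1 + 1) → K) = 3 →
        Function.Injective (gl - LinearMap.id : (Fin (n + 1 + 1) → K) →ₗ[K] _) →
        ∀ σ : K, ∃ x, gl (gl x) - gl x - gl x + x ≠ σ • gl x := by
      intro hd hT σ
      rw [Module.finrank_fin_fun] at hd
      by_contra h
      push Not at h
      set a := 2 + σ with ha
      have h2 : g * g = a • g - 1 := by
        refine Matrix.ext_iff_mulVec.2 fun x => ?_
        have := h x
        simp only [hgl, Matrix.toLin'_apply] at this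
        rw [Matrix.sub_mulVec, Matrix.smul_mulVec, Matrix.one_mulVec, ← Matrix.mulVec_mulVec, ha, add_smul, ← this]
        rw [two_smul]; abel
      set χ := g.charpoly with hχ
      have hdeg : χ.natDegree = 3 := by rw [hχ, Matrix.charpoly_natDegree_eq_dim, Fintype.card_fin, hd]
      have hc0 : χ.coeff 0 = -1 := by
        have h1 := Matrix.det_eq_sign_charpoly_coeff g
        rw [hdet, ← hχ, Fintype.card_fin, hd] at h1
        linear_combination h1
      have hc3 : χ.coeff 3 = 1 := hdeg ▸ (Matrix.charpoly_monic g).coeff_natDegree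
      have hch := Matrix.aeval_self_charpoly g
      rw [← hχ, Polynomial.aeval_eq_sum_range, hdeg] at hch
      simp only [Finset.sum_range_succ, Finset.sum_range_zero, zero_add, pow_zero, pow_one, pow_succ, one_mul, hc0, hc3,
        one_smul, h2, Matrix.sub_mul, Matrix.smul_mul, smul_sub] at hch
      have hlin : (χ.coeff 1 + χ.coeff 2 * a + a * a - 1) • g = (1 + χ.coeff 2 + a) • (1 : Matrix _ _ K) := by
        rw [← sub_eq_zero, ← hch]
        module
      have hz : χ.coeff 1 + χ.coeff 2 * a + a * a - 1 = 0 := by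
        by_contra hne
        refine hns ((χ.coeff 1 + χ.coeff 2 * a + a * a - 1)⁻¹ * (1 + χ.coeff 2 + a)) ?_
        rw [mul_smul, ← hlin, inv_smul_smul₀ hne]
      have hz2 : 1 + χ.coeff 2 + a = 0 := by
        rw [hz, zero_smul] at hlin
        have := congrFun (congrFun hlin.symm 0) 0
        simpa using this
      have hev : χ.eval 1 = 0 := by
        rw [Polynomial.eval_eq_sum_range, hdeg]
        simp only [Finset.sum_range_succ, Finset.sum_range_zero, zero_add, one_pow, mul_one, hc0, hc3]
        linear_combination hz + (1 - a) * hz2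
      rw [hχ, Matrix.eval_charpoly] at hev
      obtain ⟨x, hx, hx0⟩ := Matrix.exists_mulVec_eq_zero_iff.2 hev
      refine hx (hT ?_)
      rw [map_zero, LinearMap.sub_apply, LinearMap.id_apply, hgl, Matrix.toLin'_apply]
      rw [Matrix.sub_mulVec, map_one, Matrix.one_mulVec, sub_eq_zero] at hx0
      rw [← hx0, sub_self]
    let ρ : Module.Dual K (Fin (n + 1 + 1) → K) :=
      { toFun := fun x => r ⬝ᵥ x, map_add' := fun x y => dotProduct_add r x y,
        map_smul' := fun a x => by simp [dotProduct_smul] }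
    have hρ : ρ ≠ 0 := fun h => hr (funext fun i => by
      have := LinearMap.congr_fun h (Pi.single i 1)
      simpa [ρ, dotProduct_single] using this)
    obtain ⟨v, p, hpv, hpgv, hgv, hρv, hpc, hpg, hN'⟩ := exists_choice e hbig hinj hns' hrank h3 c hc ρ hρ
    -- the basis
    let f : Fin (n + 1 + 1) → K := fun j => p (Pi.single j 1)
    have hf : ∀ x, p x = f ⬝ᵥ x := fun x => by
      conv_lhs => rw [show x = ∑ i, x i • (Pi.single i 1 : Fin (n + 1 + 1) → K) from pi_eq_sum_univ' x]
      rw [map_sum]
      exact Finset.sum_congr rfl fun i _ => by rw [map_smul, smul_eq_mul, mul_comm]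
    obtain ⟨P₁, hP₁, hcol⟩ := exists_col v (fun h => by rw [h, map_zero] at hpv; exact zero_ne_one hpv) 0
    let s : Fin (n + 1) → K := fun j => (f ᵥ* P₁) j.succ
    set P := P₁ * border 1 (-s) 0 1 with hP'
    have hP : IsUnit P.det := by
      rw [hP', Matrix.det_mul, det_border_zero_col]; simpa using hP₁
    have hP0 : ∀ x, P x 0 = v x := fun x => by
      rw [hP', Matrix.mul_apply, Fin.sum_univ_succ]; simp [hcol]
    have hfP : f ᵥ* P = Pi.single 0 1 := by
      rw [hP', ← Matrix.vecMul_vecMul]
      have h0 : (f ᵥ* P₁) 0 = 1 := by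
        have h1 : (f ᵥ* P₁) 0 = f ⬝ᵥ v := by simp [Matrix.vecMul, dotProduct, hcol]
        rw [h1, ← hf, hpv]
      funext j
      cases j using Fin.cases with
      | zero => simp [Matrix.vecMul, dotProduct, Fin.sum_univ_succ] at h0 ⊢; exact h0
      | succ j =>
        have e1 : (f ᵥ* P₁ ᵥ* border 1 (-s) 0 1) j.succ = (f ᵥ* P₁) 0 * (-s j) + (f ᵥ* P₁) j.succ := by
          simp [Matrix.vecMul, dotProduct, Fin.sum_univ_succ, Matrix.one_apply]
        rw [e1, h0, one_mul, Pi.single_eq_of_ne (Fin.succ_ne_zero j)]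
        exact neg_add_cancel _
    clear_value P
    set h := P⁻¹ * g * P with hh
    have hgP : g * P = P * h := by
      rw [hh, Matrix.mul_assoc P⁻¹, ← Matrix.mul_assoc P, Matrix.mul_nonsing_inv _ hP, Matrix.one_mul]
    have hh0 : ∀ i, h i 0 = (P⁻¹ *ᵥ (g *ᵥ v)) i := fun i => by
      rw [hh, Matrix.mulVec_mulVec]
      simp [Matrix.mul_apply, Matrix.mulVec, dotProduct, hP0]
    have h00 : h 0 0 = 1 := by
      rw [hh0, inv_mulVec_apply hP hfP, ← hf]; exact hpgv
    have hform : h = border 1 (fun j => h 0 j.succ) (fun i => h i.succ 0) (h.submatrix Fin.succ Fin.succ) := by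
      conv_lhs => rw [eq_border h, h00]
    set r' := fun j : Fin (n + 1) => h 0 j.succ with hr'def
    set c' := fun i : Fin (n + 1) => h i.succ 0 with hc'def
    set M := h.submatrix Fin.succ Fin.succ
    have hc' : c' ≠ 0 := by
      intro h0
      apply hgv
      have h1 : P⁻¹ *ᵥ (g *ᵥ v) = Pi.single 0 1 := by
        funext i
        rw [← hh0]
        cases i using Fin.cases with
        | zero => rw [h00, Pi.single_eq_same]
        | succ i => rw [Pi.single_eq_of_ne (Fin.succ_ne_zero i)]; exact congrFun h0 i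
      have h2 := congrArg (P *ᵥ ·) h1
      simp only [Matrix.mulVec_mulVec, ← Matrix.mul_assoc, Matrix.mul_nonsing_inv _ hP, Matrix.one_mul,
        Matrix.mulVec_single_one] at h2
      rw [hgl, Matrix.toLin'_apply, h2]
      exact funext hP0
    have hr' : r' ≠ 0 := by
      intro h0
      apply hpg
      have h1 : f ᵥ* g ᵥ* P = f ᵥ* P := by
        rw [Matrix.vecMul_vecMul, hgP, ← Matrix.vecMul_vecMul, hfP]
        funext j
        rw [Matrix.single_vecMul, one_smul]
        show h 0 j = _
        cases j using Fin.cases with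
        | zero => rw [h00, Pi.single_eq_same]
        | succ j => rw [Pi.single_eq_of_ne (Fin.succ_ne_zero j)]; exact congrFun h0 j
      have h2 : f ᵥ* g = f := by
        have := congrArg (· ᵥ* P⁻¹) h1
        simpa [Matrix.vecMul_vecMul, Matrix.mul_assoc, Matrix.mul_nonsing_inv _ hP] using this
      refine LinearMap.ext fun x => ?_
      rw [LinearMap.comp_apply, hgl, Matrix.toLin'_apply, hf, hf, Matrix.dotProduct_mulVec, h2]
    set N := M - vecMulVec c' r' with hN
    have hfac : border 1 r' c' M = border 1 0 c' 1 * border 1 r' 0 N := by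
      rw [border_mul]
      congr 1
      · simp
      · simp
      · simp
      · rw [Matrix.one_mul, hN, add_sub_cancel]
    have hdN : N.det = 1 := by
      have hd : (g * P).det = (P * h).det := congrArg Matrix.det hgP
      rw [Matrix.det_mul, Matrix.det_mul, hform, hfac, Matrix.det_mul, det_border_zero_row, det_border_zero_col,
        Matrix.det_one, hdet, mul_comm P.det] at hd
      have := mul_right_cancel₀ hP.ne_zero hd
      simpa using this.symm
    have hNprop : n = 0 ∨ ((∀ μ : K, N ≠ μ • 1) ∧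
        2 ≤ Module.finrank K (LinearMap.range (Matrix.toLin' N - LinearMap.id : (Fin (n + 1) → K) →ₗ[K] _))) := by
      by_cases hn0 : n = 0
      · exact Or.inl hn0
      right
      obtain ⟨hsc, hsm⟩ := hN' (by rw [Module.finrank_fin_fun]; omega)
      have key : ∀ x, p x = 0 → ∃ y : Fin (n + 1) → K, x = P *ᵥ Fin.cons 0 y ∧
          g *ᵥ x = (r' ⬝ᵥ y) • (g *ᵥ v) + P *ᵥ Fin.cons 0 (N *ᵥ y) := by
        intro x hx
        have hy0 : (P⁻¹ *ᵥ x) 0 = 0 := by rw [inv_mulVec_apply hP hfP, ← hf, hx]
        obtain ⟨y, hy⟩ : ∃ y : Fin (n + 1) → K, P⁻¹ *ᵥ x = Fin.cons 0 y :=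
          ⟨fun i => (P⁻¹ *ᵥ x) i.succ, funext fun i => by cases i using Fin.cases <;> simp [hy0]⟩
        have hx' : x = P *ᵥ Fin.cons 0 y := by
          rw [← hy, Matrix.mulVec_mulVec, Matrix.mul_nonsing_inv _ hP, Matrix.one_mulVec]
        refine ⟨y, hx', ?_⟩
        · -- the image
          have hgv' : g *ᵥ v = P *ᵥ Fin.cons 1 c' := by
            have e1 : P⁻¹ *ᵥ (g *ᵥ v) = Fin.cons 1 c' := by
              funext i
              rw [← hh0]
              cases i using Fin.cases with
              | zero => simp [h00]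
              | succ i => simp [hc'def]
            rw [← e1, Matrix.mulVec_mulVec (M := P), Matrix.mul_nonsing_inv _ hP, Matrix.one_mulVec]
          rw [hx', Matrix.mulVec_mulVec, hgP, ← Matrix.mulVec_mulVec, hform, border_mulVec_cons, hgv',
            ← Matrix.mulVec_smul, ← Matrix.mulVec_add]
          congr 1
          funext i
          cases i using Fin.cases with
          | zero => simp
          | succ i =>
            simp [hN, Matrix.sub_mulVec, Matrix.vecMulVec_mulVec]
      refine ⟨fun μ hμ => hsc μ ?_ ?_, ?_⟩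
      · rw [Module.finrank_fin_fun, Nat.add_sub_cancel]
        rw [hμ, Matrix.det_smul, Matrix.det_one, mul_one, Fintype.card_fin] at hdN
        exact hdN
      · intro x hx
        obtain ⟨y, hxy, hgx⟩ := key x hx
        refine Submodule.mem_span_singleton.2 ⟨r' ⬝ᵥ y, ?_⟩
        have hc2 : (Fin.cons 0 (μ • y) : Fin (n + 1 + 1) → K) = μ • Fin.cons 0 y := by
          funext i; cases i using Fin.cases <;> simp
        rw [hgl, Matrix.toLin'_apply, Matrix.toLin'_apply, hgx, hμ, Matrix.smul_mulVec, Matrix.one_mulVec, hc2,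
          Matrix.mulVec_smul, ← hxy, add_sub_cancel_right]
      · by_contra hlt
        obtain ⟨⟨a, ha⟩, hspan⟩ := finrank_le_one_iff.1 (show Module.finrank K _ ≤ 1 by
          exact Nat.le_of_lt_succ (not_le.1 hlt))
        refine hsm ⟨P *ᵥ Fin.cons 0 a, fun x hx => ?_⟩
        obtain ⟨y, hxy, hgx⟩ := key x hx
        obtain ⟨t, ht⟩ := hspan ⟨_, LinearMap.mem_range_self _ y⟩
        have ht' : t • a = N *ᵥ y - y := by simpa using congrArg Subtype.val ht
        refine Submodule.mem_span_pair.2 ⟨r' ⬝ᵥ y, t, ?_⟩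
        have hc2 : (Fin.cons 0 (N *ᵥ y) : Fin (n + 1 + 1) → K) = (Fin.cons 0 y : Fin (n + 1 + 1) → K) + t • (Fin.cons 0 a : Fin (n + 1 + 1) → K) := by
          funext i
          cases i using Fin.cases with
          | zero => simp
          | succ i =>
            have := congrFun ht' i
            simp only [Pi.smul_apply, Pi.sub_apply, smul_eq_mul] at this
            simp only [Fin.cons_succ, Pi.add_apply, Pi.smul_apply, smul_eq_mul]
            linear_combination -this
        rw [hgl, Matrix.toLin'_apply, Matrix.toLin'_apply, hgx, hc2, Matrix.mulVec_add, ← hxy, Matrix.mulVec_smul]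
        abel
    obtain ⟨Q, hQ, L, U, hL, hU, hNQ, hcQ0, hrQ0⟩ := ih N hdN hNprop c' r' hc' hr'
    set P' := P * border 1 0 0 Q
    have hP'u : IsUnit P'.det := by
      rw [Matrix.det_mul, det_border_zero_col, one_mul]; exact hP.mul hQ
    have hfP' : f ᵥ* P' = Pi.single 0 1 := by
      rw [← Matrix.vecMul_vecMul, hfP, Matrix.single_vecMul]
      funext j
      cases j using Fin.cases <;> simp
    refine ⟨P', hP'u, border 1 0 (Q⁻¹ *ᵥ c') L, border 1 (r' ᵥ* Q) 0 U,
      isRegLower_border hcQ0 hL, isRegUpper_border hrQ0 hU, ?_, ?_, ?_⟩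
    · show g * (P * border 1 0 0 Q) = P * border 1 0 0 Q * (border 1 0 (Q⁻¹ *ᵥ c') L * border 1 (r' ᵥ* Q) 0 U)
      rw [← Matrix.mul_assoc g, hgP, Matrix.mul_assoc P, Matrix.mul_assoc P]
      congr 1
      conv_lhs => rw [hform]
      rw [border_mul, border_mul, border_mul]
      congr 1
      · simp
      · simp
      · simp [Matrix.mulVec_mulVec, Matrix.mul_nonsing_inv _ hQ]
      · have hcQ : Q *ᵥ (Q⁻¹ *ᵥ c') = c' := by
          rw [Matrix.mulVec_mulVec, Matrix.mul_nonsing_inv _ hQ, Matrix.one_mulVec]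
        have hMQ : M * Q = N * Q + vecMulVec c' r' * Q := by rw [← Matrix.add_mul, hN, sub_add_cancel]
        simp only [Matrix.vecMulVec_zero, Matrix.zero_vecMulVec, zero_add, Matrix.mul_add, hMQ, hNQ,
          Matrix.mul_vecMulVec, hcQ, Matrix.vecMulVec_mul]
        exact add_comm _ _
    · rw [inv_mulVec_apply hP'u hfP', ← hf]
      exact hpc
    · have : (r ᵥ* P') 0 = r ⬝ᵥ v := by
        rw [← Matrix.vecMul_vecMul]
        simp [Matrix.vecMul, dotProduct, Fin.sum_univ_succ, hP0]
      rw [this]
      exact hρv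

/-- The regular unipotent Jordan matrix. -/
def jordan (K : Type*) [Field K] (n : ℕ) : Matrix (Fin n) (Fin n) K :=
  Matrix.of fun i j => if i = j then 1 else if j.val = i.val + 1 then 1 else 0

lemma jordan_reg : IsRegUpper (jordan K n) := by
  refine ⟨⟨fun i j h => ?_, fun i => by simp [jordan]⟩, fun i j h => ?_⟩
  · have h' : j.val < i.val := h
    simp [jordan, Fin.ext_iff, show ¬ i.val = j.val by omega, show ¬ j.val = i.val + 1 by omega]
  · simp [jordan, Fin.ext_iff, h]

/-- Regular upper unitriangular matrices are similar to the Jordan matrix. -/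
theorem conj_jordan_upper (hn : 0 < n) {U : Matrix (Fin n) (Fin n) K} (hU : IsRegUpper U) :
    ∃ P : Matrix (Fin n) (Fin n) K, IsUnit P.det ∧ U * P = P * jordan K n := by
  classical
  set N := U - 1 with hN
  have hN0 : ∀ i j : Fin n, j.val < i.val + 1 → N i j = 0 := by
    intro i j h
    rcases Nat.lt_or_ge j.val i.val with h' | h'
    · simp [hN, hU.1.1 i j h', Fin.ext_iff, show ¬ i.val = j.val by omega]
    · obtain rfl : i = j := Fin.ext (by omega)
      simp [hN, hU.1.2 i]
  have hpow : ∀ k : ℕ, ∀ i j : Fin n, (j.val < i.val + k → (N ^ k) i j = 0) ∧ (j.val = i.val + k → (N ^ k) i j ≠ 0) := by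
    intro k
    induction k with
    | zero =>
      intro i j
      refine ⟨fun h => ?_, fun h => ?_⟩
      · simp [Fin.ext_iff, show ¬ i.val = j.val by omega]
      · obtain rfl : i = j := Fin.ext (by omega)
        simp
    | succ k ih =>
      intro i j
      refine ⟨fun h => ?_, fun h => ?_⟩
      · rw [pow_succ', Matrix.mul_apply]
        refine Finset.sum_eq_zero fun l _ => ?_
        rcases Nat.lt_or_ge l.val (i.val + 1) with h' | h'
        · rw [hN0 i l h', zero_mul]
        · rw [(ih l j).1 (by omega), mul_zero]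
      · rw [pow_succ', Matrix.mul_apply, Finset.sum_eq_single (⟨i.val + 1, by omega⟩ : Fin n)]
        · refine mul_ne_zero ?_ ((ih _ j).2 (by simp only; omega))
          simp [hN, Fin.ext_iff, hU.2 i ⟨i.val + 1, by omega⟩ rfl]
        · intro l _ hl
          rcases Nat.lt_or_ge l.val (i.val + 1) with h' | h'
          · rw [hN0 i l h', zero_mul]
          · have : l.val ≠ i.val + 1 := fun e => hl (Fin.ext e)
            rw [(ih l j).1 (by omega), mul_zero]
        · simp
  let last : Fin n := ⟨n - 1, by omega⟩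
  let P : Matrix (Fin n) (Fin n) K := Matrix.of fun i j => (N ^ (n - 1 - j.val)) i last
  refine ⟨P, ?_, ?_⟩
  · have htri : P.BlockTriangular id := fun i j h => by
      have h' : j.val < i.val := h
      exact (hpow _ i last).1 (by simp only [last]; omega)
    rw [Matrix.det_of_isUpperTriangular htri, isUnit_iff_ne_zero, Finset.prod_ne_zero_iff]
    intro i _
    exact (hpow _ i last).2 (by simp only [last]; omega)
  · ext i j
    rw [show U = 1 + N by rw [hN]; abel, Matrix.add_mul, Matrix.one_mul, Matrix.add_apply]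
    have h1 : (N * P) i j = (N ^ (n - 1 - j.val + 1)) i last := by
      rw [pow_succ', Matrix.mul_apply, Matrix.mul_apply]; rfl
    rw [h1, Matrix.mul_apply]
    rcases Nat.eq_zero_or_pos j.val with h0 | h0
    · rw [(hpow _ i last).1 (by simp only [last]; omega), add_zero, Finset.sum_eq_single j]
      · simp [jordan]
      · intro l _ hl
        simp [jordan, hl, show ¬ j.val = l.val + 1 by omega]
      · simp
    · rw [← Finset.sum_subset (s₁ := {j, ⟨j.val - 1, by omega⟩}) (Finset.subset_univ _)]
      · rw [Finset.sum_pair (by simp [Fin.ext_iff]; omega)]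
        simp only [jordan, P, Matrix.of_apply, if_true, mul_one, Fin.ext_iff]
        rw [if_neg (by omega), if_pos (by omega), mul_one, show n - 1 - (j.val - 1) = n - 1 - j.val + 1 by omega]
      · intro l _ hl
        simp only [Finset.mem_insert, Finset.mem_singleton, not_or] at hl
        have : l.val ≠ j.val - 1 := fun e => hl.2 (Fin.ext e)
        simp [jordan, hl.1, show ¬ j.val = l.val + 1 by omega]

/-- Regular lower unitriangular matrices are similar to the Jordan matrix. -/
theorem conj_jordan_lower (hn : 0 < n) {L : Matrix (Fin n) (Fin n) K} (hL : IsRegLower L) :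
    ∃ P : Matrix (Fin n) (Fin n) K, IsUnit P.det ∧ L * P = P * jordan K n := by
  have hU : IsRegUpper (L.submatrix Fin.revPerm Fin.revPerm) := by
    refine ⟨⟨fun i j h => ?_, fun i => ?_⟩, fun i j h => ?_⟩
    · exact hL.1.1 _ _ (by simpa using h)
    · exact hL.1.2 _
    · exact hL.2 _ _ (by simp [Fin.val_rev]; omega)
  obtain ⟨P, hP, he⟩ := conj_jordan_upper hn hU
  refine ⟨P.submatrix Fin.revPerm id, ?_, ?_⟩
  · rw [Matrix.det_permute]
    refine IsUnit.mul ?_ hP
    rcases Int.units_eq_one_or (Equiv.Perm.sign (Fin.revPerm : Equiv.Perm (Fin n))) with h | h <;> simp [h]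
  · have h1 := congrArg (fun A : Matrix (Fin n) (Fin n) K => A.submatrix Fin.revPerm id) he
    rw [show L * P.submatrix Fin.revPerm id = (L.submatrix Fin.revPerm Fin.revPerm * P).submatrix Fin.revPerm id by
      ext i j
      simp only [Matrix.mul_apply, Matrix.submatrix_apply, Fin.revPerm_apply, Fin.rev_rev, id]
      exact (Equiv.sum_comp (Fin.revPerm : Equiv.Perm (Fin n)) (fun k => L i k * P (Fin.rev k) j)).symm.trans
        (Finset.sum_congr rfl fun k _ => by simp)]
    rw [h1]
    ext i j
    simp [Matrix.mul_apply]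

end H41.Reg
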