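import Cfsg.Agent.H41.ClassCalc

/-!
Writing an endomorphism as a quotient of members of two similarity classes, and commutators.
-/

set_option autoImplicit false

open Polynomial

namespace H41

namespace Calc

variable {F : Type*} [Field F]
variable {V W : Type*} [AddCommGroup V] [Module F V] [AddCommGroup W] [Module F W]

/-- `g = y * x⁻¹` with `y` of class `s` and `x` of class `t`. -/
def Fac (g : Module.End F V) (s t : Multiset F[X]) : Prop :=
  ∃ x y : Module.End F V, HasCls x t ∧ HasCls y s ∧ g * x = y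

lemma Fac.similar {g : Module.End F V} {h : Module.End F W} {s t : Multiset F[X]} (hf : Fac g s t)
    (hs : Similar h g) : Fac h s t := by
  obtain ⟨x, y, hx, hy, hgx⟩ := hf
  obtain ⟨e, he⟩ := hs
  refine ⟨(e.symm : V →ₗ[F] W) ∘ₗ x ∘ₗ (e : W →ₗ[F] V), (e.symm : V →ₗ[F] W) ∘ₗ y ∘ₗ (e : W →ₗ[F] V),
    hx.similar ⟨e, fun w => by simp⟩, hy.similar ⟨e, fun w => by simp⟩, LinearMap.ext fun w => e.injective ?_⟩
  have := LinearMap.congr_fun hgx (e w)
  simp only [Module.End.mul_apply] at this ⊢
  simp only [LinearMap.comp_apply, LinearEquiv.coe_coe]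
  rw [he, LinearEquiv.apply_symm_apply, this, LinearEquiv.apply_symm_apply]

lemma hasCls_model {N : ℕ} {f : Fin N → F[X]} {w : Multiset F[X]} (hf : Finset.univ.val.map f = w) :
    HasCls (modelEnd f) w := ⟨N, f, hf, Similar.refl _⟩

/-- All endomorphisms of class `w` are quotients of the classes `s` and `t`. -/
def F2 (w s t : Multiset F[X]) : Prop :=
  ∀ (N : ℕ) (f : Fin N → F[X]), Finset.univ.val.map f = w → Fac (modelEnd f) s t

lemma F2.fac {g : Module.End F V} {w s t : Multiset F[X]} (h : F2 w s t) (hg : HasCls g w) : Fac g s t := by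
  obtain ⟨N, f, hf, hs⟩ := hg
  exact (h N f hf).similar hs

lemma F2.of_fac {g : Module.End F V} {w s t : Multiset F[X]} (hg : HasCls g w) (h : Fac g s t) : F2 w s t :=
  fun N f hf => h.similar ((hasCls_model hf : HasCls (modelEnd f) w).unique hg)

lemma F2.of_imp {w w' s t : Multiset F[X]} (h : F2 w' s t)
    (hw : ∀ (N : ℕ) (f : Fin N → F[X]), HasCls (modelEnd f) w → HasCls (modelEnd f) w') : F2 w s t :=
  fun N f hf => h.fac (hw N f ⟨N, f, hf, Similar.refl _⟩)

lemma F2.add {w w' s s' t t' : Multiset F[X]} (h : F2 w s t) (h' : F2 w' s' t') :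
    F2 (w + w') (s + s') (t + t') := by
  obtain ⟨N, f, hf⟩ := exists_hasCls_model w
  obtain ⟨M, g, hg⟩ := exists_hasCls_model w'
  obtain ⟨x, y, hx, hy, hxy⟩ := h.fac hf
  obtain ⟨x', y', hx', hy', hxy'⟩ := h'.fac hg
  refine F2.of_fac (hf.prod hg) ⟨x.prodMap x', y.prodMap y', hx.prod hx', hy.prod hy', ?_⟩
  rw [← hxy, ← hxy']
  rfl

lemma similar_tri_congr {V' W' : Type*} [AddCommGroup V'] [Module F V'] [AddCommGroup W'] [Module F W']
    {T : Module.End F V} {T' : Module.End F V'} {S : Module.End F W} {S' : Module.End F W'}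
    (h : Similar T T') (h' : Similar S S') (Z : W →ₗ[F] V) :
    ∃ Z' : W' →ₗ[F] V', Similar (Calc.tri T Z S) (Calc.tri T' Z' S') := by
  obtain ⟨e, he⟩ := h
  obtain ⟨e', he'⟩ := h'
  refine ⟨(e : V →ₗ[F] V') ∘ₗ Z ∘ₗ (e'.symm : W' →ₗ[F] W), e.prodCongr e', fun v => Prod.ext ?_ (he' v.2)⟩
  show e (T v.1 + Z v.2) = T' (e v.1) + e (Z (e'.symm (e' v.2)))
  rw [map_add, he, LinearEquiv.symm_apply_apply]

/-- The companion of a product is triangular. -/
lemma hasCls_tri_comp {f h : F[X]} (hf : f.Monic) (hh : h.Monic) (hd : 0 < h.natDegree) :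
    ∃ Z : AdjoinRoot h →ₗ[F] AdjoinRoot f,
      HasCls (Calc.tri (LinearMap.mulLeft F (AdjoinRoot.root f)) Z (LinearMap.mulLeft F (AdjoinRoot.root h)))
        {f * h} := by
  classical
  haveI : Module.Finite F (AdjoinRoot f) := (AdjoinRoot.powerBasis hf.ne_zero).finite
  haveI : Module.Finite F (AdjoinRoot h) := (AdjoinRoot.powerBasis hh.ne_zero).finite
  set j := h.natDegree
  let B := (AdjoinRoot.powerBasis hh.ne_zero).basis
  have hdim : (AdjoinRoot.powerBasis hh.ne_zero).dim = j := AdjoinRoot.powerBasis_dim hh.ne_zero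
  let Z : AdjoinRoot h →ₗ[F] AdjoinRoot f := (B.coord ⟨j - 1, by rw [hdim]; omega⟩).smulRight 1
  refine ⟨Z, ?_⟩
  set T := Calc.tri (LinearMap.mulLeft F (AdjoinRoot.root f)) Z (LinearMap.mulLeft F (AdjoinRoot.root h))
  have hZ : ∀ i, i < j → Z (AdjoinRoot.root h ^ i) = if i = j - 1 then 1 else 0 := by
    intro i hi
    have : B ⟨i, by rw [hdim]; exact hi⟩ = AdjoinRoot.root h ^ i := by
      simp [B, PowerBasis.basis_eq_pow]
    rw [← this]
    simp only [Z, LinearMap.smulRight_apply, Module.Basis.coord_apply, Module.Basis.repr_self, Finsupp.single_apply,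
      Fin.mk.injEq]
    split_ifs <;> simp
  have hpow : ∀ i, i < j → (T ^ i) (0, 1) = (0, AdjoinRoot.root h ^ i) := by
    intro i
    induction i with
    | zero => intro _; simp
    | succ i ih =>
      intro hi
      rw [pow_succ', Module.End.mul_apply, ih (by omega), tri_apply, map_zero, zero_add, hZ i (by omega),
        if_neg (by omega)]
      exact Prod.ext rfl (pow_succ' _ _).symm
  have hj : (T ^ j) (0, 1) = (1, AdjoinRoot.root h ^ j) := by
    obtain ⟨i, hi⟩ : ∃ i, j = i + 1 := ⟨j - 1, by omega⟩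
    rw [hi, pow_succ', Module.End.mul_apply, hpow i (by omega), tri_apply, map_zero, zero_add, hZ i (by omega),
      if_pos (by omega)]
    exact Prod.ext rfl (pow_succ' _ _).symm
  have hhT : aeval T h (0, 1) = (1, 0) := by
    rw [aeval_eq_sum_range, LinearMap.sum_apply, Finset.sum_range_succ]
    have h0 : AdjoinRoot.root h ^ j + ∑ i ∈ Finset.range j, h.coeff i • AdjoinRoot.root h ^ i = 0 := by
      have := AdjoinRoot.aeval_eq (f := h) h
      rw [AdjoinRoot.mk_self, aeval_eq_sum_range, Finset.sum_range_succ, show h.coeff h.natDegree = 1 from hh.coeff_natDegree,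
        one_smul] at this
      rw [add_comm]; exact this
    rw [Finset.sum_congr rfl fun i hi => by
      rw [LinearMap.smul_apply, hpow i (Finset.mem_range.mp hi)], LinearMap.smul_apply, hj,
      show h.coeff j = 1 from hh.coeff_natDegree, one_smul]
    refine Prod.ext ?_ ?_
    · simp [Prod.fst_sum]
    · simp only [Prod.snd_add, Prod.snd_sum, Prod.smul_snd]
      rw [add_comm]
      exact h0
  have hfst : ∀ p : F[X], aeval T p (1, 0) = (AdjoinRoot.mk f p, 0) := by
    intro p
    induction p using Polynomial.induction_on with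
    | C a => rw [aeval_C, Module.algebraMap_end_apply]; refine Prod.ext ?_ ?_ <;> simp [Algebra.smul_def]
    | add p q hp hq => rw [map_add, LinearMap.add_apply, hp, hq, map_add]; simp
    | monomial k a ih =>
      rw [pow_succ, ← mul_assoc, mul_comm, map_mul (aeval T), aeval_X, Module.End.mul_apply, ih, tri_apply,
        map_mul (AdjoinRoot.mk f) X, AdjoinRoot.mk_X]
      simp
  refine hasCls_of_cyclic T (0, 1) (f * h) (hf.mul hh) ?_ ?_ ?_
  · rw [Module.finrank_prod, finrank_adjoinRoot hf.ne_zero, finrank_adjoinRoot hh.ne_zero,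
      natDegree_mul hf.ne_zero hh.ne_zero]
  · rw [map_mul, Module.End.mul_apply, hhT, hfst, AdjoinRoot.mk_self]; rfl
  · intro C h1 hC
    have hp : ∀ (p : F[X]) (u), u ∈ C → aeval T p u ∈ C := by
      intro p
      induction p using Polynomial.induction_on with
      | C a => intro u hu; rw [aeval_C, Module.algebraMap_end_apply]; exact C.smul_mem _ hu
      | add p q hp hq => intro u hu; rw [map_add, LinearMap.add_apply]; exact C.add_mem (hp u hu) (hq u hu)
      | monomial k a ih =>
        intro u hu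
        rw [pow_succ, ← mul_assoc, mul_comm, map_mul, aeval_X, Module.End.mul_apply]
        exact hC _ (ih u hu)
    have h10 : ((1 : AdjoinRoot f), (0 : AdjoinRoot h)) ∈ C := hhT ▸ hp h _ h1
    rw [eq_top_iff]
    rintro ⟨x, y⟩ -
    have hx : ∀ x : AdjoinRoot f, (x, (0 : AdjoinRoot h)) ∈ C := fun x => by
      obtain ⟨p, rfl⟩ := AdjoinRoot.mk_surjective x
      exact hfst p ▸ hp p _ h10
    have hy : ∀ p : F[X], ∃ x : AdjoinRoot f, (x, AdjoinRoot.mk h p) ∈ C := fun p => by
      have hsnd : (aeval T p ((0 : AdjoinRoot f), (1 : AdjoinRoot h))).2 = AdjoinRoot.mk h p := by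
        induction p using Polynomial.induction_on with
        | C a => rw [aeval_C, Module.algebraMap_end_apply]; simp [Algebra.smul_def]
        | add p q hp hq => rw [map_add, LinearMap.add_apply, Prod.snd_add, hp, hq, map_add]
        | monomial k a ih =>
          rw [pow_succ, ← mul_assoc, mul_comm, map_mul (aeval T), aeval_X, Module.End.mul_apply, tri_apply,
            map_mul (AdjoinRoot.mk h) X, AdjoinRoot.mk_X]
          exact congrArg (AdjoinRoot.root h * ·) ih
      refine ⟨(aeval T p ((0 : AdjoinRoot f), (1 : AdjoinRoot h))).1, ?_⟩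
      rw [← hsnd]
      exact hp p _ h1
    obtain ⟨p, rfl⟩ := AdjoinRoot.mk_surjective y
    obtain ⟨x', hx'⟩ := hy p
    have := C.add_mem (hx (x - x')) hx'
    simpa using this

/-- Many companions of products at once. -/
lemma exists_tri_model (P : Multiset (F[X] × F[X])) (hP : ∀ q ∈ P, Monic q.1 ∧ Monic q.2 ∧ 0 < q.2.natDegree)
    (w₁ w₂ : Multiset F[X]) :
    ∃ (N M : ℕ) (f : Fin N → F[X]) (h : Fin M → F[X])
      (Z : (Π i, AdjoinRoot (h i)) →ₗ[F] (Π i, AdjoinRoot (f i))),
      Finset.univ.val.map f = w₁ + P.map Prod.fst ∧ Finset.univ.val.map h = w₂ + P.map Prod.snd ∧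
      HasCls (Calc.tri (modelEnd f) Z (modelEnd h)) (w₁ + w₂ + P.map fun q => q.1 * q.2) := by
  induction P using Multiset.induction with
  | empty =>
    obtain ⟨N, f, hf⟩ := exists_hasCls_model w₁
    obtain ⟨M, h, hh⟩ := exists_hasCls_model w₂
    obtain ⟨N', f', hf', hs⟩ := hf
    obtain ⟨M', h', hh', hs'⟩ := hh
    refine ⟨N', M', f', h', 0, by simpa using hf', by simpa using hh', ?_⟩
    have h1 := (hasCls_model hf' : HasCls (modelEnd f') w₁).prod
      (hasCls_model hh' : HasCls (modelEnd h') w₂)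
    simp only [Multiset.map_zero, add_zero]
    exact h1.similar ⟨LinearEquiv.refl F _, fun v => by simp [tri_apply]⟩
  | cons q P ih =>
    obtain ⟨N, M, f, h, Z, hf, hh, hT⟩ := ih fun r hr => hP r (Multiset.mem_cons_of_mem hr)
    obtain ⟨hq1, hq2, hq3⟩ := hP q (Multiset.mem_cons_self _ _)
    obtain ⟨Zc, hc⟩ := hasCls_tri_comp hq1 hq2 hq3
    have hG1 : HasCls ((LinearMap.mulLeft F (AdjoinRoot.root q.1)).prodMap (modelEnd f))
        (w₁ + (q ::ₘ P).map Prod.fst) := by
      have := (hasCls_comp q.1).prod (hasCls_model hf : HasCls (modelEnd f) (w₁ + P.map Prod.fst))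
      rwa [Multiset.map_cons, ← Multiset.singleton_add, ← add_assoc, add_comm w₁, add_assoc]
    have hG2 : HasCls ((LinearMap.mulLeft F (AdjoinRoot.root q.2)).prodMap (modelEnd h))
        (w₂ + (q ::ₘ P).map Prod.snd) := by
      have := (hasCls_comp q.2).prod (hasCls_model hh : HasCls (modelEnd h) (w₂ + P.map Prod.snd))
      rwa [Multiset.map_cons, ← Multiset.singleton_add, ← add_assoc, add_comm w₂, add_assoc]
    obtain ⟨N', f', hf', hs1⟩ := hG1
    obtain ⟨M', h', hh', hs2⟩ := hG2
    obtain ⟨Z', hZ'⟩ := similar_tri_congr hs1 hs2 (Zc.prodMap Z)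
    refine ⟨N', M', f', h', Z', hf', hh', ?_⟩
    have h1 := hc.prod hT
    rw [Multiset.map_cons, ← Multiset.singleton_add, add_left_comm]
    refine h1.similar (hZ'.symm.trans ⟨LinearEquiv.prodProdProdComm F _ _ _ _, fun v => ?_⟩)
    simp [tri_apply]

/-- Gluing with coprime classes. -/
lemma F2.glue {w₁ w₂ s₁ s₂ t₁ t₂ : Multiset F[X]} (P : Multiset (F[X] × F[X]))
    (hP : ∀ q ∈ P, Monic q.1 ∧ Monic q.2 ∧ 0 < q.2.natDegree)
    (h₁ : F2 (w₁ + P.map Prod.fst) s₁ t₁) (h₂ : F2 (w₂ + P.map Prod.snd) s₂ t₂)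
    (hw₁ : ∀ q ∈ w₁, Monic q) (hw₂ : ∀ q ∈ w₂, Monic q)
    (hc : IsCoprime s₁.prod s₂.prod) :
    F2 (w₁ + w₂ + P.map fun q => q.1 * q.2) (s₁ + s₂) (t₁ + t₂) := by
  obtain ⟨N, M, f, h, Z, hf, hh, hT⟩ := exists_tri_model P hP w₁ w₂
  have hmon : ∀ (u : Multiset F[X]) (g : F[X] × F[X] → F[X]), (∀ q ∈ u, Monic q) → (∀ q ∈ P, Monic (g q)) →
      ∀ x ∈ u + P.map g, Monic x := by
    intro u g hu hg x hx
    rcases Multiset.mem_add.mp hx with hx | hx
    · exact hu x hx
    · obtain ⟨q, hq, rfl⟩ := Multiset.mem_map.mp hx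
      exact hg q hq
  haveI : FiniteDimensional F (Π i, AdjoinRoot (f i)) :=
    (hasCls_model hf : HasCls (modelEnd f) _).finiteDimensional (hmon _ _ hw₁ fun q hq => (hP q hq).1)
  haveI : FiniteDimensional F (Π i, AdjoinRoot (h i)) :=
    (hasCls_model hh : HasCls (modelEnd h) _).finiteDimensional (hmon _ _ hw₂ fun q hq => (hP q hq).2.1)
  obtain ⟨x₁, y₁, hx₁, hy₁, h1⟩ := h₁ N f hf
  obtain ⟨x₂, y₂, hx₂, hy₂, h2⟩ := h₂ M h hh
  refine F2.of_fac hT ⟨x₁.prodMap x₂, Calc.tri y₁ (Z ∘ₗ x₂) y₂, hx₁.prod hx₂, hy₁.tri hy₂ hc _, ?_⟩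
  rw [← h1, ← h2]
  exact LinearMap.ext fun v => rfl

/-- A commutator of two endomorphisms of determinant one. -/
def IsComm (g : Module.End F V) : Prop :=
  ∃ a b : Module.End F V, LinearMap.det a = 1 ∧ LinearMap.det b = 1 ∧ g * (b * a) = a * b

lemma Fac.isComm [FiniteDimensional F V] {g : Module.End F V} {s : Multiset F[X]} (h : Fac g s s)
    (hsd : ∀ y : Module.End F V, HasCls y s → SurjDet y)
    (hdet : ∀ y : Module.End F V, HasCls y s → LinearMap.det y = 1) : IsComm g := by
  obtain ⟨x, y, hx, hy, hgx⟩ := h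
  obtain ⟨E, hE⟩ := hy.unique hx
  have hE0 : LinearMap.det (E : V →ₗ[F] V) ≠ 0 := (LinearEquiv.isUnit_det' E).ne_zero
  obtain ⟨z, hz, hzd⟩ := hsd y hy _ (inv_ne_zero hE0)
  refine ⟨y, (E : V →ₗ[F] V) * z, hdet y hy, by rw [map_mul, hzd, mul_inv_cancel₀ hE0], ?_⟩
  have h1 : ((E : V →ₗ[F] V) * z) * y = x * ((E : V →ₗ[F] V) * z) := by
    refine LinearMap.ext fun v => ?_
    show E (z (y v)) = x (E (z v))
    rw [← Module.End.mul_apply z, hz, Module.End.mul_apply]
    exact hE _
  rw [h1, ← mul_assoc, hgx]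

lemma hasCls_smul_self (a : F) : HasCls (a • LinearMap.id : Module.End F F) {X - C a} := by
  refine hasCls_of_cyclic _ 1 _ (monic_X_sub_C a) ?_ ?_ ?_
  · rw [Module.finrank_self, natDegree_X_sub_C]
  · simp [map_sub, Module.algebraMap_end_apply]
  · intro C h1 _
    rw [eq_top_iff]
    intro x _
    simpa using C.smul_mem x h1

/-- A cyclic commutator in every dimension with prescribed class. -/
lemma exists_cyclic_comm {s : F[X]} (hs : s.Monic) (hs0 : s.coeff 0 ≠ 0) (hd : 0 < s.natDegree) :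
    ∃ (χ : F[X]) (x y : Module.End F (AdjoinRoot χ)), χ.Monic ∧ χ.natDegree = s.natDegree ∧
      χ.coeff 0 = (-1) ^ s.natDegree ∧ HasCls x {s} ∧ HasCls y {s} ∧
      LinearMap.mulLeft F (AdjoinRoot.root χ) * x = y := by
  classical
  haveI : Module.Finite F (AdjoinRoot s) := (AdjoinRoot.powerBasis hs.ne_zero).finite
  haveI : Module.Free F (AdjoinRoot s) := Module.Free.of_divisionRing F _
  set j := s.natDegree
  set r := AdjoinRoot.root s
  set A := LinearMap.mulLeft F r with hA
  let B := (AdjoinRoot.powerBasis hs.ne_zero).basis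
  have hdim : (AdjoinRoot.powerBasis hs.ne_zero).dim = j := AdjoinRoot.powerBasis_dim hs.ne_zero
  have hB : ∀ i : Fin (AdjoinRoot.powerBasis hs.ne_zero).dim, B i = r ^ i.val := fun i => by
    simp [B, r, PowerBasis.basis_eq_pow]
  -- alternating coefficients, equal to one at the top
  let u : ℕ → F := fun i => if i = 0 ∨ (j - 1 - i) % 2 = 1 then 0 else 1
  let D : Module.End F (AdjoinRoot s) := B.constr F fun i => u i.val • r ^ (i.val - 1)
  have hD : ∀ i, i < j → D (r ^ i) = u i • r ^ (i - 1) := fun i hi => by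
    have e := B.constr_basis F (fun i => u i.val • r ^ (i.val - 1)) ⟨i, by rw [hdim]; exact hi⟩
    rw [hB] at e
    exact e
  have hnil : ∀ k i, i < j → i < k → (D ^ k) (r ^ i) = 0 := by
    intro k
    induction k with
    | zero => intro i _ h; exact absurd h (Nat.not_lt_zero _)
    | succ k ih =>
      intro i hi hik
      rw [pow_succ, Module.End.mul_apply, hD i hi, map_smul]
      rcases Nat.eq_zero_or_pos i with rfl | hi0
      · simp [u]
      · rw [ih (i - 1) (by omega) (by omega), smul_zero]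
  have hT : IsUnit (1 + D) := by
    refine IsNilpotent.isUnit_one_add ⟨j, B.ext fun i => ?_⟩
    have hij : i.val < j := hdim ▸ i.isLt
    rw [hB, hnil j i.val hij hij, LinearMap.zero_apply]
  obtain ⟨Tu, hTu⟩ := hT
  have hAdet : LinearMap.det A ≠ 0 := by
    have := (hasCls_comp s).det (by simpa using hs)
    rw [this]; simp [hs0]
  have hAu : IsUnit A := (LinearMap.isUnit_iff_isUnit_det A).mpr (isUnit_iff_ne_zero.mpr hAdet)
  obtain ⟨Au, hAu⟩ := hAu
  let y : Module.End F (AdjoinRoot s) := (Tu : Module.End F (AdjoinRoot s)) * A * ↑(Tu⁻¹)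
  let N : Module.End F (AdjoinRoot s) := y * ↑(Au⁻¹)
  have hNx : N * A = y := by
    show y * ↑(Au⁻¹) * A = y
    rw [mul_assoc, ← hAu, Units.inv_mul, mul_one]
  have hy : Similar y A := by
    refine ⟨LinearMap.GeneralLinearGroup.toLinearEquiv Tu⁻¹, fun v => ?_⟩
    show (↑(Tu⁻¹) : Module.End F (AdjoinRoot s)) (y v) = A ((↑(Tu⁻¹) : Module.End F (AdjoinRoot s)) v)
    simp only [y, Module.End.mul_apply]
    rw [← Module.End.mul_apply, Units.inv_mul]; rfl
  -- the key equation
  have hkey : ∀ v, N (A (v + D v)) = A v + D (A v) := by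
    intro v
    have h1 : ((1 : Module.End F (AdjoinRoot s)) + D) v = v + D v := rfl
    rw [← Module.End.mul_apply, hNx, ← h1, ← hTu]
    simp only [y, Module.End.mul_apply]
    rw [← Module.End.mul_apply (↑(Tu⁻¹) : Module.End F (AdjoinRoot s)), Units.inv_mul, Module.End.one_apply, hTu]
    rfl
  have hNdet : LinearMap.det N = 1 := by
    have h1 := congrArg LinearMap.det hNx
    rw [map_mul, hy.det_eq] at h1
    exact mul_right_cancel₀ hAdet (h1.trans (one_mul _).symm)
  have hcyc : ∀ C : Submodule F (AdjoinRoot s), (1 : AdjoinRoot s) ∈ C → (∀ v ∈ C, N v ∈ C) → C = ⊤ := by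
    intro C h1 hC
    let Wf : ℕ → Submodule F (AdjoinRoot s) := fun i => C ⊔ Submodule.span F ((fun k => r ^ k) '' Set.Iio i)
    have hmem : ∀ i k, k < i → r ^ k ∈ Wf i := fun i k h =>
      Submodule.mem_sup_right (Submodule.subset_span ⟨k, h, rfl⟩)
    have hmono : ∀ i k, i ≤ k → Wf i ≤ Wf k := fun i k h =>
      sup_le_sup_left (Submodule.span_mono (Set.image_mono (Set.Iio_subset_Iio h))) _
    have h0 : Wf 1 ≤ C := sup_le le_rfl (Submodule.span_le.mpr (by
      rintro _ ⟨k, hk, rfl⟩
      obtain rfl : k = 0 := Nat.lt_one_iff.mp hk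
      show r ^ 0 ∈ C
      rw [pow_zero]; exact h1))
    let M : Module.End F (AdjoinRoot s) := N - 1
    have hMC : ∀ v ∈ C, M v ∈ C := fun v hv => C.sub_mem (hC v hv) hv
    have hM : ∀ i, 1 ≤ i → i < j → M (r ^ i) + u (i - 1) • M (r ^ (i - 1)) = (u i - u (i - 1)) • r ^ (i - 1) := by
      intro i h1i hij
      have h2 := hkey (r ^ (i - 1))
      rw [hD (i - 1) (by omega), map_add, map_smul,
        show A (r ^ (i - 1)) = r ^ i from by
          rw [hA, LinearMap.mulLeft_apply, ← pow_succ', Nat.sub_add_cancel h1i], hD i hij] at h2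
      have h3 : u (i - 1) • A (r ^ (i - 1 - 1)) = u (i - 1) • r ^ (i - 1) := by
        rcases Nat.eq_zero_or_pos (i - 1) with h | h
        · simp [h, u]
        · rw [hA, LinearMap.mulLeft_apply, ← pow_succ', Nat.sub_add_cancel h]
      rw [h3, map_add, map_smul] at h2
      simp only [M, LinearMap.sub_apply, Module.End.one_apply, smul_sub, sub_smul]
      rw [← sub_eq_zero] at h2 ⊢
      rw [← h2]; abel
    have hlow : ∀ i, i < j → M (r ^ i) ∈ Wf i ∧ ∀ v ∈ Wf (i + 1), M v ∈ Wf i := by
      intro i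
      induction i with
      | zero =>
        intro _
        refine ⟨Submodule.mem_sup_left (hMC _ (by rw [pow_zero]; exact h1)), fun v hv => ?_⟩
        exact Submodule.mem_sup_left (hMC v (h0 hv))
      | succ i ih =>
        intro hi
        obtain ⟨ihm, ihv⟩ := ih (by omega)
        have he := hM (i + 1) (by omega) hi
        rw [show i + 1 - 1 = i by omega] at he
        have hm : M (r ^ (i + 1)) ∈ Wf (i + 1) := by
          rw [eq_sub_of_add_eq he]
          exact sub_mem (Submodule.smul_mem _ _ (hmem _ _ (by omega)))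
            (Submodule.smul_mem _ _ (hmono _ _ (by omega) ihm))
        refine ⟨hm, fun v hv => ?_⟩
        have hle : Wf (i + 1 + 1) ≤ (Wf (i + 1)).comap M := by
          refine sup_le (fun v hv => Submodule.mem_sup_left (hMC v hv)) (Submodule.span_le.mpr ?_)
          rintro _ ⟨k, hk, rfl⟩
          rcases Nat.lt_succ_iff_lt_or_eq.mp hk with hk | rfl
          · exact hmono _ _ (by omega) (ihv _ (hmem _ _ hk))
          · exact hm
        exact hle hv
    have hu1 : ∀ i, 2 ≤ i → i < j → u i - u (i - 1) ≠ 0 := by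
      intro i h2i hij
      have h4 : (j - 1 - (i - 1)) = (j - 1 - i) + 1 := by omega
      simp only [u, h4, show ¬ i = 0 by omega, show ¬ i - 1 = 0 by omega, false_or]
      rcases Nat.mod_two_eq_zero_or_one (j - 1 - i) with h5 | h5 <;>
        simp [h5, Nat.add_mod]
    have hdown : ∀ k, k < j → r ^ (j - 1 - k) ∈ Wf (j - 1 - k) ∨ j - 1 - k = 0 := by
      intro k
      induction k with
      | zero =>
        intro _
        rcases Nat.eq_zero_or_pos (j - 1) with h | h
        · exact Or.inr (by omega)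
        left
        rw [Nat.sub_zero]
        have hu : u (j - 1) = 1 := by simp [u, show ¬ j - 1 = 0 by omega]
        have h2 := hkey (r ^ (j - 1))
        rw [hD (j - 1) (by omega), hu, one_smul, map_add,
          show A (r ^ (j - 1)) = r ^ j from by
            rw [hA, LinearMap.mulLeft_apply, ← pow_succ', Nat.sub_add_cancel (by omega)],
          show A (r ^ (j - 1 - 1)) = r ^ (j - 1) from by
            rw [hA, LinearMap.mulLeft_apply, ← pow_succ', Nat.sub_add_cancel (by omega)], map_add] at h2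
        have hrj : r ^ j = -∑ i ∈ Finset.range j, s.coeff i • r ^ i := by
          have := AdjoinRoot.aeval_eq (f := s) s
          rw [AdjoinRoot.mk_self, aeval_eq_sum_range, Finset.sum_range_succ,
            show s.coeff s.natDegree = 1 from hs.coeff_natDegree, one_smul] at this
          rw [eq_neg_iff_add_eq_zero, add_comm]; exact this
        have hMv : ∀ v ∈ Submodule.span F ((fun k => r ^ k) '' Set.Iio j), M v - D v ∈ Wf (j - 1) := by
          intro v hv
          induction hv using Submodule.span_induction with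
          | mem v hv =>
            obtain ⟨i, hi, rfl⟩ := hv
            refine sub_mem (hmono i (j - 1) (by have : i < j := hi; omega) (hlow i hi).1) ?_
            rw [hD i hi]
            rcases Nat.eq_zero_or_pos i with rfl | hi0
            · simp [u]
            · exact Submodule.smul_mem _ _ (hmem _ _ (by have : i < j := hi; omega))
          | zero => simp
          | add a b _ _ ha hb => rw [map_add, map_add, add_sub_add_comm]; exact add_mem ha hb
          | smul c a _ ha => rw [map_smul, map_smul, ← smul_sub]; exact Submodule.smul_mem _ _ ha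
        have hj1 : r ^ j ∈ Submodule.span F ((fun k => r ^ k) '' Set.Iio j) := by
          rw [hrj]
          exact Submodule.neg_mem _ (Submodule.sum_mem _ fun i hi =>
            Submodule.smul_mem _ _ (Submodule.subset_span ⟨i, Finset.mem_range.mp hi, rfl⟩))
        have h3 : r ^ (j - 1) = -((M (r ^ j) - D (r ^ j)) + M (r ^ (j - 1))) := by
          simp only [M, LinearMap.sub_apply, Module.End.one_apply]
          rw [← sub_eq_zero] at h2 ⊢
          rw [← h2]; abel
        rw [h3]
        exact Submodule.neg_mem _ (add_mem (hMv _ hj1) (hlow (j - 1) (by omega)).1)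
      | succ k ih =>
        intro hk
        rcases ih (by omega) with hi | hi
        swap
        · exact Or.inr (by omega)
        obtain ⟨i, hi'⟩ : ∃ i, j - 1 - k = i + 1 := ⟨j - 1 - (k + 1), by omega⟩
        rw [show j - 1 - (k + 1) = i by omega]
        rw [hi'] at hi
        rcases Nat.eq_zero_or_pos i with h | h
        · exact Or.inr h
        left
        have h5 : M (r ^ (i + 1)) ∈ Wf i := (hlow i (by omega)).2 _ hi
        have he := hM (i + 1) (by omega) (by omega)
        rw [show i + 1 - 1 = i by omega] at he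
        have h6 : (u (i + 1) - u i) • r ^ i ∈ Wf i :=
          he ▸ add_mem h5 (Submodule.smul_mem _ _ (hlow i (by omega)).1)
        exact (Submodule.smul_mem_iff _ (by simpa using hu1 (i + 1) (by omega) (by omega))).1 h6
    have hall : ∀ i, i < j → r ^ i ∈ C := by
      intro i
      induction i using Nat.strong_induction_on with
      | _ i ih =>
        intro hi
        rcases hdown (j - 1 - i) (by omega) with h | h
        · rw [show j - 1 - (j - 1 - i) = i by omega] at h
          refine (sup_le le_rfl (Submodule.span_le.mpr ?_) : Wf i ≤ C) h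
          rintro _ ⟨k, hk, rfl⟩
          exact ih k hk (by have : k < i := hk; omega)
        · rw [show i = 0 by omega, pow_zero]; exact h1
    rw [eq_top_iff, ← B.span_eq, Submodule.span_le]
    rintro _ ⟨i, rfl⟩
    rw [hB]
    exact hall _ (hdim ▸ i.isLt)
  set χ := N.charpoly
  have hχd : χ.natDegree = j := by
    rw [show χ = N.charpoly from rfl, LinearMap.charpoly_natDegree, finrank_adjoinRoot hs.ne_zero]
  have hN : HasCls N {χ} :=
    hasCls_of_cyclic N 1 χ N.charpoly_monic N.charpoly_natDegree.symm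
      (by rw [LinearMap.aeval_self_charpoly]; rfl) hcyc
  have hχ0 : χ.coeff 0 = (-1) ^ j := by
    have h2 := hN.det (by simp [χ, N.charpoly_monic])
    rw [hNdet, Multiset.map_singleton, Multiset.prod_singleton, hχd] at h2
    calc χ.coeff 0 = ((-1 : F) ^ j * (-1) ^ j) * χ.coeff 0 := by rw [← mul_pow]; simp
      _ = (-1) ^ j := by rw [mul_assoc, ← h2, mul_one]
  obtain ⟨x', y', hx', hy', hxy'⟩ := (F2.of_fac hN (s := {s}) (t := {s})
    ⟨A, y, hasCls_comp s, (hasCls_comp s).similar hy, hNx⟩).fac (hasCls_comp χ)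
  exact ⟨χ, x', y', N.charpoly_monic, hχd, hχ0, hx', hy', hxy'⟩

/-- **The cyclic factorisation.** -/
theorem F2.cyclic {f s : F[X]} {a b : F} (hf : f.Monic) (hs : s.Monic) (hd : f.natDegree = s.natDegree + 1)
    (hj : 0 < s.natDegree) (hs0 : s.coeff 0 ≠ 0) (hb : b ≠ 0) (ha : a ≠ 0) (hsa : s.eval a ≠ 0)
    (hsb : s.eval b ≠ 0) (hf0 : f.coeff 0 = -(a / b) * (-1) ^ s.natDegree) :
    F2 {f} {X - C a, s} {X - C b, s} := by
  classical
  obtain ⟨χ, xN, yN, hχ, hχd, hχ0, hx, hy, hxy⟩ := exists_cyclic_comm hs hs0 hj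
  set j := s.natDegree
  haveI : Module.Finite F (AdjoinRoot f) := (AdjoinRoot.powerBasis hf.ne_zero).finite
  haveI : Module.Finite F (AdjoinRoot χ) := (AdjoinRoot.powerBasis hχ.ne_zero).finite
  have hχ00 : χ.coeff 0 ≠ 0 := by rw [hχ0]; simp
  set r := AdjoinRoot.root χ
  -- quotient and top remainder coefficient
  have hqa : ∀ p q : F[X], (p + q) /ₘ f = p /ₘ f + q /ₘ f := fun p q =>
    (Polynomial.div_modByMonic_unique (r := p %ₘ f + q %ₘ f) _ hf
      ⟨by linear_combination Polynomial.modByMonic_add_div p f + Polynomial.modByMonic_add_div q f,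
        (degree_add_le _ _).trans_lt (max_lt (degree_modByMonic_lt _ hf) (degree_modByMonic_lt _ hf))⟩).1
  let U₀ : F[X] →ₗ[F] AdjoinRoot χ :=
    { toFun := fun p => AdjoinRoot.mk χ ((χ * p) /ₘ f)
      map_add' := fun p q => by rw [mul_add, hqa, map_add]
      map_smul' := fun c p => by
        have h := (Polynomial.div_modByMonic_unique (f := C c * (χ * p)) (C c * ((χ * p) /ₘ f)) (C c * ((χ * p) %ₘ f)) hf
          ⟨by linear_combination C c * Polynomial.modByMonic_add_div (χ * p) f,
            by rw [← smul_eq_C_mul]; exact (degree_smul_le _ _).trans_lt (degree_modByMonic_lt _ hf)⟩).1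
        rw [RingHom.id_apply, mul_smul_comm, smul_eq_C_mul, h, map_mul, AdjoinRoot.mk_C, Algebra.smul_def]
        rfl }
  let ρ₀ : F[X] →ₗ[F] F :=
    (lcoeff F j) ∘ₗ (modByMonicHom f) ∘ₗ (LinearMap.mulLeft F χ)
  have hρ₀ : ∀ p, ρ₀ p = ((χ * p) %ₘ f).coeff j := fun p => rfl
  have hU₀ : ∀ p, U₀ p = AdjoinRoot.mk χ ((χ * p) /ₘ f) := fun p => rfl
  have hUX : ∀ p, U₀ (X * p) = r * U₀ p + algebraMap F _ (ρ₀ p) := by
    intro p
    set R := (χ * p) %ₘ f with hR
    have hRd : R.degree ≤ j := by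
      have := natDegree_modByMonic_lt (χ * p) hf (fun h1 => by rw [h1, natDegree_one] at hd; omega)
      rw [← hR, hd] at this
      exact degree_le_natDegree.trans (by exact_mod_cast Nat.le_of_lt_succ this)
    have hlt : (X * R - C (R.coeff j) * f).degree < f.degree := by
      rw [degree_eq_natDegree hf.ne_zero, hd, Polynomial.degree_lt_iff_coeff_zero]
      intro m hm
      rcases eq_or_lt_of_le hm with h | h
      · rw [← h, coeff_sub, coeff_X_mul, coeff_C_mul, ← hd, hf.coeff_natDegree, mul_one, sub_self]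
      · obtain ⟨k, rfl⟩ : ∃ k, m = k + 1 := ⟨m - 1, by omega⟩
        rw [coeff_sub, coeff_X_mul, coeff_C_mul, coeff_eq_zero_of_natDegree_lt (show f.natDegree < k + 1 by omega),
          mul_zero, sub_zero, coeff_eq_zero_of_degree_lt (hRd.trans_lt (by exact_mod_cast (show j < k by omega)))]
    have h := (Polynomial.div_modByMonic_unique (f := χ * (X * p)) (X * ((χ * p) /ₘ f) + C (R.coeff j))
      (X * R - C (R.coeff j) * f) hf
      ⟨by linear_combination X * Polynomial.modByMonic_add_div (χ * p) f, hlt⟩).1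
    rw [hU₀, h, map_add, map_mul, AdjoinRoot.mk_X, AdjoinRoot.mk_C, hρ₀]
    rfl
  let G : F × AdjoinRoot χ →ₗ[F] F × AdjoinRoot χ :=
    Calc.tri (a • LinearMap.id) 0 (LinearMap.mulLeft F r) +
      LinearMap.prod 0 ((Algebra.linearMap F (AdjoinRoot χ)) ∘ₗ LinearMap.fst F F (AdjoinRoot χ))
  let Ψ₀ : F[X] →ₗ[F] F × AdjoinRoot χ := G ∘ₗ ρ₀.prod U₀
  have hΨ₀ : ∀ p, Ψ₀ p = (a * ρ₀ p, r * U₀ p + algebraMap F _ (ρ₀ p)) := fun p => by
    simp [Ψ₀, G, tri_apply]
  let Ψ : AdjoinRoot f →ₗ[F] F × AdjoinRoot χ :=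
    Submodule.liftQ ((Ideal.span {f}).restrictScalars F) Ψ₀ (by
      intro p hp
      obtain ⟨q, rfl⟩ := Ideal.mem_span_singleton'.mp hp
      have h1 := Polynomial.div_modByMonic_unique (f := χ * (q * f)) (χ * q) 0 hf
        ⟨by ring, by rw [degree_zero]; exact bot_lt_iff_ne_bot.mpr (degree_ne_bot.mpr hf.ne_zero)⟩
      rw [LinearMap.mem_ker, hΨ₀, hρ₀, hU₀, h1.1, h1.2, map_mul, AdjoinRoot.mk_self, zero_mul, coeff_zero]
      simp)
    ∘ₗ (Submodule.Quotient.restrictScalarsEquiv F (Ideal.span {f})).symm.toLinearMap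
  have hΨ : ∀ p, Ψ (AdjoinRoot.mk f p) = Ψ₀ p := fun p => rfl
  have hru : IsUnit r := by
    have h1 : r * AdjoinRoot.mk χ χ.divX = -algebraMap F _ (χ.coeff 0) := by
      rw [eq_neg_iff_add_eq_zero]
      have := congrArg (AdjoinRoot.mk χ) (X_mul_divX_add χ)
      rw [map_add, map_mul, AdjoinRoot.mk_X, AdjoinRoot.mk_self, AdjoinRoot.mk_C] at this
      exact this
    exact isUnit_of_mul_isUnit_left (h1 ▸ ((isUnit_iff_ne_zero.mpr hχ00).map (algebraMap F _)).neg)
  have hsurj : Function.Surjective Ψ := by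
    have hρU : ∀ (c : F) (u : AdjoinRoot χ), ∃ p, ρ₀ p = c ∧ U₀ p = u := by
      intro c u
      have hone : ρ₀ 1 = 1 ∧ U₀ 1 = 0 := by
        have hlt : χ.degree < f.degree := by
          rw [degree_eq_natDegree hχ.ne_zero, degree_eq_natDegree hf.ne_zero, hd, hχd]
          exact_mod_cast Nat.lt_succ_self j
        rw [hρ₀, hU₀, mul_one, (modByMonic_eq_self_iff hf).mpr hlt, (divByMonic_eq_zero_iff hf).mpr hlt,
          map_zero, ← hχd, hχ.coeff_natDegree]
        exact ⟨rfl, rfl⟩
      obtain ⟨u', rfl⟩ := AdjoinRoot.mk_surjective u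
      set u'' := u' %ₘ χ
      have hu : AdjoinRoot.mk χ u' = AdjoinRoot.mk χ u'' := by
        rw [AdjoinRoot.mk_eq_mk]
        exact ⟨u' /ₘ χ, by linear_combination -(Polynomial.modByMonic_add_div u' χ)⟩
      set p := (f * u'') /ₘ χ
      have hU : U₀ p = AdjoinRoot.mk χ u'' := by
        have hdeg : (-((f * u'') %ₘ χ)).degree < f.degree := by
          rw [degree_neg]
          refine (degree_modByMonic_lt _ hχ).trans ?_
          rw [degree_eq_natDegree hχ.ne_zero, degree_eq_natDegree hf.ne_zero, hd, hχd]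
          exact_mod_cast Nat.lt_succ_self j
        rw [hU₀, (Polynomial.div_modByMonic_unique u'' _ hf
          ⟨by linear_combination -(Polynomial.modByMonic_add_div (f * u'') χ), hdeg⟩).1]
      refine ⟨p + (c - ρ₀ p) • 1, ?_, ?_⟩
      · rw [map_add, map_smul, hone.1]; simp
      · rw [map_add, map_smul, hone.2, smul_zero, add_zero, hU, ← hu]
    rintro ⟨α, u⟩
    obtain ⟨ru, hru⟩ := hru
    obtain ⟨p, h1, h2⟩ := hρU (α / a) ((↑(ru⁻¹) : AdjoinRoot χ) * (u - algebraMap F _ (α / a)))
    refine ⟨AdjoinRoot.mk f p, ?_⟩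
    rw [hΨ, hΨ₀, h1, h2, ← hru, ← mul_assoc, Units.mul_inv, one_mul, sub_add_cancel, mul_div_cancel₀ _ ha]
  have hinj : Function.Injective Ψ :=
    (LinearMap.injective_iff_surjective_of_finrank_eq_finrank (by
      rw [Module.finrank_prod, Module.finrank_self, finrank_adjoinRoot hf.ne_zero, finrank_adjoinRoot hχ.ne_zero,
        hd, hχd, add_comm])).mpr hsurj
  let e := LinearEquiv.ofBijective Ψ ⟨hinj, hsurj⟩
  let H : Module.End F (F × AdjoinRoot χ) :=
    (e : AdjoinRoot f →ₗ[F] _) ∘ₗ LinearMap.mulLeft F (AdjoinRoot.root f) ∘ₗ (e.symm : _ →ₗ[F] AdjoinRoot f)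
  have hHcls : HasCls H {f} := (hasCls_comp f).similar (Similar.symm ⟨e, fun v => by simp [H]⟩)
  have hHΨ : ∀ p, H (Ψ₀ p) = Ψ₀ (X * p) := fun p => by
    have : Ψ₀ p = e (AdjoinRoot.mk f p) := rfl
    rw [this]
    simp only [H, LinearMap.comp_apply, LinearEquiv.coe_coe, LinearEquiv.symm_apply_apply, LinearMap.mulLeft_apply]
    rw [← AdjoinRoot.mk_X, ← map_mul]; rfl
  have hH2 : ∀ v, (H v).2 = r * v.2 + algebraMap F _ ((H v).1 / a) := by
    intro v
    obtain ⟨P, rfl⟩ := hsurj v
    obtain ⟨p, rfl⟩ := AdjoinRoot.mk_surjective P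
    rw [hΨ, hHΨ, hΨ₀, hΨ₀, mul_div_cancel_left₀ _ ha, hUX]
  have hH10 : (H (1, 0)).1 = a / b := by
    set p := f.divX
    have hX : X * p = f - C (f.coeff 0) := eq_sub_of_add_eq (X_mul_divX_add f)
    have hlt : χ.degree < f.degree := by
      rw [degree_eq_natDegree hχ.ne_zero, degree_eq_natDegree hf.ne_zero, hd, hχd]
      exact_mod_cast Nat.lt_succ_self j
    have hq := Polynomial.div_modByMonic_unique (f := χ * (X * p)) χ (-(C (f.coeff 0) * χ)) hf
      ⟨by rw [hX]; ring, by
        rw [degree_neg, ← smul_eq_C_mul]; exact (degree_smul_le _ _).trans_lt hlt⟩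
    have h2 : r * U₀ p + algebraMap F _ (ρ₀ p) = 0 := by
      rw [← hUX, hU₀, hq.1, AdjoinRoot.mk_self]
    have hρ : ρ₀ p = χ.coeff 0 := by
      set R := (χ * p) %ₘ f with hR
      set Q := (χ * p) /ₘ f with hQ
      have h3 : X * R + C (f.coeff 0) * χ = f * (χ - X * Q) := by
        linear_combination X * Polynomial.modByMonic_add_div (χ * p) f + χ * hX
      have hdeg : (χ - X * Q).natDegree = 0 := by
        by_cases h0 : χ - X * Q = 0
        · rw [h0, natDegree_zero]
        have hle : (X * R + C (f.coeff 0) * χ).natDegree ≤ j + 1 := by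
          refine (natDegree_add_le _ _).trans (max_le ?_ ?_)
          · refine natDegree_mul_le.trans ?_
            rw [natDegree_X, add_comm]
            have := natDegree_modByMonic_lt (χ * p) hf (fun h1 => by rw [h1, natDegree_one] at hd; omega)
            rw [← hR, hd] at this
            omega
          · refine (natDegree_C_mul_le _ _).trans ?_
            omega
        rw [h3, natDegree_mul hf.ne_zero h0, hd] at hle
        omega
      have hc := eq_C_of_natDegree_eq_zero hdeg
      have e1 : (χ - X * Q).coeff 0 = χ.coeff 0 := by simp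
      rw [e1] at hc
      rw [hc] at h3
      have h5 := congrArg (fun P => coeff P (j + 1)) h3
      simp only [coeff_add, coeff_X_mul, coeff_C_mul, coeff_mul_C] at h5
      rw [show χ.coeff (j + 1) = 0 from coeff_eq_zero_of_natDegree_lt (by omega), mul_zero, add_zero, ← hd,
        hf.coeff_natDegree, one_mul] at h5
      rw [hρ₀]
      exact h5
    have hΨp : Ψ₀ p = (a * χ.coeff 0) • ((1 : F), (0 : AdjoinRoot χ)) := by
      rw [hΨ₀, h2, hρ]; simp
    have hnext : (Ψ₀ (X * p)).1 = a * -(f.coeff 0) := by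
      rw [hΨ₀, hρ₀, hq.2]
      simp only [coeff_neg, coeff_C_mul]
      rw [← hχd, hχ.coeff_natDegree, mul_one]
    have h6 := congrArg Prod.fst (hHΨ p)
    rw [hΨp, map_smul, Prod.smul_fst, smul_eq_mul, hnext, hf0, ← hχ0] at h6
    apply mul_left_cancel₀ (mul_ne_zero ha hχ00)
    rw [h6]; ring
  let φ : AdjoinRoot χ →ₗ[F] F := (-(b / a)) •
    ((LinearMap.fst F F (AdjoinRoot χ)) ∘ₗ H ∘ₗ (LinearMap.inr F F (AdjoinRoot χ)) ∘ₗ xN)
  let x : Module.End F (F × AdjoinRoot χ) := Calc.tri (b • LinearMap.id) φ xN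
  let y' : Module.End F (AdjoinRoot χ × F) := Calc.tri yN (Algebra.linearMap F (AdjoinRoot χ)) (a • LinearMap.id)
  let c := LinearEquiv.prodComm F F (AdjoinRoot χ)
  let y : Module.End F (F × AdjoinRoot χ) :=
    (c.symm : _ →ₗ[F] F × AdjoinRoot χ) ∘ₗ y' ∘ₗ (c : F × AdjoinRoot χ →ₗ[F] _)
  have hcop : ∀ t : F, s.eval t ≠ 0 → IsCoprime (X - C t) s := fun t ht =>
    (irreducible_X_sub_C t).coprime_iff_not_dvd.mpr fun hdvd => ht (dvd_iff_isRoot.mp hdvd)
  have hxc : HasCls x {X - C b, s} := by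
    have := (hasCls_smul_self b).tri hx (by simpa using hcop b hsb) φ
    rwa [Multiset.singleton_add] at this
  have hyc : HasCls y {X - C a, s} := by
    have := hy.tri (hasCls_smul_self a) (by simpa using (hcop a hsa).symm) (Algebra.linearMap F (AdjoinRoot χ))
    rw [add_comm, Multiset.singleton_add] at this
    exact this.similar ⟨c, fun v => by simp [y, y']⟩
  refine F2.of_fac hHcls ⟨x, y, hxc, hyc, LinearMap.ext fun v => ?_⟩
  obtain ⟨α, u⟩ := v
  rw [Module.End.mul_apply]
  have hsplit : x (α, u) = (b * α + φ u) • ((1 : F), (0 : AdjoinRoot χ)) + ((0 : F), xN u) := by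
    simp [x, tri_apply]
  have h1 : (H (x (α, u))).1 = a * α := by
    rw [hsplit, map_add, map_smul, Prod.fst_add, Prod.smul_fst, hH10]
    simp only [φ, LinearMap.smul_apply, LinearMap.comp_apply, LinearMap.inr_apply, LinearMap.fst_apply, smul_eq_mul]
    field_simp
    ring
  refine Prod.ext ?_ ?_
  · rw [h1]; simp [y, y', c, tri_apply]
  · rw [hH2, h1, mul_div_cancel_left₀ _ ha]
    have h7 : r * xN u = yN u := LinearMap.congr_fun hxy u
    simp [y, y', c, tri_apply, x, h7]

end Calc

end H41
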