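import Cfsg.Agent.H41.A8Data

/-!
A seven-cycle and a five-cycle give a three-cycle.
-/

set_option autoImplicit false

namespace H41.A8

theorem all35 : (pcycles 5).all check35 = true := by decide +kernel

theorem all55 : (pcycles 5).all check55 = true := by decide +kernel

end H41.A8
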