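import Cfsg.Agent.H41.A8Data

/-!
The Sylow two-subgroup and a seven-cycle give an element of order five, or normalise a regular subgroup.
-/

set_option autoImplicit false

namespace H41.A8

theorem allU_1 : ((pcycles 7).filter fun l => l.getD 1 0 == 1).all checkU = true := by decide +kernel

theorem allU_2 : ((pcycles 7).filter fun l => l.getD 1 0 == 2).all checkU = true := by decide +kernel

theorem allU_3 : ((pcycles 7).filter fun l => l.getD 1 0 == 3).all checkU = true := by decide +kernel

theorem allU_4 : ((pcycles 7).filter fun l => l.getD 1 0 == 4).all checkU = true := by decide +kernel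

theorem allU_5 : ((pcycles 7).filter fun l => l.getD 1 0 == 5).all checkU = true := by decide +kernel

theorem allU_6 : ((pcycles 7).filter fun l => l.getD 1 0 == 6).all checkU = true := by decide +kernel

theorem allU_7 : ((pcycles 7).filter fun l => l.getD 1 0 == 7).all checkU = true := by decide +kernel

theorem second_mem : ((pcycles 7).all fun l => [1, 2, 3, 4, 5, 6, 7].contains (l.getD 1 0)) = true := by
  decide +kernel

theorem allU : (pcycles 7).all checkU = true := by
  rw [List.all_eq_true]
  intro l hl
  have h := List.all_eq_true.1 second_mem l hl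
  simp only [List.contains_iff_mem, List.mem_cons, List.not_mem_nil, or_false] at h
  rcases h with h | h | h | h | h | h | h
  · exact List.all_eq_true.1 allU_1 l (List.mem_filter.2 ⟨hl, beq_iff_eq.2 h⟩)
  · exact List.all_eq_true.1 allU_2 l (List.mem_filter.2 ⟨hl, beq_iff_eq.2 h⟩)
  · exact List.all_eq_true.1 allU_3 l (List.mem_filter.2 ⟨hl, beq_iff_eq.2 h⟩)
  · exact List.all_eq_true.1 allU_4 l (List.mem_filter.2 ⟨hl, beq_iff_eq.2 h⟩)
  · exact List.all_eq_true.1 allU_5 l (List.mem_filter.2 ⟨hl, beq_iff_eq.2 h⟩)
  · exact List.all_eq_true.1 allU_6 l (List.mem_filter.2 ⟨hl, beq_iff_eq.2 h⟩)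
  · exact List.all_eq_true.1 allU_7 l (List.mem_filter.2 ⟨hl, beq_iff_eq.2 h⟩)

end H41.A8
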