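import Mathlib

/-!
Permutations of eight points stored as natural numbers (four bits for each value), and words in them.
-/

set_option autoImplicit false

namespace H41.A8

/-- The value of an encoded permutation at a point. -/
def pget (f x : ℕ) : ℕ := f / 16 ^ x % 16

/-- Composition. -/
def pmul (f g : ℕ) : ℕ :=
  pget f (pget g 0) + 16 * (pget f (pget g 1) + 16 * (pget f (pget g 2) + 16 * (pget f (pget g 3) +
    16 * (pget f (pget g 4) + 16 * (pget f (pget g 5) + 16 * (pget f (pget g 6) + 16 * pget f (pget g 7)))))))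

/-- The identity. -/
def pid : ℕ := 1985229328

/-- Powers. -/
def ppow (f : ℕ) : ℕ → ℕ
  | 0 => pid
  | k + 1 => pmul f (ppow f k)

/-- Evaluation of a word in the given permutations. -/
def pword (gens : List ℕ) : List ℕ → ℕ
  | [] => pid
  | i :: w => pmul (gens.getD i pid) (pword gens w)

def pts : List ℕ := [0, 1, 2, 3, 4, 5, 6, 7]

/-- The image of a point under the cycle through the points of a list. -/
def cycNext (first : ℕ) : List ℕ → ℕ → ℕ
  | [], x => x
  | [a], x => if a == x then first else x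
  | a :: b :: l, x => if a == x then b else cycNext first (b :: l) x

/-- The cycle through the points of a list. -/
def pcyc (l : List ℕ) : ℕ := pts.foldr (fun x acc => cycNext (l.headD 0) l x + 16 * acc) 0

/-- All normalised cycles of a given length. -/
def pcycles : ℕ → List (List ℕ)
  | 0 => []
  | 1 => pts.map fun x => [x]
  | k + 2 => (pcycles (k + 1)).flatMap fun l =>
      (pts.filter fun x => !l.contains x && decide (l.headD 0 < x)).map fun x => l ++ [x]

def numFixed (f : ℕ) : ℕ := pts.countP fun x => pget f x == x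

def commonFixed (f g : ℕ) : ℕ := pts.countP fun x => (pget f x == x) && (pget g x == x)

def d0 : ℕ := 1885684513

def c0 : ℕ := 1984971553

def words35 : List (List ℕ × ℕ) :=
  [([0, 0, 0, 1, 0, 0, 1], 10), ([0, 0, 0, 1, 0, 1], 10), ([0, 0, 0, 0, 0, 1, 0, 1], 10), ([0, 1, 1, 1], 10),
   ([0, 0, 0, 1, 1, 0, 1, 1], 10), ([0, 0, 0, 0, 1, 1], 10), ([0, 0, 1, 0, 1, 0, 1, 1], 10), ([0, 1, 1], 10),
   ([0, 1, 1, 1, 1], 2), ([0, 0, 1, 1], 10), ([0, 0, 0, 1, 1], 2), ([0, 0, 1], 2),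
   ([0, 0, 0, 0, 1], 2), ([0, 1], 10)]

def words55 : List (List ℕ × ℕ) :=
  [([0, 1], 1), ([0, 0, 0, 0, 1], 1), ([0, 1, 0, 1, 1, 1, 1], 1), ([0, 0, 0, 0, 1, 0, 1], 1)]

def wordsU : List (List ℕ × ℕ) :=
  [([0, 2, 3, 1, 3, 2], 3), ([0, 1, 0, 3, 3], 3), ([0, 1, 0, 3, 3, 3], 3), ([0, 3, 3, 3], 3),
   ([0, 3], 3), ([0, 3, 3], 3), ([1, 3, 3], 3), ([0, 2, 3, 1, 0, 3, 2], 3),
   ([1, 3, 3, 3], 3), ([0, 1, 3, 2, 0, 2, 3], 3), ([1, 2, 3, 2, 3], 3), ([0, 2, 0, 2, 3, 1, 3], 3),
   ([0, 1, 0, 2, 3, 3, 2], 3), ([0, 1, 3, 1, 3, 1], 3), ([0, 1, 0, 2, 3], 3)]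

/-- Generators of a Sylow 2-subgroup. -/
def genU : List ℕ :=
  [1732588048, 1450447408, 839939668]

/-- Its elements, as words. -/
def elemsU : List (ℕ × List ℕ) :=
  [(1985229328, []), (1732588048, [0]), (1417032208, [1, 0, 1, 0]), (1164390928, [1, 0, 1]),
   (1450447408, [1]), (1197806128, [0, 1]), (1951797808, [0, 1, 0]), (1699156528, [1, 0]),
   (1985225473, [2, 0, 2]), (1732584193, [2, 0, 2, 0]), (1417028353, [2, 0, 2, 1, 0, 1, 0]), (1164387073, [2, 0, 2, 1, 0, 1]),
   (1450443553, [2, 0, 2, 1]), (1197802273, [2, 0, 2, 0, 1]), (1951793953, [2, 0, 2, 0, 1, 0]), (1699152673, [2, 0, 2, 1, 0]),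
   (1450455058, [2, 0, 1, 0, 2]), (1197813778, [0, 2, 0, 1, 0, 2]), (1951805458, [0, 2, 0, 1, 0, 2, 0]), (1699164178, [2, 0, 1, 0, 2, 0]),
   (1985220658, [2, 0, 1, 0, 2, 1]), (1732579378, [2, 0, 1, 0, 2, 1, 0]), (1417023538, [2, 0, 1, 0, 2, 0, 1, 0]), (1164382258, [2, 0, 1, 0, 2, 0, 1]),
   (1450451203, [2, 1, 0, 2]), (1197809923, [0, 2, 1, 0, 2]), (1951801603, [0, 2, 1, 0, 2, 0]), (1699160323, [2, 1, 0, 2, 0]),
   (1985216803, [2, 1, 0, 2, 1]), (1732575523, [2, 1, 0, 2, 1, 0]), (1417019683, [2, 1, 0, 2, 0, 1, 0]), (1164378403, [2, 1, 0, 2, 0, 1]),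
   (839939668, [2]), (587298388, [2, 0]), (271742548, [2, 1, 0, 1, 0]), (19101268, [2, 1, 0, 1]),
   (305157748, [2, 1]), (52516468, [2, 0, 1]), (806508148, [2, 0, 1, 0]), (553866868, [2, 1, 0]),
   (839935813, [0, 2]), (587294533, [0, 2, 0]), (271738693, [0, 2, 1, 0, 1, 0]), (19097413, [0, 2, 1, 0, 1]),
   (305153893, [0, 2, 1]), (52512613, [0, 2, 0, 1]), (806504293, [0, 2, 0, 1, 0]), (553863013, [0, 2, 1, 0]),
   (305165398, [0, 1, 0, 2]), (52524118, [0, 1, 0, 2, 1, 0, 1]), (806515798, [0, 1, 0, 2, 1, 0, 1, 0]), (553874518, [0, 1, 0, 2, 0]),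
   (839930998, [0, 1, 0, 2, 1]), (587289718, [0, 1, 0, 2, 1, 0]), (271733878, [0, 1, 0, 2, 0, 1, 0]), (19092598, [0, 1, 0, 2, 0, 1]),
   (305161543, [1, 0, 2]), (52520263, [1, 0, 2, 1, 0, 1]), (806511943, [1, 0, 2, 1, 0, 1, 0]), (553870663, [1, 0, 2, 0]),
   (839927143, [1, 0, 2, 1]), (587285863, [1, 0, 2, 1, 0]), (271730023, [1, 0, 2, 0, 1, 0]), (19088743, [1, 0, 2, 0, 1])]

def vOne : List ℕ :=
  [1985229328, 1164387073, 1417023538, 1732575523,
   305157748, 553863013, 806515798, 52520263]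

def vTwo : List ℕ :=
  [1985229328, 1732584193, 1417023538, 1164378403,
   839939668, 587294533, 271733878, 19088743]

/-- `x` normalises the set. -/
def normalisesB (V : List ℕ) (x : ℕ) : Bool :=
  V.all fun v => V.any fun w => pmul x v == pmul w x

def testPow (k f : ℕ) : Bool := (!(f == pid)) && (ppow f k == pid)

def check35 (l : List ℕ) : Bool :=
  words35.any fun p => numFixed (ppow (pword [d0, pcyc l] p.1) p.2) == 5

def check55 (l : List ℕ) : Bool :=
  decide (2 ≤ commonFixed c0 (pcyc l)) ||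
    words55.any fun p => testPow 7 (ppow (pword [c0, pcyc l] p.1) p.2)

def checkU (l : List ℕ) : Bool :=
  normalisesB vOne (pcyc l) || normalisesB vTwo (pcyc l) ||
    wordsU.any fun p => testPow 5 (ppow (pword (genU ++ [pcyc l]) p.1) p.2)

/-- An elementary abelian set of eight elements inside the Sylow subgroup, normalised by it. -/
def elemAb (V : List ℕ) : Bool :=
  V.contains pid && V.all (fun v => (pmul v v == pid) && V.all fun w => V.contains (pmul v w)) &&
    decide (V.length = 8) && V.all (fun v => (elemsU.map Prod.fst).contains v) && genU.all (normalisesB V)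

theorem elemAb_ok : elemAb vOne = true ∧ elemAb vTwo = true := by decide +kernel

theorem elemsU_ok : (elemsU.all fun p => (pword genU p.2 == p.1) &&
    genU.all fun g => (elemsU.map Prod.fst).contains (pmul g p.1)) = true ∧
    (elemsU.map Prod.fst).contains pid = true ∧ (elemsU.map Prod.fst).Nodup ∧ elemsU.length = 64 := by
  decide +kernel

end H41.A8
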