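import Cfsg.Agent.H41.A8Data

/-!
Encoding permutations of eight points.
-/

set_option autoImplicit false

namespace H41.A8

open Equiv

/-- The code of a permutation. -/
def enc (σ : Perm (Fin 8)) : ℕ :=
  (σ 0 : ℕ) + 16 * ((σ 1 : ℕ) + 16 * ((σ 2 : ℕ) + 16 * ((σ 3 : ℕ) + 16 * ((σ 4 : ℕ) + 16 * ((σ 5 : ℕ) +
    16 * ((σ 6 : ℕ) + 16 * (σ 7 : ℕ)))))))

lemma pget_enc (σ : Perm (Fin 8)) (i : Fin 8) : pget (enc σ) i = σ i := by
  have h0 := (σ 0).isLt; have h1 := (σ 1).isLt; have h2 := (σ 2).isLt; have h3 := (σ 3).isLt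
  have h4 := (σ 4).isLt; have h5 := (σ 5).isLt; have h6 := (σ 6).isLt; have h7 := (σ 7).isLt
  fin_cases i <;> simp [pget, enc] <;> omega

lemma enc_injective : Function.Injective enc := fun σ τ h => Equiv.ext fun i => Fin.ext (by
  rw [← pget_enc σ i, h, pget_enc])

lemma enc_mul (σ τ : Perm (Fin 8)) : enc (σ * τ) = pmul (enc σ) (enc τ) := by
  have e : ∀ i : Fin 8, pget (enc σ) (pget (enc τ) (i : ℕ)) = ((σ * τ) i : ℕ) := fun i => by
    rw [pget_enc τ i, pget_enc, Perm.mul_apply]
  have a0 := e 0; have a1 := e 1; have a2 := e 2; have a3 := e 3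
  have a4 := e 4; have a5 := e 5; have a6 := e 6; have a7 := e 7
  simp only [Fin.val_zero, Fin.val_one, Fin.val_two] at a0 a1 a2
  change pget _ (pget _ 3) = _ at a3
  change pget _ (pget _ 4) = _ at a4
  change pget _ (pget _ 5) = _ at a5
  change pget _ (pget _ 6) = _ at a6
  change pget _ (pget _ 7) = _ at a7
  simp only [pmul, enc] at *
  rw [a0, a1, a2, a3, a4, a5, a6, a7]

lemma enc_one : enc 1 = pid := by decide

lemma enc_eq_one_iff {σ : Perm (Fin 8)} : enc σ = pid ↔ σ = 1 :=
  ⟨fun h => enc_injective (h.trans enc_one.symm), fun h => h ▸ enc_one⟩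

lemma enc_pow (σ : Perm (Fin 8)) (k : ℕ) : ppow (enc σ) k = enc (σ ^ k) := by
  induction k with
  | zero => rw [pow_zero, enc_one]; rfl
  | succ k ih => rw [pow_succ', enc_mul, ← ih]; rfl

/-- Evaluation of a word. -/
def permWord (gens : List (Perm (Fin 8))) : List ℕ → Perm (Fin 8)
  | [] => 1
  | i :: w => gens.getD i 1 * permWord gens w

lemma enc_word (gens : List (Perm (Fin 8))) (w : List ℕ) : pword (gens.map enc) w = enc (permWord gens w) := by
  induction w with
  | nil => exact enc_one.symm
  | cons i w ih =>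
    rw [permWord, enc_mul, ← ih, pword]
    congr 1
    rcases lt_or_ge i gens.length with h | h
    · rw [List.getD_eq_getElem _ _ (by simpa using h), List.getD_eq_getElem _ _ h, List.getElem_map]
    · rw [List.getD_eq_default _ _ (by simpa using h), List.getD_eq_default _ _ h, enc_one]

lemma permWord_mem {G : Subgroup (Perm (Fin 8))} {gens : List (Perm (Fin 8))} (h : ∀ x ∈ gens, x ∈ G)
    (w : List ℕ) : permWord gens w ∈ G := by
  induction w with
  | nil => exact G.one_mem
  | cons i w ih =>
    refine G.mul_mem ?_ ih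
    rcases lt_or_ge i gens.length with hi | hi
    · rw [List.getD_eq_getElem _ _ hi]; exact h _ (List.getElem_mem hi)
    · rw [List.getD_eq_default _ _ hi]; exact G.one_mem

/-- The seven-cycle. -/
def cSeven : Perm (Fin 8) := [0, 1, 2, 3, 4, 5, 6].formPerm

/-- The five-cycle. -/
def cFive : Perm (Fin 8) := [0, 1, 2, 3, 4].formPerm

lemma enc_cSeven : enc cSeven = d0 := by decide +kernel

lemma enc_cFive : enc cFive = c0 := by decide +kernel

lemma numFixed_enc (σ : Perm (Fin 8)) : numFixed (enc σ) = 8 - σ.support.card := by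
  have hs : pts = (List.finRange 8).map (fun i : Fin 8 => (i : ℕ)) := by decide
  rw [numFixed, hs, List.countP_map]
  have h : (fun x => pget (enc σ) x == x) ∘ (fun i : Fin 8 => (i : ℕ)) = fun i => decide (σ i = i) := by
    funext i
    simp only [Function.comp_apply, pget_enc]
    rw [Bool.eq_iff_iff]; simp [Fin.val_inj]
  rw [h]
  have h2 := σ.support.card_add_card_compl
  rw [Fintype.card_fin] at h2
  have h3 : σ.supportᶜ.card = (List.finRange 8).countP fun i => decide (σ i = i) := by
    rw [List.countP_eq_length_filter, ← List.toFinset_card_of_nodup ((List.nodup_finRange 8).filter _)]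
    congr 1
    ext i
    simp [List.mem_finRange]
  omega

lemma commonFixed_enc (σ τ : Perm (Fin 8)) :
    commonFixed (enc σ) (enc τ) = 8 - (σ.support ∪ τ.support).card := by
  have hs : pts = (List.finRange 8).map (fun i : Fin 8 => (i : ℕ)) := by decide
  rw [commonFixed, hs, List.countP_map]
  have h : (fun x => (pget (enc σ) x == x) && (pget (enc τ) x == x)) ∘ (fun i : Fin 8 => (i : ℕ))
      = fun i => decide (σ i = i ∧ τ i = i) := by
    funext i
    simp only [Function.comp_apply, pget_enc]
    rw [Bool.eq_iff_iff]; simp [Fin.val_inj]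
  rw [h]
  have h2 := (σ.support ∪ τ.support).card_add_card_compl
  rw [Fintype.card_fin] at h2
  have h3 : (σ.support ∪ τ.support)ᶜ.card = (List.finRange 8).countP fun i => decide (σ i = i ∧ τ i = i) := by
    rw [List.countP_eq_length_filter, ← List.toFinset_card_of_nodup ((List.nodup_finRange 8).filter _)]
    congr 1
    ext i
    simp [List.mem_finRange]
  omega

end H41.A8

namespace H41.A8

open Equiv
open scoped Classical

/-- Consecutive images of a point. -/
def orbitList (σ : Perm (Fin 8)) (x : Fin 8) (j m : ℕ) : List ℕ :=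
  (List.range' j m).map fun i => ((σ ^ i) x : ℕ)

lemma cycNext_orbit (σ : Perm (Fin 8)) (x : Fin 8) : ∀ m j : ℕ, 0 < m → (σ ^ (j + m)) x = x → ∀ y : Fin 8,
    cycNext (x : ℕ) (orbitList σ x j m) (y : ℕ) =
      if ∃ i, j ≤ i ∧ i < j + m ∧ (σ ^ i) x = y then ((σ y : Fin 8) : ℕ) else (y : ℕ) := by
  intro m
  induction m with
  | zero => intro j h; omega
  | succ m ih =>
    intro j _ hend y
    by_cases hy : (σ ^ j) x = y
    · have hex : ∃ i, j ≤ i ∧ i < j + (m + 1) ∧ (σ ^ i) x = y := ⟨j, le_rfl, by omega, hy⟩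
      rw [if_pos hex, orbitList, List.range'_succ, List.map_cons]
      rcases m with _ | m
      · simp [cycNext, hy]
        rw [← hy, ← Perm.mul_apply, ← pow_succ', hend]
      · rw [List.range'_succ, List.map_cons]
        simp [cycNext, hy]
        rw [← hy, ← Perm.mul_apply, ← pow_succ']
    · have hne : ((σ ^ j) x : ℕ) ≠ (y : ℕ) := fun h => hy (Fin.ext h)
      have heq : (∃ i, j ≤ i ∧ i < j + (m + 1) ∧ (σ ^ i) x = y) ↔ (∃ i, j + 1 ≤ i ∧ i < j + 1 + m ∧ (σ ^ i) x = y) :=
        ⟨fun ⟨i, h1, h2, h3⟩ => ⟨i, Nat.lt_of_le_of_ne h1 (fun e => hy (e ▸ h3)), by omega, h3⟩,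
          fun ⟨i, h1, h2, h3⟩ => ⟨i, by omega, by omega, h3⟩⟩
      simp only [heq]
      rcases m with _ | m
      · rw [if_neg (by rintro ⟨i, h1, h2, -⟩; omega)]
        simp [orbitList, cycNext, hne]
      · have h := ih (j + 1) (by omega) (by rw [show j + 1 + (m + 1) = j + (m + 1 + 1) by ring]; exact hend) y
        rw [← h]
        simp [orbitList, List.range'_succ, cycNext, hne]

lemma orbit_injOn {σ : Perm (Fin 8)} {p : ℕ} [Fact p.Prime] (hσ : σ ^ p = 1) {x : Fin 8} (hx : σ x ≠ x) {i j : ℕ}
    (hi : i < p) (hj : j < p) (h : (σ ^ i) x = (σ ^ j) x) : i = j := by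
  have hper : Function.minimalPeriod σ x = p := by
    refine Function.minimalPeriod_eq_prime ?_ hx
    change σ^[p] x = x
    rw [← Perm.coe_pow, hσ, Perm.one_apply]
  exact Function.iterate_injOn_Iio_minimalPeriod (f := σ) (x := x) (hper.symm ▸ hi) (hper.symm ▸ hj)
    (by simpa [← Perm.coe_pow] using h)

lemma exists_pcyc {σ : Perm (Fin 8)} {p : ℕ} (hp : p.Prime) (h4 : 4 < p) (hσ : orderOf σ = p) :
    ∃ l ∈ pcycles p, enc σ = pcyc l := by
  haveI := Fact.mk hp
  have hpow : σ ^ p = 1 := hσ ▸ pow_orderOf_eq_one σ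
  have hne : σ.support.Nonempty := Finset.nonempty_iff_ne_empty.2 fun h => by
    rw [Perm.support_eq_empty_iff] at h
    rw [h, orderOf_one] at hσ
    exact hp.ne_one hσ.symm
  set x := σ.support.min' hne
  have hx : σ x ≠ x := Perm.mem_support.1 (Finset.min'_mem _ hne)
  have hmem : ∀ k, (σ ^ k) x ∈ σ.support := fun k => Perm.pow_apply_mem_support.2 (Finset.min'_mem _ hne)
  have hcard : p ≤ 8 := by
    have := Finset.card_le_card (s := (Finset.range p).image fun i => (σ ^ i) x) (Finset.subset_univ _)
    rw [Finset.card_image_of_injOn (fun i hi j hj h => orbit_injOn hpow hx (Finset.mem_range.1 hi) (Finset.mem_range.1 hj) h),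
      Finset.card_range, Finset.card_univ, Fintype.card_fin] at this
    exact this
  have hin : ∀ k, 1 ≤ k → k ≤ p → orbitList σ x 0 k ∈ pcycles k := by
    intro k
    induction k with
    | zero => intro h; omega
    | succ k ih =>
      intro _ hk
      rcases k with _ | k
      · have : ∀ i : Fin 8, [(i : ℕ)] ∈ pcycles 1 := by decide
        simpa [orbitList] using this x
      · have h := ih (by omega) (by omega)
        rw [pcycles, List.mem_flatMap]
        refine ⟨_, h, List.mem_map.2 ⟨((σ ^ (k + 1)) x : ℕ), List.mem_filter.2 ⟨?_, ?_⟩, ?_⟩⟩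
        · have : ∀ i : Fin 8, (i : ℕ) ∈ pts := by decide
          exact this _
        · rw [Bool.and_eq_true, Bool.not_eq_true', decide_eq_true_eq]
          constructor
          · rw [← Bool.not_eq_true, List.contains_iff_mem, orbitList, List.mem_map]
            rintro ⟨i, hi, he⟩
            rw [List.mem_range'_1] at hi
            have := orbit_injOn hpow hx (show i < p by omega) (show k + 1 < p by omega) (Fin.ext he)
            omega
          · have hle : x ≤ (σ ^ (k + 1)) x := Finset.min'_le _ _ (hmem _)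
            have hne' : x ≠ (σ ^ (k + 1)) x := fun e => by
              have := orbit_injOn hpow hx (show 0 < p by omega) (show k + 1 < p by omega) (by simpa using e)
              omega
            have hlt : (x : ℕ) < ((σ ^ (k + 1)) x : ℕ) := lt_of_le_of_ne hle (fun e => hne' (Fin.ext e))
            simpa [orbitList, List.range'_succ] using hlt
        · rw [orbitList, orbitList, List.range'_concat (s := 0) (n := k + 1), List.map_append]
          simp
  refine ⟨_, hin p hp.one_le le_rfl, ?_⟩
  have hnext : ∀ y : Fin 8, cycNext ((orbitList σ x 0 p).headD 0) (orbitList σ x 0 p) (y : ℕ) = (σ y : ℕ) := by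
    intro y
    have hhead : (orbitList σ x 0 p).headD 0 = (x : ℕ) := by
      obtain ⟨m, hm⟩ : ∃ m, p = m + 1 := ⟨p - 1, by omega⟩
      simp [orbitList, hm, List.range'_succ]
    rw [hhead, cycNext_orbit σ x p 0 hp.pos (by rw [zero_add, hpow, Perm.one_apply]) y]
    split_ifs with hex
    · rfl
    · by_contra hy
      have hy' : σ y ≠ y := fun e => hy (by rw [e])
      have hdis : Disjoint ((Finset.range p).image fun i => (σ ^ i) x) ((Finset.range p).image fun i => (σ ^ i) y) := by
        rw [Finset.disjoint_left]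
        intro z hz hz'
        obtain ⟨i, hi, rfl⟩ := Finset.mem_image.1 hz
        obtain ⟨j, hj, hji⟩ := Finset.mem_image.1 hz'
        rw [Finset.mem_range] at hi hj
        refine hex ⟨(p - j + i) % p, Nat.zero_le _, by simpa using Nat.mod_lt _ hp.pos, ?_⟩
        rw [← pow_eq_pow_mod _ hpow, pow_add, Perm.mul_apply, ← hji, ← Perm.mul_apply, ← pow_add,
          Nat.sub_add_cancel hj.le, hpow, Perm.one_apply]
      have := Finset.card_le_card (Finset.subset_univ (((Finset.range p).image fun i => (σ ^ i) x) ∪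
        ((Finset.range p).image fun i => (σ ^ i) y)))
      rw [Finset.card_union_of_disjoint hdis,
        Finset.card_image_of_injOn (fun i hi j hj h => orbit_injOn hpow hx (Finset.mem_range.1 hi) (Finset.mem_range.1 hj) h),
        Finset.card_image_of_injOn (fun i hi j hj h => orbit_injOn hpow hy' (Finset.mem_range.1 hi) (Finset.mem_range.1 hj) h),
        Finset.card_range, Finset.card_univ, Fintype.card_fin] at this
      omega
  have a0 := hnext 0; have a1 := hnext 1; have a2 := hnext 2; have a3 := hnext 3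
  have a4 := hnext 4; have a5 := hnext 5; have a6 := hnext 6; have a7 := hnext 7
  simp only [Fin.val_zero, Fin.val_one, Fin.val_two] at a0 a1 a2
  change cycNext _ _ 3 = _ at a3
  change cycNext _ _ 4 = _ at a4
  change cycNext _ _ 5 = _ at a5
  change cycNext _ _ 6 = _ at a6
  change cycNext _ _ 7 = _ at a7
  simp only [pcyc, pts, List.foldr, a0, a1, a2, a3, a4, a5, a6, a7, enc]
  ring

end H41.A8
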