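import Cfsg.Prelude.Def_Solvable
import Cfsg.Agent.H61.CharSimple
import Cfsg.Agent.H33.TwoPrime
import Cfsg.Agent.CompBasic
import Cfsg.Agent.S0496
import Cfsg.Agent.S0497
import Cfsg.Agent.H59.A5Char

/-!
Finite groups without non-trivial solvable normal subgroups, of small order.
-/

set_option autoImplicit false
set_option linter.style.haveILetI false

namespace H41

open Subgroup
open scoped commutatorElement

variable {G : Type*} [Group G]

/-- No non-trivial solvable normal subgroups. -/
def RadFree (G : Type*) [Group G] : Prop := ∀ N : Subgroup G, N.Normal → Group.IsSolvable N → N = ⊥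

lemma RadFree.congr {H : Type*} [Group H] (h : RadFree G) (e : G ≃* H) : RadFree H := by
  intro N hN hs
  have hN' : (N.comap e.toMonoidHom).Normal := hN.comap _
  let r : (N.comap e.toMonoidHom) →* N := (e.toMonoidHom.subgroupComap N)
  have hr : Function.Injective r := fun a b hab =>
    Subtype.ext (e.injective (congrArg Subtype.val hab))
  have := h _ hN' (Group.isSolvable_of_isSolvable_injective hr)
  rw [eq_bot_iff] at this ⊢
  intro x hx
  rw [Subgroup.mem_bot]
  have h2 : e.symm x ∈ N.comap e.toMonoidHom := by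
    rw [Subgroup.mem_comap]
    show e (e.symm x) ∈ N
    rwa [e.apply_symm_apply]
  have h3 := Subgroup.mem_bot.1 (this h2)
  rw [← e.apply_symm_apply x, h3, map_one]

/-- Trivial cores leave no solvable normal subgroup. -/
theorem radFree_of_cores [Finite G] (h2 : Cfsg.pPrimeCore 2 G = ⊥) (h2' : Cfsg.pCore 2 G = ⊥) : RadFree G := by
  classical
  intro N hN hs
  by_contra hne
  -- the last non-trivial derived term is abelian and normal
  obtain ⟨n, hn⟩ := (Group.isSolvable_def N).1 hs
  let D : ℕ → Subgroup G := fun k => (derivedSeries N k).map N.subtype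
  have hDn : ∀ k, (D k).Normal := fun k => by
    haveI := derivedSeries_characteristic N k
    exact ConjAct.normal_of_characteristic_of_normal
  have hex : ∃ k, D k = ⊥ := ⟨n, by simp [D, hn]⟩
  have hk0 : Nat.find hex ≠ 0 := fun h0 => hne (by
    have := Nat.find_spec hex
    rw [h0] at this
    simpa [D, derivedSeries_zero, ← MonoidHom.range_eq_map] using this)
  obtain ⟨m, hm⟩ : ∃ m, Nat.find hex = m + 1 := ⟨Nat.find hex - 1, by omega⟩
  set A := D m
  have hA : A ≠ ⊥ := Nat.find_min hex (by omega)
  have hcomm : ∀ a ∈ A, ∀ b ∈ A, a * b = b * a := by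
    rintro _ ⟨a, ha, rfl⟩ _ ⟨b, hb, rfl⟩
    rw [← commutatorElement_eq_one_iff_mul_comm, ← map_commutatorElement]
    have h : ⁅a, b⁆ ∈ derivedSeries N (m + 1) := by
      rw [derivedSeries_succ]; exact Subgroup.commutator_mem_commutator ha hb
    have hbot := Nat.find_spec hex
    rw [hm] at hbot
    exact Subgroup.mem_bot.1 (hbot ▸ Subgroup.mem_map_of_mem N.subtype h)
  by_cases hev : 2 ∣ Nat.card A
  · haveI : Fact (Nat.Prime 2) := ⟨Nat.prime_two⟩
    obtain ⟨a, ha⟩ := exists_prime_orderOf_dvd_card' 2 hev
    let W : Subgroup G :=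
      { carrier := {x | x ∈ A ∧ x * x = 1}
        one_mem' := ⟨A.one_mem, one_mul 1⟩
        mul_mem' := fun {x y} hx hy => ⟨A.mul_mem hx.1 hy.1, by
          rw [show x * y * (x * y) = x * (y * x) * y by group, hcomm y hy.1 x hx.1,
            show x * (x * y) * y = (x * x) * (y * y) by group, hx.2, hy.2, one_mul]⟩
        inv_mem' := fun {x} hx => ⟨A.inv_mem hx.1, by rw [← mul_inv_rev, hx.2, inv_one]⟩ }
    have hWn : W.Normal := ⟨fun x hx g => ⟨(hDn m).conj_mem x hx.1 g, by
      rw [show g * x * g⁻¹ * (g * x * g⁻¹) = g * (x * x) * g⁻¹ by group, hx.2, mul_one, mul_inv_cancel]⟩⟩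
    have hWp : IsPGroup 2 W := fun x => ⟨1, Subtype.ext (by
      rw [pow_one, pow_two, Subgroup.coe_mul, x.2.2, Subgroup.coe_one])⟩
    have hle := Cfsg.Comp.le_pCore hWn hWp
    rw [h2', le_bot_iff] at hle
    have haW : (a : G) ∈ W := ⟨a.2, by
      have := pow_orderOf_eq_one (a : G)
      rw [Subgroup.orderOf_coe, ha, pow_two] at this
      exact this⟩
    rw [hle, Subgroup.mem_bot] at haW
    have : orderOf (a : G) = 1 := by rw [haW, orderOf_one]
    rw [Subgroup.orderOf_coe, ha] at this
    omega
  · have hle := Cfsg.Comp.le_pPrimeCore (p := 2) (hDn m)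
      ((Nat.prime_two.coprime_iff_not_dvd.2 hev).symm)
    rw [h2, le_bot_iff] at hle
    exact hA hle

lemma RadFree.not_solvable [Nontrivial G] (h : RadFree G) : ¬ Group.IsSolvable G := fun hs => by
  have := h ⊤ inferInstance inferInstance
  exact top_ne_bot this

variable [Finite G]

lemma solvable_normal_of_dvd_twelve {N : Subgroup G} (h : Nat.card N ∣ 12) : Group.IsSolvable N := by
  refine H33.isSolvable_of_two_primes Nat.prime_two Nat.prime_three fun r hr hd => ?_
  have h12 : r ∣ 12 := hd.trans h
  have := Nat.le_of_dvd (by norm_num) h12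
  interval_cases r <;> first | omega | (exfalso; revert hr; norm_num) | (exfalso; revert h12; norm_num)

/-- A minimal normal subgroup of a small group without solvable normal subgroups. -/
theorem RadFree.exists_simple_normal [Nontrivial G] (h : RadFree G) (hle : Nat.card G ≤ 1092) :
    ∃ N : Subgroup G, N.Normal ∧ IsSimpleGroup N ∧ ¬ IsMulCommutative N ∧
      (Nat.card N = 60 ∨ Nat.card N = 168 ∨ Nat.card N = 360 ∨ Nat.card N = 504 ∨ Nat.card N = 660 ∨ Nat.card N = 1092) ∧
      (∀ M : Subgroup G, M.Normal → M ≤ N → M = ⊥ ∨ M = N) := by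
  classical
  obtain ⟨N, ⟨hN, hNne⟩, hmin⟩ := (Set.toFinite {K : Subgroup G | K.Normal ∧ K ≠ ⊥}).exists_minimal
    ⟨⊤, inferInstance, top_ne_bot⟩
  have hmin' : ∀ M : Subgroup G, M.Normal → M ≤ N → M = ⊥ ∨ M = N := by
    intro M hM hMN
    by_cases hb : M = ⊥
    · exact Or.inl hb
    · exact Or.inr (le_antisymm hMN (hmin ⟨hM, hb⟩ hMN))
  obtain ⟨T, _, hT, m, hm, ⟨e⟩⟩ := H61.exists_mulEquiv_pi_of_minimal_normal N hN hNne hmin'
  haveI : Finite (Fin m → T) := Finite.of_equiv _ e.toEquiv
  haveI : Finite T := Finite.of_injective (fun t => (fun _ => t : Fin m → T)) (fun a b hab => congrFun hab ⟨0, hm⟩)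
  have hTn : ¬ IsMulCommutative T := by
    intro hc
    refine hNne (h N hN ?_)
    haveI : Group.IsSolvable (Fin m → T) :=
      Group.isSolvable_of_comm fun a b => funext fun i => hc.is_comm.comm _ _
    exact Group.isSolvable_of_isSolvable_injective (f := e.toMonoidHom) e.injective
  have hcard : Nat.card N = Nat.card T ^ m := by
    rw [Nat.card_congr e.toEquiv, Nat.card_fun, Nat.card_eq_fintype_card (α := Fin m), Fintype.card_fin]
  have hNle : Nat.card N ≤ 1092 := (N.card_le_card_group).trans hle
  have hTle : Nat.card T ≤ 1092 := le_trans (Nat.le_self_pow (by omega) _) (hcard ▸ hNle)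
  have hT6 := Cfsg.Agent.S0496.result hTn hTle
  have hm1 : m = 1 := by
    by_contra hm1
    have h1 : Nat.card T ^ 2 ≤ Nat.card T ^ m := Nat.pow_le_pow_right (by omega) (by omega)
    have h2 : 60 ≤ Nat.card T := by omega
    nlinarith
  subst hm1
  haveI := hT
  let e' : N ≃* T := e.trans (MulEquiv.funUnique (Fin 1) T)
  haveI : Nontrivial N := (Subgroup.nontrivial_iff_ne_bot N).mpr hNne
  refine ⟨N, hN, IsSimpleGroup.isSimpleGroup_of_surjective e'.symm.toMonoidHom e'.symm.surjective, ?_, ?_, hmin'⟩
  · intro hc
    exact hTn ⟨⟨fun a b => e'.symm.injective (by rw [map_mul, map_mul]; exact hc.is_comm.comm _ _)⟩⟩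
  · rwa [Nat.card_congr e'.toEquiv]

lemma center_bot_of_simple {N : Subgroup G} [IsSimpleGroup N] (hN : ¬ IsMulCommutative N) {x : G} (hx : x ∈ N)
    (hc : ∀ y ∈ N, x * y = y * x) : x = 1 := by
  rcases (inferInstance : (Subgroup.center N).Normal).eq_bot_or_eq_top with h | h
  · have : (⟨x, hx⟩ : N) ∈ Subgroup.center N :=
      Subgroup.mem_center_iff.2 fun y => Subtype.ext (hc y y.2).symm
    rw [h, Subgroup.mem_bot] at this
    exact congrArg Subtype.val this
  · exact absurd ⟨⟨fun a b => (Subgroup.mem_center_iff.1 (h ▸ Subgroup.mem_top b : b ∈ Subgroup.center N) a)⟩⟩ hN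

/-- In a simple group of order sixty there are five Sylow 2-subgroups. -/
theorem card_sylow_two_of_sixty {N : Type*} [Group N] [Finite N] [IsSimpleGroup N] (h : Nat.card N = 60) :
    Nat.card (Sylow 2 N) = 5 := by
  classical
  haveI : Fact (Nat.Prime 2) := ⟨Nat.prime_two⟩
  obtain ⟨P⟩ : Nonempty (Sylow 2 N) := inferInstance
  have hP : Nat.card P = 4 := by
    rw [P.card_eq_multiplicity, h, show (60 : ℕ) = 2 ^ 2 * 15 by norm_num,
      Nat.factorization_mul (by norm_num) (by norm_num), Finsupp.add_apply,
      Nat.Prime.factorization_pow Nat.prime_two, Finsupp.single_eq_same,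
      Nat.factorization_eq_zero_of_not_dvd (by norm_num : ¬ 2 ∣ 15), add_zero]
    norm_num
  have hidx : (P : Subgroup N).index = 15 := by
    have := (P : Subgroup N).card_mul_index; rw [hP, h] at this; omega
  have hd : Nat.card (Sylow 2 N) ∣ 15 := hidx ▸ P.card_dvd_index
  have hne : ∀ K : Subgroup N, K.Normal → 1 < Nat.card K → Nat.card K < 60 → False := by
    intro K hK h1 h2
    rcases hK.eq_bot_or_eq_top with hb | ht
    · rw [hb, Subgroup.card_bot] at h1; omega
    · rw [ht, Subgroup.card_top, h] at h2; omega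
  have h1 : Nat.card (Sylow 2 N) ≠ 1 := by
    intro e
    haveI := (Nat.card_eq_one_iff_unique.1 e).1
    exact hne (P : Subgroup N) (P.normal_of_subsingleton) (by omega) (by omega)
  have h3 : Nat.card (Sylow 2 N) ≠ 3 := by
    intro e
    let f := MulAction.toPermHom N (Sylow 2 N)
    rcases (MonoidHom.normal_ker f).eq_bot_or_eq_top with hk | hk
    · have := Subgroup.card_dvd_of_injective f ((MonoidHom.ker_eq_bot_iff f).1 hk)
      rw [h, Nat.card_perm, e] at this
      norm_num [Nat.factorial] at this
    · haveI : Subsingleton (Sylow 2 N) := ⟨fun a b => by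
        obtain ⟨g, hg⟩ := MulAction.exists_smul_eq N a b
        have hg1 : f g a = a := by
          rw [show f g = 1 from MonoidHom.mem_ker.1 (hk ▸ Subgroup.mem_top g)]; rfl
        exact hg1.symm.trans hg⟩
      exact h1 (Nat.card_eq_one_iff_unique.2 ⟨inferInstance, inferInstance⟩)
  have h15 : Nat.card (Sylow 2 N) ≠ 15 := by
    intro e
    rw [P.card_eq_index_normalizer] at e
    change (Subgroup.normalizer ((P : Subgroup N) : Set N)).index = 15 at e
    have hnorm : Subgroup.normalizer ((P : Subgroup N) : Set N) = (P : Subgroup N) := by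
      refine (Subgroup.eq_of_le_of_card_ge Subgroup.le_normalizer ?_).symm
      have := (Subgroup.normalizer ((P : Subgroup N) : Set N)).card_mul_index
      rw [e, h] at this
      omega
    haveI : IsMulCommutative (P : Subgroup N) := IsPGroup.isMulCommutative_of_card_eq_prime_sq (p := 2) (by rw [hP]; norm_num)
    have hcen : Subgroup.normalizer ((P : Subgroup N) : Set N) ≤ Subgroup.centralizer (P : Set N) := by
      rw [hnorm]
      intro x hx y hy
      exact congrArg Subtype.val (‹IsMulCommutative (P : Subgroup N)›.is_comm.comm ⟨y, hy⟩ ⟨x, hx⟩)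
    have hc := MonoidHom.ker_transferSylow_isComplement' P hcen
    have := hc.card_mul_card
    rw [hP, h] at this
    exact hne (MonoidHom.transferSylow P hcen).ker (MonoidHom.normal_ker _) (by omega) (by omega)
  have hle := Nat.le_of_dvd (by norm_num) hd
  interval_cases hh : Nat.card (Sylow 2 N) <;> first | omega | (exfalso; revert hd; norm_num)

/-- Groups of order dividing `720` without solvable normal subgroups. -/
theorem RadFree.small [Nontrivial G] (h : RadFree G) (hd : Nat.card G ∣ 720) :
    Nonempty (G ≃* alternatingGroup (Fin 5)) ∨ Nonempty (G ≃* Equiv.Perm (Fin 5)) ∨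
      Nonempty (G ≃* alternatingGroup (Fin 6)) ∨ Nat.card G = 720 := by
  classical
  obtain ⟨N, hN, hs, hnc, hcases, hmin⟩ := h.exists_simple_normal ((Nat.le_of_dvd (by norm_num) hd).trans (by norm_num))
  haveI := hs
  haveI := hN
  have hNG := (Subgroup.card_subgroup_dvd_card N).trans hd
  obtain ⟨k, hk⟩ := Subgroup.card_subgroup_dvd_card N
  have hk0 : 0 < k := Nat.pos_of_ne_zero fun e => by
    rw [e, mul_zero] at hk; exact Nat.card_pos.ne' hk
  have hcase : Nat.card N = 60 ∨ Nat.card N = 360 := by
    rcases hcases with e | e | e | e | e | e <;> rw [e] at hNG <;>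
      first | exact Or.inl e | exact Or.inr e | (exfalso; revert hNG; norm_num)
  rcases hcase with hN60 | hN360
  · -- act on the five Sylow 2-subgroups
    haveI : Fact (Nat.Prime 2) := ⟨Nat.prime_two⟩
    have h5 := card_sylow_two_of_sixty (N := N) hN60
    let f : G →* Equiv.Perm (Sylow 2 N) := (MulAction.toPermHom (MulAut N) (Sylow 2 N)).comp MulAut.conjNormal
    have hinj : Function.Injective f := by
      rw [← MonoidHom.ker_eq_bot_iff]
      have hKN : f.ker ⊓ N = ⊥ := by
        rcases hmin (f.ker ⊓ N) inferInstance inf_le_right with hb | hb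
        · exact hb
        · exfalso
          have : Subsingleton (Sylow 2 N) := ⟨fun P Q => by
            obtain ⟨g, hg⟩ := MulAction.exists_smul_eq N P Q
            have hgf : f (g : G) = 1 := MonoidHom.mem_ker.1 (hb.ge g.2 : (g : G) ∈ f.ker ⊓ N).1
            have h1 := Equiv.Perm.congr_fun hgf P
            have hconj : MulAut.conjNormal (g : G) = MulAut.conj g := MulEquiv.ext fun x => Subtype.ext (by simp)
            simp only [f, MonoidHom.comp_apply, MulAction.toPermHom_apply, MulAction.toPerm_apply, hconj,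
              Equiv.Perm.one_apply] at h1
            exact h1.symm.trans hg⟩
          haveI := this
          have := Nat.card_of_subsingleton (Classical.arbitrary (Sylow 2 N))
          omega
      have hcent : ∀ x ∈ f.ker, ∀ y ∈ N, x * y = y * x := by
        intro x hx y hy
        have h1 : x * y * x⁻¹ * y⁻¹ ∈ f.ker ⊓ N := by
          refine Subgroup.mem_inf.2 ⟨?_, ?_⟩
          · rw [show x * y * x⁻¹ * y⁻¹ = x * (y * x⁻¹ * y⁻¹) by group]
            exact f.ker.mul_mem hx ((MonoidHom.normal_ker f).conj_mem _ (f.ker.inv_mem hx) y)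
          · exact N.mul_mem (hN.conj_mem y hy x) (N.inv_mem hy)
        rw [hKN, Subgroup.mem_bot] at h1
        have := congrArg (fun z => z * y * x) h1
        simpa [mul_assoc] using this
      refine h _ (MonoidHom.normal_ker f) (solvable_normal_of_dvd_twelve ?_)
      have hdis : Disjoint f.ker N := disjoint_iff.2 hKN
      have hmul : Nat.card f.ker * Nat.card N ∣ Nat.card G := by
        let g : f.ker × N →* G :=
          { toFun := fun p => (p.1 : G) * p.2
            map_one' := by simp
            map_mul' := fun p q => by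
              simp only [Prod.fst_mul, Prod.snd_mul, Subgroup.coe_mul]
              rw [show (p.1 : G) * q.1 * (p.2 * q.2) = p.1 * ((q.1 : G) * p.2) * q.2 by group,
                hcent q.1 q.1.2 p.2 p.2.2]
              group }
        have hg : Function.Injective g := by
          rintro ⟨a, b⟩ ⟨a', b'⟩ hab
          have := Subgroup.mul_injective_of_disjoint hdis hab
          exact this
        have := Subgroup.card_dvd_of_injective g hg
        rwa [Nat.card_prod] at this
      rw [hN60] at hmul
      exact (Nat.mul_dvd_mul_iff_right (show 0 < 60 by norm_num)).1 ((hmul.trans hd).trans (by norm_num))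
    have hdd := Subgroup.card_dvd_of_injective f hinj
    rw [Nat.card_perm, h5, hk, hN60, show Nat.factorial 5 = 60 * 2 by rfl, Nat.mul_dvd_mul_iff_left (by norm_num)] at hdd
    rcases (Nat.dvd_prime Nat.prime_two).1 hdd with rfl | rfl
    · left
      rw [mul_one] at hk
      have hT : N = ⊤ := Subgroup.eq_top_of_card_eq _ hk.symm
      obtain ⟨e⟩ := H59.simple60_iso (G := N) hN60
      exact ⟨(Subgroup.topEquiv.symm.trans (MulEquiv.subgroupCongr hT.symm)).trans e⟩
    · right; left
      refine ⟨(MulEquiv.ofBijective f ((Nat.bijective_iff_injective_and_card f).2 ⟨hinj, ?_⟩)).trans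
        (Finite.equivFinOfCardEq h5).permCongrHom⟩
      rw [Nat.card_perm, h5, hk, hN60]; rfl
  · rw [hN360] at hk
    rw [hk, show (720 : ℕ) = 360 * 2 by rfl, Nat.mul_dvd_mul_iff_left (by norm_num)] at hd
    rcases (Nat.dvd_prime Nat.prime_two).1 hd with rfl | rfl
    · right; right; left
      rw [mul_one] at hk
      have hT : N = ⊤ := Subgroup.eq_top_of_card_eq _ (hN360.trans hk.symm)
      obtain ⟨e⟩ := Cfsg.Agent.S0497.result (G := N) hN360
      exact ⟨(Subgroup.topEquiv.symm.trans (MulEquiv.subgroupCongr hT.symm)).trans e⟩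
    · right; right; right; omega

end H41
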