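import Cfsg.Agent.H41.A8Perm
import Cfsg.Agent.H41.A8Check35
import Cfsg.Agent.H41.A8CheckU
import Cfsg.Agent.H41.RadFree
import Cfsg.Agent.H39.SmallIdent

/-!
Subgroups of the alternating group of degree eight without solvable normal subgroups.
-/

set_option autoImplicit false
set_option linter.style.haveILetI false

namespace H41.A8

open Equiv

lemma inv_app (σ : Perm (Fin 8)) (x : Fin 8) : σ⁻¹ (σ x) = x := σ.symm_apply_apply x

/-- Conjugate of a subgroup. -/
def conjSub (σ : Perm (Fin 8)) (R : Subgroup (Perm (Fin 8))) : Subgroup (Perm (Fin 8)) :=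
  R.map (MulAut.conj σ).toMonoidHom

noncomputable def conjSubEquiv (σ : Perm (Fin 8)) (R : Subgroup (Perm (Fin 8))) : R ≃* conjSub σ R :=
  Subgroup.equivMapOfInjective R _ (MulEquiv.injective (MulAut.conj σ))

lemma conj_mem_conjSub {σ x : Perm (Fin 8)} {R : Subgroup (Perm (Fin 8))} (h : x ∈ R) : σ * x * σ⁻¹ ∈ conjSub σ R :=
  ⟨x, h, rfl⟩

lemma conjSub_le {σ : Perm (Fin 8)} {R : Subgroup (Perm (Fin 8))} (h : R ≤ alternatingGroup (Fin 8)) :
    conjSub σ R ≤ alternatingGroup (Fin 8) := by
  rintro _ ⟨x, hx, rfl⟩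
  rw [Perm.mem_alternatingGroup]
  change Perm.sign (σ * x * σ⁻¹) = 1
  rw [Perm.sign_mul, Perm.sign_mul, Perm.mem_alternatingGroup.1 (h hx), mul_one, ← Perm.sign_mul, mul_inv_cancel,
    Perm.sign_one]

lemma card_conjSub (σ : Perm (Fin 8)) (R : Subgroup (Perm (Fin 8))) : Nat.card (conjSub σ R) = Nat.card R :=
  (Nat.card_congr (conjSubEquiv σ R).toEquiv).symm

lemma card_altEight : Nat.card (alternatingGroup (Fin 8)) = 20160 := by
  rw [nat_card_alternatingGroup, Nat.card_eq_fintype_card, Fintype.card_fin]; decide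

lemma isConj_of_orderOf {p : ℕ} (hp : p.Prime) (h4 : 4 < p) {σ τ : Perm (Fin 8)} (hσ : orderOf σ = p)
    (hτ : orderOf τ = p) : IsConj σ τ := by
  have key : ∀ {ρ : Perm (Fin 8)}, orderOf ρ = p → ρ.cycleType = {p} := by
    intro ρ hρ
    obtain ⟨n, hn⟩ := Perm.cycleType_prime_order (σ := ρ) (hρ ▸ hp)
    rw [hρ] at hn
    have h8 := Perm.sum_cycleType_le ρ
    rw [hn, Multiset.sum_replicate, smul_eq_mul, Fintype.card_fin] at h8
    have : n = 0 := by
      by_contra h0
      have : 2 * p ≤ (n + 1) * p := Nat.mul_le_mul_right p (by omega)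
      omega
    rw [hn, this]; rfl
  rw [Perm.isConj_iff_cycleType_eq, key hσ, key hτ]

lemma orderOf_cSeven : orderOf cSeven = 7 := by
  haveI : Fact (Nat.Prime 7) := ⟨by norm_num⟩
  exact orderOf_eq_prime (by decide +kernel) (by decide +kernel)

lemma orderOf_cFive : orderOf cFive = 5 := by
  haveI : Fact (Nat.Prime 5) := ⟨by norm_num⟩
  exact orderOf_eq_prime (by decide +kernel) (by decide +kernel)

lemma orderOf_testPow {w : Perm (Fin 8)} {p : ℕ} (hp : p.Prime) (h : testPow p (enc w) = true) : orderOf w = p := by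
  haveI := Fact.mk hp
  simp only [testPow, Bool.and_eq_true, Bool.not_eq_true', beq_eq_false_iff_ne, beq_iff_eq, ne_eq, enc_eq_one_iff,
    enc_pow] at h
  exact orderOf_eq_prime h.2 h.1

lemma enc_word_pair (x y : Perm (Fin 8)) (w : List ℕ) (k : ℕ) :
    ppow (pword [enc x, enc y] w) k = enc (permWord [x, y] w ^ k) := by
  rw [show ([enc x, enc y] : List ℕ) = [x, y].map enc from rfl, enc_word, enc_pow]

lemma dvd_cases {r : ℕ} (hr : r.Prime) (h : r ∣ 20160) : r = 2 ∨ r = 3 ∨ r = 5 ∨ r = 7 := by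
  rw [show (20160 : ℕ) = 2 ^ 6 * 3 ^ 2 * 5 * 7 by norm_num] at h
  rcases (Nat.Prime.dvd_mul hr).1 h with h | h
  · rcases (Nat.Prime.dvd_mul hr).1 h with h | h
    · rcases (Nat.Prime.dvd_mul hr).1 h with h | h
      · exact Or.inl ((Nat.prime_dvd_prime_iff_eq hr Nat.prime_two).1 (hr.dvd_of_dvd_pow h))
      · exact Or.inr (Or.inl ((Nat.prime_dvd_prime_iff_eq hr Nat.prime_three).1 (hr.dvd_of_dvd_pow h)))
    · exact Or.inr (Or.inr (Or.inl ((Nat.prime_dvd_prime_iff_eq hr (by norm_num)).1 h)))
  · exact Or.inr (Or.inr (Or.inr ((Nat.prime_dvd_prime_iff_eq hr (by norm_num)).1 h)))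

variable {R : Subgroup (Perm (Fin 8))}

lemma card_dvd (hA : R ≤ alternatingGroup (Fin 8)) : Nat.card R ∣ 20160 :=
  card_altEight ▸ Subgroup.card_dvd_of_le hA

lemma solvable_of_dvd {G : Type*} [Group G] [Finite G] (hd : Nat.card G ∣ 20160) (h5 : ¬ 5 ∣ Nat.card G)
    (h7 : ¬ 7 ∣ Nat.card G) : Group.IsSolvable G := by
  refine H33.isSolvable_of_two_primes Nat.prime_two Nat.prime_three fun r hr hrd => ?_
  rcases dvd_cases hr (hrd.trans hd) with e | e | e | e
  · exact Or.inl e
  · exact Or.inr e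
  · exact absurd (e ▸ hrd) h5
  · exact absurd (e ▸ hrd) h7

/-! ### Order divisible by five but not by seven -/

lemma union_le_six (h7 : ¬ 7 ∣ Nat.card R) {a b : Perm (Fin 8)} (ha : a ∈ R) (hb : b ∈ R) (hoa : orderOf a = 5)
    (hob : orderOf b = 5) : (a.support ∪ b.support).card ≤ 6 := by
  obtain ⟨c, hc⟩ := isConj_iff.1 (isConj_of_orderOf (by norm_num) (by norm_num) hoa orderOf_cFive)
  set b' := c * b * c⁻¹ with hb'
  have hob' : orderOf b' = 5 := by
    rw [hb', show c * b * c⁻¹ = MulAut.conj c b from rfl, MulEquiv.orderOf_eq, hob]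
  obtain ⟨l, hl, hle⟩ := exists_pcyc (p := 5) (by norm_num) (by norm_num) hob'
  have hchk := List.all_eq_true.1 all55 l hl
  rw [check55, Bool.or_eq_true, decide_eq_true_eq, ← hle, ← enc_cFive] at hchk
  rcases hchk with h | h
  · rw [commonFixed_enc, ← hc, hb', Perm.support_conj, Perm.support_conj, ← Finset.map_union, Finset.card_map] at h
    omega
  · exfalso
    obtain ⟨p, -, hp⟩ := List.any_eq_true.1 h
    rw [enc_word_pair] at hp
    have ho := orderOf_testPow (by norm_num) hp
    apply h7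
    rw [← card_conjSub c R, ← ho]
    refine Subgroup.orderOf_dvd_natCard _ (Subgroup.pow_mem _ (permWord_mem ?_ _) _)
    intro x hx
    simp only [List.mem_cons, List.not_mem_nil, or_false] at hx
    rcases hx with rfl | rfl
    · rw [← hc]; exact conj_mem_conjSub ha
    · exact conj_mem_conjSub hb

lemma support_card_five {a : Perm (Fin 8)} (ha : orderOf a = 5) : a.support.card = 5 := by
  obtain ⟨c, hc⟩ := isConj_iff.1 (isConj_of_orderOf (by norm_num) (by norm_num) orderOf_cFive ha)
  rw [← hc, Perm.card_support_conj]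
  decide +kernel

lemma isCycle_five {a : Perm (Fin 8)} (ha : orderOf a = 5) : a.IsCycle :=
  Perm.isCycle_of_prime_order (by rw [ha]; norm_num) (by rw [support_card_five ha, ha]; norm_num)

theorem exists_invariant_set (h5 : 5 ∣ Nat.card R) (h7 : ¬ 7 ∣ Nat.card R) :
    ∃ S : Finset (Fin 8), 5 ≤ S.card ∧ S.card ≤ 6 ∧ ∀ g ∈ R, S.map g.toEmbedding = S := by
  classical
  haveI : Fact (Nat.Prime 5) := ⟨by norm_num⟩
  obtain ⟨a, ha⟩ := exists_prime_orderOf_dvd_card' 5 h5
  let B : Finset (Perm (Fin 8)) := Finset.univ.filter fun b => b ∈ R ∧ orderOf b = 5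
  have hB : ∀ b, b ∈ B ↔ b ∈ R ∧ orderOf b = 5 := fun b => by simp [B]
  have haB : (a : Perm (Fin 8)) ∈ B := (hB _).2 ⟨a.2, by rw [Subgroup.orderOf_coe, ha]⟩
  let S := B.biUnion Perm.support
  have hcard : S.card ≤ 6 := by
    by_contra hgt
    set c := (a : Perm (Fin 8))
    obtain ⟨hcR, hc5⟩ := (hB _).1 haB
    have hs : c.support ⊆ S := Finset.subset_biUnion_of_mem Perm.support haB
    have hcs := support_card_five hc5
    -- a point outside the support
    obtain ⟨y, hyS, hy⟩ := Finset.exists_mem_notMem_of_card_lt_card (s := c.support) (t := S) (by omega)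
    obtain ⟨b, hbB, hyb⟩ := Finset.mem_biUnion.1 hyS
    obtain ⟨hbR, hb5⟩ := (hB _).1 hbB
    have hu := union_le_six h7 hcR hbR hc5 hb5
    have hins : c.support ∪ b.support = insert y c.support := by
      refine (Finset.eq_of_subset_of_card_le (Finset.insert_subset (Finset.mem_union_right _ hyb) Finset.subset_union_left) ?_).symm
      rw [Finset.card_insert_of_notMem hy]; omega
    obtain ⟨z, hzS, hz⟩ := Finset.exists_mem_notMem_of_card_lt_card (s := insert y c.support) (t := S)
      (by rw [Finset.card_insert_of_notMem hy]; omega)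
    obtain ⟨d, hdB, hzd⟩ := Finset.mem_biUnion.1 hzS
    obtain ⟨hdR, hd5⟩ := (hB _).1 hdB
    rw [Finset.mem_insert, not_or] at hz
    have hu' := union_le_six h7 hcR hdR hc5 hd5
    have hins' : c.support ∪ d.support = insert z c.support := by
      refine (Finset.eq_of_subset_of_card_le (Finset.insert_subset (Finset.mem_union_right _ hzd) Finset.subset_union_left) ?_).symm
      rw [Finset.card_insert_of_notMem hz.2]; omega
    -- `b` misses a point `w₀` of the support, `d` meets the support in some `w`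
    obtain ⟨w₀, hw₀c, hw₀⟩ : ∃ w₀ ∈ c.support, w₀ ∉ b.support := by
      by_contra hcon
      push Not at hcon
      have := Finset.card_le_card (Finset.insert_subset hyb hcon)
      rw [Finset.card_insert_of_notMem hy, hcs, support_card_five hb5] at this
      omega
    obtain ⟨w, hwd, hwz⟩ : ∃ w ∈ d.support, w ≠ z := by
      by_contra hcon
      push Not at hcon
      have := Finset.card_le_card (t := {z}) (fun w hw => Finset.mem_singleton.2 (hcon w hw) : d.support ⊆ {z})
      rw [Finset.card_singleton, support_card_five hd5] at this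
      omega
    have hwc : w ∈ c.support := by
      have := (hins' ▸ Finset.mem_union_right _ hwd : w ∈ insert z c.support)
      exact (Finset.mem_insert.1 this).resolve_left hwz
    obtain ⟨i, hi⟩ := (isCycle_five hc5).exists_pow_eq (Perm.mem_support.1 hw₀c) (Perm.mem_support.1 hwc)
    set e := c ^ i * b * (c ^ i)⁻¹
    have heR : e ∈ R := R.mul_mem (R.mul_mem (R.pow_mem hcR i) hbR) (R.inv_mem (R.pow_mem hcR i))
    have he5 : orderOf e = 5 := by
      rw [show e = MulAut.conj (c ^ i) b from rfl, MulEquiv.orderOf_eq, hb5]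
    have he := union_le_six h7 heR hdR he5 hd5
    have hce : ∀ v ∈ c.support, v = w ∨ v ∈ e.support := by
      intro v hv
      by_cases hvw : v = w
      · exact Or.inl hvw
      right
      rw [show e.support = b.support.map (c ^ i).toEmbedding from Perm.support_conj, Finset.mem_map_equiv]
      have hv' : (c ^ i).symm v ∈ c.support := by
        rw [← Perm.pow_apply_mem_support (n := i), Equiv.apply_symm_apply]; exact hv
      have hne : (c ^ i).symm v ≠ w₀ := fun h => hvw (by rw [← hi, ← h, Equiv.apply_symm_apply])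
      -- `b` moves all of the support except one point
      by_contra hvb
      have hsub : b.support ⊆ insert y ((c.support.erase w₀).erase ((c ^ i).symm v)) := by
        intro u hu
        have h2 := (hins ▸ Finset.mem_union_right _ hu : u ∈ insert y c.support)
        rcases Finset.mem_insert.1 h2 with h2 | h2
        · exact Finset.mem_insert.2 (Or.inl h2)
        · exact Finset.mem_insert_of_mem (Finset.mem_erase.2 ⟨fun h => hvb (h ▸ hu), Finset.mem_erase.2 ⟨fun h => hw₀ (h ▸ hu), h2⟩⟩)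
      have := (Finset.card_le_card hsub).trans (Finset.card_insert_le _ _)
      rw [support_card_five hb5, Finset.card_erase_of_mem (Finset.mem_erase.2 ⟨hne, hv'⟩),
        Finset.card_erase_of_mem hw₀c, hcs] at this
      omega
    have hye : y ∈ e.support := by
      rw [show e.support = b.support.map (c ^ i).toEmbedding from Perm.support_conj, Finset.mem_map_equiv]
      have hfix : (c ^ i) y = y := by
        by_contra h
        exact hy (Perm.support_pow_le c i (Perm.mem_support.2 h))
      rwa [show (c ^ i).symm y = y by rw [Equiv.symm_apply_eq, hfix]]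
    have hbig : insert z (insert y c.support) ⊆ e.support ∪ d.support := by
      intro v hv
      simp only [Finset.mem_insert] at hv
      rcases hv with rfl | rfl | hv
      · exact Finset.mem_union_right _ hzd
      · exact Finset.mem_union_left _ hye
      · rcases hce v hv with rfl | h
        · exact Finset.mem_union_right _ hwd
        · exact Finset.mem_union_left _ h
    have := Finset.card_le_card hbig
    rw [Finset.card_insert_of_notMem (by simp [hz.1, hz.2]), Finset.card_insert_of_notMem hy, hcs] at this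
    omega
  refine ⟨S, ?_, hcard, fun g hg => ?_⟩
  · rw [← support_card_five ((hB _).1 haB).2]
    exact Finset.card_le_card (Finset.subset_biUnion_of_mem Perm.support haB)
  · refine Finset.eq_of_subset_of_card_le ?_ (by rw [Finset.card_map])
    intro v hv
    obtain ⟨u, hu, rfl⟩ := Finset.mem_map.1 hv
    obtain ⟨b, hbB, hub⟩ := Finset.mem_biUnion.1 hu
    obtain ⟨hbR, hb5⟩ := (hB _).1 hbB
    refine Finset.mem_biUnion.2 ⟨g * b * g⁻¹, (hB _).2 ⟨R.mul_mem (R.mul_mem hg hbR) (R.inv_mem hg), ?_⟩, ?_⟩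
    · rw [show g * b * g⁻¹ = MulAut.conj g b from rfl, MulEquiv.orderOf_eq, hb5]
    · rw [Perm.support_conj]; exact Finset.mem_map_of_mem _ hub

theorem five_only (hA : R ≤ alternatingGroup (Fin 8)) (hR : RadFree R) [Nontrivial R] (h5 : 5 ∣ Nat.card R)
    (h7 : ¬ 7 ∣ Nat.card R) :
    Nonempty (R ≃* alternatingGroup (Fin 5)) ∨ Nonempty (R ≃* Perm (Fin 5)) ∨
      Nonempty (R ≃* alternatingGroup (Fin 6)) ∨ Nonempty (R ≃* Perm (Fin 6)) := by
  classical
  obtain ⟨S, hS5, hS6, hS⟩ := exists_invariant_set h5 h7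
  have hinv : ∀ g ∈ R, ∀ v, g v ∈ S ↔ v ∈ S := by
    intro g hg v
    constructor
    · intro h
      rw [← hS g hg, Finset.mem_map_equiv, Equiv.symm_apply_apply] at h
      exact h
    · intro h
      rw [← hS g hg]
      exact Finset.mem_map_of_mem _ h
  let r : R →* Perm S :=
    { toFun := fun g => (g : Perm (Fin 8)).subtypePerm (hinv g g.2)
      map_one' := by ext; rfl
      map_mul' := fun a b => by ext; rfl }
  have hinj : Function.Injective r := by
    rw [← MonoidHom.ker_eq_bot_iff]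
    refine hR _ (MonoidHom.normal_ker r) (solvable_normal_of_dvd_twelve ?_)
    let k : r.ker →* Perm {v // v ∉ S} :=
      { toFun := fun g => ((g : R) : Perm (Fin 8)).subtypePerm fun v => not_congr (hinv _ (g : R).2 v)
        map_one' := by ext; rfl
        map_mul' := fun a b => by ext; rfl }
    have hk : Function.Injective k := by
      intro a b hab
      refine Subtype.ext (Subtype.ext (Equiv.ext fun v => ?_))
      by_cases hv : v ∈ S
      · have h1 := congrArg Subtype.val (Equiv.Perm.congr_fun (MonoidHom.mem_ker.1 a.2) ⟨v, hv⟩)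
        have h2 := congrArg Subtype.val (Equiv.Perm.congr_fun (MonoidHom.mem_ker.1 b.2) ⟨v, hv⟩)
        exact h1.trans h2.symm
      · exact congrArg Subtype.val (Equiv.Perm.congr_fun hab ⟨v, hv⟩)
    have hd := Subgroup.card_dvd_of_injective k hk
    rw [Nat.card_perm, Nat.card_eq_fintype_card (α := {v // v ∉ S}), Fintype.card_subtype_compl, Fintype.card_fin, Fintype.card_coe] at hd
    exact hd.trans ((Nat.factorial_dvd_factorial (show 8 - S.card ≤ 3 by omega)).trans (by decide))
  have hd := Subgroup.card_dvd_of_injective r hinj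
  rw [Nat.card_perm, Nat.card_eq_fintype_card (α := S), Fintype.card_coe] at hd
  rcases hR.small (hd.trans ((Nat.factorial_dvd_factorial hS6).trans (by decide))) with h | h | h | h
  · exact Or.inl h
  · exact Or.inr (Or.inl h)
  · exact Or.inr (Or.inr (Or.inl h))
  · right; right; right
    have hS' : S.card = 6 := by
      rw [h] at hd
      by_contra hne
      rw [show S.card = 5 by omega] at hd
      norm_num [Nat.factorial] at hd
    refine ⟨(MulEquiv.ofBijective r ((Nat.bijective_iff_injective_and_card r).2 ⟨hinj, ?_⟩)).trans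
      (Finite.equivFinOfCardEq (α := S) (n := 6) (by rw [Nat.card_eq_fintype_card, Fintype.card_coe, hS'])).permCongrHom⟩
    rw [h, Nat.card_perm, Nat.card_eq_fintype_card, Fintype.card_coe, hS']; rfl

/-! ### Order divisible by five and seven -/

theorem five_seven (hA : R ≤ alternatingGroup (Fin 8)) (h5 : 5 ∣ Nat.card R) (h7 : 7 ∣ Nat.card R) :
    Nonempty (R ≃* alternatingGroup (Fin 8)) ∨ Nonempty (R ≃* alternatingGroup (Fin 7)) := by
  classical
  haveI : Fact (Nat.Prime 5) := ⟨by norm_num⟩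
  haveI : Fact (Nat.Prime 7) := ⟨by norm_num⟩
  obtain ⟨d, hd⟩ := exists_prime_orderOf_dvd_card' 7 h7
  obtain ⟨b, hb⟩ := exists_prime_orderOf_dvd_card' 5 h5
  rw [← Subgroup.orderOf_coe] at hd hb
  obtain ⟨σ, hσ⟩ := isConj_iff.1 (isConj_of_orderOf (by norm_num) (by norm_num) hd orderOf_cSeven)
  set R' := conjSub σ R with hR'
  have hA' : R' ≤ alternatingGroup (Fin 8) := conjSub_le hA
  have hc : cSeven ∈ R' := hσ ▸ conj_mem_conjSub d.2
  set b' := σ * (b : Perm (Fin 8)) * σ⁻¹
  have hob' : orderOf b' = 5 := by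
    rw [show b' = MulAut.conj σ (b : Perm (Fin 8)) from rfl, MulEquiv.orderOf_eq, hb]
  obtain ⟨l, hl, hle⟩ := exists_pcyc (p := 5) (by norm_num) (by norm_num) hob'
  have hchk := List.all_eq_true.1 all35 l hl
  obtain ⟨p, -, hp⟩ := List.any_eq_true.1 hchk
  rw [← hle, ← enc_cSeven, enc_word_pair, beq_iff_eq, numFixed_enc] at hp
  set t := permWord [cSeven, b'] p.1 ^ p.2
  have ht : t ∈ R' := Subgroup.pow_mem _ (permWord_mem (fun x hx => by
    simp only [List.mem_cons, List.not_mem_nil, or_false] at hx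
    rcases hx with rfl | rfl
    exacts [hc, conj_mem_conjSub b.2]) _) _
  have ht3 : t.IsThreeCycle := card_support_eq_three_iff.1 (by
    have := t.support.card_le_univ
    rw [Fintype.card_fin] at this
    omega)
  have hpow : ∀ x : Fin 8, x ≠ 7 → ∃ k < 7, (cSeven ^ k) 0 = x := by decide +kernel
  have horb : ∀ x : Fin 8, x ≠ 7 → ∃ g ∈ R', g 0 = x := fun x hx => by
    obtain ⟨k, -, hk⟩ := hpow x hx
    exact ⟨_, R'.pow_mem hc k, hk⟩
  by_cases hfix : ∀ g ∈ R', g 7 = 7
  · right
    let p7 : Fin 8 → Prop := fun x => x ≠ 7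
    have hp7 : ∀ g ∈ R', ∀ x, p7 (g x) ↔ p7 x := fun g hg x =>
      not_congr ⟨fun h => g.injective (h.trans (hfix g hg).symm), fun h => h ▸ hfix g hg⟩
    let r : R' →* Perm {x // p7 x} :=
      { toFun := fun g => (g : Perm (Fin 8)).subtypePerm (hp7 g g.2)
        map_one' := by ext; rfl
        map_mul' := fun a b => by ext; rfl }
    have hinj : Function.Injective r := by
      intro a b hab
      refine Subtype.ext (Equiv.ext fun v => ?_)
      by_cases hv : v = 7
      · rw [hv, hfix a a.2, hfix b b.2]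
      · exact congrArg Subtype.val (Equiv.Perm.congr_fun hab ⟨v, hv⟩)
    haveI htr : MulAction.IsPretransitive r.range {x // p7 x} := by
      refine ⟨fun x y => ?_⟩
      obtain ⟨g, hg, hgx⟩ := horb x.1 x.2
      obtain ⟨g', hg', hgy⟩ := horb y.1 y.2
      refine ⟨⟨r ⟨g' * g⁻¹, R'.mul_mem hg' (R'.inv_mem hg)⟩, _, rfl⟩, Subtype.ext ?_⟩
      show (g' * g⁻¹) x.1 = y.1
      rw [Perm.mul_apply, ← hgx, inv_app, hgy]
    have hprim : MulAction.IsPreprimitive r.range {x // p7 x} := MulAction.IsPreprimitive.of_prime_card (by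
      rw [Nat.card_eq_fintype_card, Fintype.card_subtype_compl, Fintype.card_fin, Fintype.card_subtype_eq]
      norm_num)
    have hts : (r ⟨t, ht⟩).IsThreeCycle := card_support_eq_three_iff.1 (by
      rw [← ht3.card_support]
      refine Finset.card_bij (fun v _ => v.1) (fun v hv => ?_) (fun v _ w _ h => Subtype.ext h) (fun v hv => ?_)
      · rw [Perm.mem_support] at hv ⊢
        exact fun h => hv (Subtype.ext h)
      · have hv7 : p7 v := fun e => Perm.mem_support.1 hv (e ▸ hfix t ht)
        refine ⟨⟨v, hv7⟩, Perm.mem_support.2 fun h => Perm.mem_support.1 hv (congrArg Subtype.val h), rfl⟩)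
    have hle' := Perm.alternatingGroup_le_of_isPreprimitive_of_isThreeCycle_mem hprim hts ⟨_, rfl⟩
    have heq : r.range = alternatingGroup {x // p7 x} := by
      refine le_antisymm ?_ hle'
      rintro _ ⟨g, rfl⟩
      rw [Perm.mem_alternatingGroup]
      show Perm.sign ((g : Perm (Fin 8)).subtypePerm (hp7 g g.2)) = 1
      rw [Perm.sign_subtypePerm (g : Perm (Fin 8)) (p := p7) _ (fun x hx (e : x = 7) => hx (by rw [e]; exact hfix g g.2))]
      exact Perm.mem_alternatingGroup.1 (hA' g.2)
    refine ⟨((conjSubEquiv σ R).trans ((MonoidHom.ofInjective hinj).trans (MulEquiv.subgroupCongr heq))).trans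
      (Equiv.altCongrHom (Fintype.equivFinOfCardEq ?_))⟩
    rw [Fintype.card_subtype_compl, Fintype.card_fin, Fintype.card_subtype_eq]
  · left
    push Not at hfix
    obtain ⟨g7, hg7, hg7'⟩ := hfix
    have hto7 : ∀ x : Fin 8, ∃ g ∈ R', g x = 7 := by
      intro x
      by_cases hx : x = 7
      · exact ⟨1, R'.one_mem, hx⟩
      obtain ⟨g, hg, hgx⟩ := horb x hx
      obtain ⟨g', hg', hg'x⟩ := horb (g7 7) hg7'
      exact ⟨g7⁻¹ * (g' * g⁻¹), R'.mul_mem (R'.inv_mem hg7) (R'.mul_mem hg' (R'.inv_mem hg)),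
        by rw [Perm.mul_apply, Perm.mul_apply, ← hgx, inv_app, hg'x, inv_app]⟩
    have key : ∀ a b : Fin 8, a ≠ b → ∃ g ∈ R', g a = 7 ∧ g b = 0 := by
      intro a b hab
      obtain ⟨g, hg, hga⟩ := hto7 a
      obtain ⟨k, hk, hkb⟩ := hpow (g b) (fun h => hab (g.injective (hga.trans h.symm)))
      refine ⟨(cSeven ^ k)⁻¹ * g, R'.mul_mem (R'.inv_mem (R'.pow_mem hc k)) hg, ?_, ?_⟩
      · have : ∀ k < 7, (cSeven ^ k) 7 = 7 := by decide +kernel
        rw [Perm.mul_apply, hga, Perm.inv_eq_iff_eq, this k hk]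
      · rw [Perm.mul_apply, Perm.inv_eq_iff_eq, hkb]
    have h2 : MulAction.IsMultiplyPretransitive R' (Fin 8) 2 := by
      rw [MulAction.is_two_pretransitive_iff]
      intro a b c e hab hce
      obtain ⟨g, hg, h1, h2⟩ := key a b hab
      obtain ⟨g', hg', h1', h2'⟩ := key c e hce
      refine ⟨⟨g'⁻¹ * g, R'.mul_mem (R'.inv_mem hg') hg⟩, ?_, ?_⟩
      · show (g'⁻¹ * g) a = c
        rw [Perm.mul_apply, h1, Perm.inv_eq_iff_eq, h1']
      · show (g'⁻¹ * g) b = e
        rw [Perm.mul_apply, h2, Perm.inv_eq_iff_eq, h2']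
    have hle' := Perm.alternatingGroup_le_of_isPreprimitive_of_isThreeCycle_mem
      (MulAction.isPreprimitive_of_is_two_pretransitive h2) ht3 ht
    exact ⟨(conjSubEquiv σ R).trans (MulEquiv.subgroupCongr (le_antisymm hA' hle'))⟩

/-! ### Order divisible by seven but not by five -/

/-- An involution inverting the seven-cycle. -/
def invSeven : Perm (Fin 8) := swap 1 6 * swap 2 5 * swap 3 4

lemma cSeven_facts : (∀ x : Fin 8, cSeven x = x → x = 7) ∧ cSeven 7 = 7 ∧
    (∀ x : Fin 8, x ≠ 7 → ∃ k < 7, (cSeven ^ k) 0 = x) ∧ (∀ k < 7, (cSeven ^ k) 0 = 0 → k = 0) ∧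
    invSeven * cSeven = cSeven ^ 6 * invSeven ∧ Perm.sign invSeven = -1 ∧ cSeven ^ 7 = 1 := by decide +kernel

lemma eq_pow_of_commute {τ : Perm (Fin 8)} (h : τ * cSeven = cSeven * τ) : ∃ k < 7, τ = cSeven ^ k := by
  obtain ⟨f1, f2, f3, -, -, -, -⟩ := cSeven_facts
  have h7 : τ 7 = 7 := f1 _ (by
    have := Equiv.Perm.congr_fun h 7
    rw [Perm.mul_apply, Perm.mul_apply, f2] at this
    exact this.symm)
  have h0 : τ 0 ≠ 7 := fun e => by simpa using τ.injective (e.trans h7.symm)
  obtain ⟨k, hk, hk0⟩ := f3 _ h0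
  refine ⟨k, hk, Equiv.ext fun x => ?_⟩
  by_cases hx : x = 7
  · subst hx
    have : ∀ k < 7, (cSeven ^ k) 7 = 7 := by decide +kernel
    rw [h7, this k hk]
  · obtain ⟨i, -, rfl⟩ := f3 x hx
    have hc : τ * cSeven ^ i = cSeven ^ i * τ := (Commute.pow_right h i).eq
    rw [← Perm.mul_apply, hc, Perm.mul_apply, ← hk0, ← Perm.mul_apply, ← pow_add, add_comm, pow_add, Perm.mul_apply]

lemma pow_mul_comm_of {g : Perm (Fin 8)} {j : ℕ} (h : g * cSeven = cSeven ^ j * g) :
    ∀ n : ℕ, g ^ n * cSeven = cSeven ^ (j ^ n) * g ^ n := by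
  have hk : ∀ i : ℕ, g * cSeven ^ i = cSeven ^ (j * i) * g := by
    intro i
    induction i with
    | zero => simp
    | succ i ih => rw [pow_succ, ← mul_assoc, ih, mul_assoc, h, ← mul_assoc, ← pow_add, mul_add, mul_one]
  intro n
  induction n with
  | zero => simp
  | succ n ih => rw [pow_succ', mul_assoc, ih, ← mul_assoc, hk, pow_succ' j, mul_assoc]

lemma exponent_square {g : Perm (Fin 8)} (hg : Perm.sign g = 1) {j : ℕ} (hj : j < 7) (h : g * cSeven = cSeven ^ j * g) :
    j = 1 ∨ j = 2 ∨ j = 4 := by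
  obtain ⟨-, -, -, -, f5, f6, f7⟩ := cSeven_facts
  have hne : j ≠ 0 := by
    rintro rfl
    rw [pow_zero, one_mul] at h
    have hc : cSeven = 1 := by simpa using h
    exact absurd hc (by decide +kernel)
  by_contra hcon
  push Not at hcon
  have hj3 : j ^ 3 % 7 = 6 := by interval_cases j <;> first | omega | norm_num
  have h3 : g ^ 3 * cSeven = cSeven ^ 6 * g ^ 3 := by
    rw [pow_mul_comm_of h 3, pow_eq_pow_mod _ f7, hj3]
  obtain ⟨k, -, hk⟩ := eq_pow_of_commute (τ := g ^ 3 * invSeven) (by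
    have hpw : g ^ 3 * cSeven ^ 6 = cSeven ^ 36 * g ^ 3 := by
      have hall : ∀ i : ℕ, g ^ 3 * cSeven ^ i = cSeven ^ (6 * i) * g ^ 3 := by
        intro i
        induction i with
        | zero => simp
        | succ i ih => rw [pow_succ cSeven, ← mul_assoc, ih, mul_assoc, h3, ← mul_assoc, ← pow_add, mul_add, mul_one]
      exact hall 6
    rw [mul_assoc, f5, ← mul_assoc, hpw, pow_eq_pow_mod 36 f7, show 36 % 7 = 1 by rfl, pow_one, mul_assoc])
  have hs := congrArg Perm.sign hk
  rw [Perm.sign_mul, map_pow, map_pow, hg, f6, show Perm.sign cSeven = 1 by decide +kernel, one_pow, one_pow,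
    one_mul] at hs
  exact absurd hs (by decide)

/-- The Sylow 2-subgroup. -/
def genPerms : List (Perm (Fin 8)) :=
  [swap 4 5 * swap 6 7, swap 1 3 * swap 5 7, swap 0 4 * swap 1 5 * swap 2 6 * swap 3 7]

lemma genPerms_facts : genPerms.map enc = genU ∧ ∀ x ∈ genPerms, Perm.sign x = 1 := by
  refine ⟨by decide +kernel, fun x hx => ?_⟩
  simp only [genPerms, List.mem_cons, List.not_mem_nil, or_false] at hx
  rcases hx with rfl | rfl | rfl <;> simp

lemma mem_elemsU_mul {a : ℕ} (ha : a ∈ elemsU.map Prod.fst) :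
    ∀ w, pmul (pword genU w) a ∈ elemsU.map Prod.fst := by
  have hcl := elemsU_ok.1
  simp only [List.all_eq_true, Bool.and_eq_true, List.contains_iff_mem] at hcl
  obtain ⟨⟨c, w₀⟩, hmem, rfl⟩ := List.mem_map.1 ha
  have hc : pword genU w₀ = c := by simpa using (hcl _ hmem).1
  intro w
  induction w with
  | nil =>
    rw [pword, ← hc, ← genPerms_facts.1, enc_word, ← enc_one, ← enc_mul, one_mul, ← enc_word, genPerms_facts.1, hc]
    exact List.mem_map.2 ⟨_, hmem, rfl⟩
  | cons i w ih =>
    rcases lt_or_ge i genU.length with hi | hi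
    · obtain ⟨q, hq, hq'⟩ := List.mem_map.1 ih
      have := (hcl q hq).2 (genU[i]) (List.getElem_mem hi)
      rw [hq'] at this
      convert this using 1
      obtain ⟨g, -, hg⟩ := List.mem_map.1 (show genU[i] ∈ genPerms.map enc by rw [genPerms_facts.1]; exact List.getElem_mem hi)
      rw [pword, List.getD_eq_getElem _ _ hi, ← hg]
      show pmul (pmul (enc g) (pword genU w)) c = pmul (enc g) (pmul (pword genU w) c)
      rw [← hc, ← genPerms_facts.1, enc_word, enc_word]
      simp only [← enc_mul, mul_assoc]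
    · convert ih using 1
      rw [pword, List.getD_eq_default _ _ hi, ← hc, ← genPerms_facts.1, enc_word, enc_word, ← enc_one,
        ← enc_mul, ← enc_mul, ← enc_mul, one_mul]

lemma mem_elemsU_iff {σ : Perm (Fin 8)} :
    enc σ ∈ elemsU.map Prod.fst ↔ ∃ w, σ = permWord genPerms w := by
  have hcl := elemsU_ok.1
  simp only [List.all_eq_true, Bool.and_eq_true] at hcl
  constructor
  · intro h
    obtain ⟨⟨c, w⟩, hm, hc⟩ := List.mem_map.1 h
    have h1 : pword genU w = c := by simpa using (hcl _ hm).1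
    refine ⟨w, enc_injective ?_⟩
    rw [← enc_word, genPerms_facts.1, h1]
    exact hc.symm
  · rintro ⟨w, rfl⟩
    have h1 : pid ∈ elemsU.map Prod.fst := List.contains_iff_mem.1 elemsU_ok.2.1
    have := mem_elemsU_mul h1 w
    rw [← genPerms_facts.1, enc_word, ← enc_one, ← enc_mul, mul_one] at this
    exact this

/-- The Sylow subgroup as a subgroup. -/
def uZero : Subgroup (Perm (Fin 8)) where
  carrier := {σ | enc σ ∈ elemsU.map Prod.fst}
  one_mem' := mem_elemsU_iff.2 ⟨[], rfl⟩
  mul_mem' := by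
    intro a b ha hb
    obtain ⟨w, rfl⟩ := mem_elemsU_iff.1 ha
    have := mem_elemsU_mul hb w
    rw [← genPerms_facts.1, enc_word, ← enc_mul] at this
    exact this
  inv_mem' := by
    intro a ha
    obtain ⟨w, hw⟩ := mem_elemsU_iff.1 ha
    have hall : ∀ k : ℕ, enc (a ^ k) ∈ elemsU.map Prod.fst := by
      intro k
      induction k with
      | zero => rw [pow_zero]; exact mem_elemsU_iff.2 ⟨[], rfl⟩
      | succ k ih =>
        have := mem_elemsU_mul ih w
        rw [← genPerms_facts.1, enc_word, ← hw, ← enc_mul] at this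
        rw [pow_succ']
        exact this
    have h := hall (orderOf a - 1)
    rwa [show a ^ (orderOf a - 1) = a⁻¹ from eq_inv_of_mul_eq_one_left (by
      rw [← pow_succ, Nat.sub_add_cancel (orderOf_pos a), pow_orderOf_eq_one])] at h

lemma card_uZero : Nat.card uZero = 64 := by
  classical
  have himg : enc '' (uZero : Set (Perm (Fin 8))) = ((elemsU.map Prod.fst).toFinset : Set ℕ) := by
    ext c
    simp only [List.coe_toFinset, Set.mem_ofPred_eq, Set.mem_image]
    constructor
    · rintro ⟨σ, hσ, rfl⟩; exact hσ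
    · intro hc
      obtain ⟨⟨c', w⟩, hm, rfl⟩ := List.mem_map.1 hc
      have hcl := elemsU_ok.1
      simp only [List.all_eq_true, Bool.and_eq_true] at hcl
      refine ⟨permWord genPerms w, mem_elemsU_iff.2 ⟨w, rfl⟩, ?_⟩
      rw [← enc_word, genPerms_facts.1]
      simpa using (hcl _ hm).1
  rw [← SetLike.coe_sort_coe, Nat.card_coe_set_eq, ← Set.ncard_image_of_injective _ enc_injective, himg,
    Set.ncard_coe_finset, List.toFinset_card_of_nodup elemsU_ok.2.2.1, List.length_map, elemsU_ok.2.2.2]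

lemma genPerms_mem_uZero : ∀ x ∈ genPerms, x ∈ uZero := by
  have : ∀ c ∈ genU, (elemsU.map Prod.fst).contains c = true := by decide +kernel
  exact fun x hx => List.contains_iff_mem.1 (this _ (genPerms_facts.1 ▸ List.mem_map_of_mem hx))

lemma uZero_le : uZero ≤ alternatingGroup (Fin 8) := by
  intro σ hσ
  obtain ⟨w, rfl⟩ := mem_elemsU_iff.1 hσ
  exact permWord_mem (G := alternatingGroup (Fin 8)) (fun x hx => Perm.mem_alternatingGroup.2 (genPerms_facts.2 x hx)) w

theorem no1344 (hA : R ≤ alternatingGroup (Fin 8)) (hR : RadFree R) (hcard : Nat.card R = 1344) : False := by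
  classical
  haveI : Fact (Nat.Prime 2) := ⟨Nat.prime_two⟩
  haveI : Fact (Nat.Prime 7) := ⟨by norm_num⟩
  obtain ⟨P⟩ : Nonempty (Sylow 2 R) := inferInstance
  have hP : Nat.card P = 64 := by
    rw [P.card_eq_multiplicity, hcard, show (1344 : ℕ) = 2 ^ 6 * 21 by norm_num,
      Nat.factorization_mul (by norm_num) (by norm_num), Finsupp.add_apply,
      Nat.Prime.factorization_pow Nat.prime_two, Finsupp.single_eq_same,
      Nat.factorization_eq_zero_of_not_dvd (by norm_num : ¬ 2 ∣ 21), add_zero]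
    norm_num
  have hfac : 2 ^ (Nat.card (alternatingGroup (Fin 8))).factorization 2 = 64 := by
    rw [card_altEight, show (20160 : ℕ) = 2 ^ 6 * 315 by norm_num,
      Nat.factorization_mul (by norm_num) (by norm_num), Finsupp.add_apply,
      Nat.Prime.factorization_pow Nat.prime_two, Finsupp.single_eq_same,
      Nat.factorization_eq_zero_of_not_dvd (by norm_num : ¬ 2 ∣ 315), add_zero]
    norm_num
  set P₀ := (P : Subgroup R).map R.subtype with hP₀
  have hP₀le : P₀ ≤ R := Subgroup.map_subtype_le _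
  have hP₀card : Nat.card P₀ = 64 := by
    rw [hP₀, Subgroup.card_map_of_injective R.subtype_injective]; exact hP
  let S₁ : Sylow 2 (alternatingGroup (Fin 8)) := Sylow.ofCard (P₀.subgroupOf (alternatingGroup (Fin 8))) (by
    rw [hfac, Nat.card_congr (Subgroup.subgroupOfEquivOfLe (hP₀le.trans hA)).toEquiv, hP₀card])
  let S₂ : Sylow 2 (alternatingGroup (Fin 8)) := Sylow.ofCard (uZero.subgroupOf (alternatingGroup (Fin 8))) (by
    rw [hfac, Nat.card_congr (Subgroup.subgroupOfEquivOfLe uZero_le).toEquiv, card_uZero])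
  obtain ⟨a, ha⟩ := MulAction.exists_smul_eq (alternatingGroup (Fin 8)) S₁ S₂
  set σ := (a : Perm (Fin 8))
  set R' := conjSub σ R
  have hA' : R' ≤ alternatingGroup (Fin 8) := conjSub_le hA
  have hR' : RadFree R' := hR.congr (conjSubEquiv σ R)
  have hcard' : Nat.card R' = 1344 := (card_conjSub σ R).trans hcard
  have hU : uZero ≤ R' := by
    intro u hu
    have hmem : (⟨u, uZero_le hu⟩ : alternatingGroup (Fin 8)) ∈ ((a • S₁ : Sylow 2 _) : Subgroup _) := by
      rw [ha]; exact hu
    rw [Sylow.coe_subgroup_smul, Subgroup.mem_pointwise_smul_iff_inv_smul_mem] at hmem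
    have h2 : ((MulAut.conj a)⁻¹ • (⟨u, uZero_le hu⟩ : alternatingGroup (Fin 8)) : alternatingGroup (Fin 8)).1 ∈ P₀ := hmem
    refine ⟨σ⁻¹ * u * σ, hP₀le ?_, by simp [mul_assoc]⟩
    simpa [MulAut.smul_def, σ] using h2
  obtain ⟨d, hd⟩ := exists_prime_orderOf_dvd_card' (G := R') 7 (by rw [hcard']; norm_num)
  rw [← Subgroup.orderOf_coe] at hd
  -- the subgroup generated by the Sylow subgroup and the element of order seven
  set K := uZero ⊔ Subgroup.zpowers (d : Perm (Fin 8)) with hK
  have hKR : K ≤ R' := sup_le hU (Subgroup.zpowers_le.2 d.2)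
  have hKeq : K = R' := by
    refine Subgroup.eq_of_le_of_card_ge hKR ?_
    have h1 := Subgroup.card_dvd_of_le hKR
    have h2 : 64 ∣ Nat.card K := card_uZero ▸ Subgroup.card_dvd_of_le le_sup_left
    have h3 : 7 ∣ Nat.card K := by
      rw [← hd]; exact Subgroup.orderOf_dvd_natCard _ (Subgroup.mem_sup_right (Subgroup.mem_zpowers _))
    have h448 : 448 ∣ Nat.card K := (show Nat.Coprime 64 7 by norm_num).mul_dvd_of_dvd_of_dvd h2 h3
    obtain ⟨k, hk⟩ := h448
    rw [hcard', hk, show 1344 = 448 * 3 by norm_num, Nat.mul_dvd_mul_iff_left (by norm_num)] at h1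
    rcases (Nat.dvd_prime Nat.prime_three).1 h1 with rfl | rfl
    swap
    · rw [hcard', hk]
    exfalso
    rw [mul_one] at hk
    set K' := K.subgroupOf R' with hK'
    have hK'c : Nat.card K' = 448 := by rw [hK', Nat.card_congr (Subgroup.subgroupOfEquivOfLe hKR).toEquiv, hk]
    haveI : Group.IsSolvable K' := by
      refine H33.isSolvable_of_two_primes Nat.prime_two (by norm_num : Nat.Prime 7) fun r hr hrd => ?_
      rw [hK'c, show (448 : ℕ) = 2 ^ 6 * 7 by norm_num] at hrd
      rcases (Nat.Prime.dvd_mul hr).1 hrd with h | h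
      · exact Or.inl ((Nat.prime_dvd_prime_iff_eq hr Nat.prime_two).1 (hr.dvd_of_dvd_pow h))
      · exact Or.inr ((Nat.prime_dvd_prime_iff_eq hr (by norm_num)).1 h)
    have hcore := hR' _ K'.normalCore_normal (Group.isSolvable_of_isSolvable_injective
      (f := Subgroup.inclusion K'.normalCore_le) (Subgroup.inclusion_injective _))
    have hdd := Subgroup.card_dvd_of_injective _ (H39.toPerm_injective_of_core_bot hcore)
    have hidx : Nat.card (R' ⧸ K') = 3 := by
      have := K'.card_mul_index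
      rw [hK'c, hcard'] at this
      show K'.index = 3
      omega
    rw [Nat.card_perm, hidx, hcard'] at hdd
    norm_num [Nat.factorial] at hdd
  obtain ⟨l, hl, hle⟩ := exists_pcyc (p := 7) (by norm_num) (by norm_num) hd
  have hchk := List.all_eq_true.1 allU l hl
  rw [checkU, Bool.or_eq_true, Bool.or_eq_true, ← hle] at hchk
  have hnorm : ∀ V, elemAb V = true → normalisesB V (enc (d : Perm (Fin 8))) = true → (∃ v ∈ V, v ≠ pid) → False := by
    intro V hV hn hv
    simp only [elemAb, Bool.and_eq_true, List.contains_iff_mem, List.all_eq_true, beq_iff_eq, decide_eq_true_eq] at hV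
    obtain ⟨⟨⟨⟨hV1, hV2⟩, -⟩, hVU⟩, hVn⟩ := hV
    let W : Subgroup (Perm (Fin 8)) :=
      { carrier := {x | enc x ∈ V}
        one_mem' := by show enc 1 ∈ V; rw [enc_one]; exact hV1
        mul_mem' := fun {x y} hx hy => by show enc (x * y) ∈ V; rw [enc_mul]; exact (hV2 _ hx).2 _ hy
        inv_mem' := fun {x} hx => by
          show enc x⁻¹ ∈ V
          have h : x * x = 1 := enc_eq_one_iff.1 (by rw [enc_mul]; exact (hV2 _ hx).1)
          rwa [inv_eq_of_mul_eq_one_left h] }
    have hmemU : ∀ c ∈ V, ∃ x : Perm (Fin 8), x ∈ uZero ∧ enc x = c := by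
      intro c hc
      obtain ⟨⟨c', w⟩, hm, rfl⟩ := List.mem_map.1 (hVU c hc)
      have hcl := elemsU_ok.1
      simp only [List.all_eq_true, Bool.and_eq_true] at hcl
      refine ⟨permWord genPerms w, mem_elemsU_iff.2 ⟨w, rfl⟩, ?_⟩
      rw [← enc_word, genPerms_facts.1]
      simpa using (hcl _ hm).1
    have hnz : ∀ g : Perm (Fin 8), normalisesB V (enc g) = true → g ∈ Subgroup.normalizer (W : Set (Perm (Fin 8))) := by
      intro g hg
      rw [Subgroup.mem_normalizer_iff_map_conj_eq]
      refine Subgroup.eq_of_le_of_card_ge ?_ ?_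
      · rintro _ ⟨v, hv, rfl⟩
        simp only [normalisesB, List.all_eq_true, List.any_eq_true, beq_iff_eq] at hg
        obtain ⟨w, hw, he⟩ := hg _ hv
        obtain ⟨w', -, rfl⟩ := hmemU w hw
        rw [← enc_mul, ← enc_mul] at he
        show enc (g * v * g⁻¹) ∈ V
        rwa [enc_injective he, mul_inv_cancel_right]
      · exact (Subgroup.card_map_of_injective (f := (MulAut.conj g).toMonoidHom) (MulAut.conj g).injective).ge
    have hUN : uZero ≤ Subgroup.normalizer (W : Set (Perm (Fin 8))) := by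
      intro u hu
      obtain ⟨w, rfl⟩ := mem_elemsU_iff.1 hu
      refine permWord_mem (fun x hx => hnz x ?_) w
      exact hVn _ (genPerms_facts.1 ▸ List.mem_map_of_mem hx)
    have hRN : R' ≤ Subgroup.normalizer (W : Set (Perm (Fin 8))) := by
      rw [← hKeq]
      exact sup_le hUN (Subgroup.zpowers_le.2 (hnz _ hn))
    have hWR : W ≤ R' := fun x hx => by
      obtain ⟨y, hy, he⟩ := hmemU _ hx
      rw [← enc_injective he]; exact hU hy
    haveI hWn : (W.subgroupOf R').Normal := Subgroup.normal_subgroupOf_of_le_normalizer hRN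
    have hbot := hR' _ hWn (Group.isSolvable_of_comm fun x y => Subtype.ext (Subtype.ext (by
      have hsq : ∀ z : Perm (Fin 8), z ∈ W → z⁻¹ = z := fun z hz =>
        inv_eq_of_mul_eq_one_left (enc_eq_one_iff.1 (by rw [enc_mul]; exact (hV2 _ hz).1))
      have h1 := hsq _ (W.mul_mem x.2 y.2)
      rw [mul_inv_rev, hsq _ x.2, hsq _ y.2] at h1
      exact h1.symm)))
    obtain ⟨v, hv, hvne⟩ := hv
    obtain ⟨x, hxU, hxe⟩ := hmemU v hv
    have hxW : x ∈ W := by show enc x ∈ V; rw [hxe]; exact hv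
    have hxb : (⟨x, hU hxU⟩ : R') ∈ W.subgroupOf R' := hxW
    rw [hbot, Subgroup.mem_bot] at hxb
    exact hvne (by rw [← hxe, show x = 1 from congrArg Subtype.val hxb, enc_one])
  rcases hchk with (h | h) | h
  · exact hnorm _ elemAb_ok.1 h (by decide +kernel)
  · exact hnorm _ elemAb_ok.2 h (by decide +kernel)
  · obtain ⟨p, -, hp⟩ := List.any_eq_true.1 h
    rw [← genPerms_facts.1, show genPerms.map enc ++ [enc (d : Perm (Fin 8))] = (genPerms ++ [(d : Perm (Fin 8))]).map enc by simp,
      enc_word, enc_pow] at hp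
    have ho := orderOf_testPow (by norm_num) hp
    have hmem : permWord (genPerms ++ [(d : Perm (Fin 8))]) p.1 ^ p.2 ∈ R' := Subgroup.pow_mem _ (permWord_mem (fun x hx => by
      rcases List.mem_append.1 hx with hx | hx
      · exact hU (genPerms_mem_uZero x hx)
      · rw [List.mem_singleton.1 hx]; exact d.2) _) _
    have := Subgroup.orderOf_dvd_natCard _ hmem
    rw [ho, hcard'] at this
    norm_num at this

theorem seven_only_std (hA : R ≤ alternatingGroup (Fin 8)) (hR : RadFree R) [Nontrivial R] (h5 : ¬ 5 ∣ Nat.card R)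
    (hc : cSeven ∈ R) : Nat.card R = 168 := by
  classical
  haveI : Fact (Nat.Prime 7) := ⟨by norm_num⟩
  obtain ⟨-, -, f3, f4, -, -, f7⟩ := cSeven_facts
  have hd := card_dvd hA
  set c : R := ⟨cSeven, hc⟩
  have hoc : orderOf c = 7 := by rw [← Subgroup.orderOf_coe]; exact orderOf_cSeven
  have h7 : 7 ∣ Nat.card R := hoc ▸ orderOf_dvd_natCard c
  have h49 : ¬ 49 ∣ Nat.card R := fun h => absurd (h.trans hd) (by norm_num)
  obtain ⟨n, hn⟩ := h7
  have hn7 : ¬ 7 ∣ n := fun h => h49 (hn ▸ mul_dvd_mul_left 7 h)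
  let P : Sylow 7 R := Sylow.ofCard (Subgroup.zpowers c) (by
    rw [Nat.card_zpowers, hoc, hn, Nat.factorization_mul (by norm_num) (fun e => hn7 (by rw [e]; exact dvd_zero 7)),
      Finsupp.add_apply, Nat.Prime.factorization_self (by norm_num), Nat.factorization_eq_zero_of_not_dvd hn7, add_zero, pow_one])
  set N := Subgroup.normalizer (((P : Subgroup R)) : Set R) with hN
  have hgN : ∀ g : N, ∃ j < 7, ((g : R) : Perm (Fin 8)) * cSeven = cSeven ^ j * ((g : R) : Perm (Fin 8)) := by
    intro g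
    have h := (Subgroup.mem_normalizer_iff.1 g.2 c).1 (Subgroup.mem_zpowers c)
    obtain ⟨k, hk⟩ := Subgroup.mem_zpowers_iff.1 (h : _ ∈ Subgroup.zpowers c)
    refine ⟨(k % (7 : ℤ)).toNat, by omega, ?_⟩
    have h' : c ^ ((k % (7 : ℤ)).toNat) = (g : R) * c * (g : R)⁻¹ := by
      rw [← hk, ← zpow_natCast, Int.toNat_of_nonneg (Int.emod_nonneg _ (by norm_num)),
        show (7 : ℤ) = ((orderOf c : ℕ) : ℤ) by rw [hoc]; rfl, zpow_mod_orderOf]
    have h'' := congrArg Subtype.val (eq_mul_inv_iff_mul_eq.1 h')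
    exact h''.symm
  choose j hj hgj using hgN
  have hsign : ∀ g : N, Perm.sign ((g : R) : Perm (Fin 8)) = 1 := fun g => Perm.mem_alternatingGroup.1 (hA (g : R).2)
  have hj' : ∀ g, j g = 1 ∨ j g = 2 ∨ j g = 4 := fun g => exponent_square (hsign g) (hj g) (hgj g)
  have hN21 : Nat.card N ≤ 21 := by
    let F : N → Fin 7 × {m : Fin 5 // m = 1 ∨ m = 2 ∨ m = 4} := fun g =>
      (if h : ((g : R) : Perm (Fin 8)) 0 = 7 then 0 else ⟨_, (f3 _ h).choose_spec.1⟩,
        ⟨⟨j g, by rcases hj' g with e | e | e <;> omega⟩, by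
          rcases hj' g with e | e | e <;> simp [Fin.ext_iff, e]⟩)
    have hne7 : ∀ g : N, ((g : R) : Perm (Fin 8)) 0 ≠ 7 := by
      intro g h
      obtain ⟨f1, f2, -, -, -, -, -⟩ := cSeven_facts
      have hg7 : ((g : R) : Perm (Fin 8)) 7 = 7 := by
        have hcs : (cSeven ^ j g) (((g : R) : Perm (Fin 8)) 7) = ((g : R) : Perm (Fin 8)) 7 := by
          rw [← Perm.mul_apply, ← hgj, Perm.mul_apply, f2]
        have : ∀ m < 5, m = 1 ∨ m = 2 ∨ m = 4 → ∀ x : Fin 8, (cSeven ^ m) x = x → x = 7 := by decide +kernel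
        exact this (j g) (by rcases hj' g with e | e | e <;> omega) (hj' g) _ hcs
      simpa using ((g : R) : Perm (Fin 8)).injective (h.trans hg7.symm)
    have hF : Function.Injective F := by
      intro g g' h
      simp only [F, Prod.mk.injEq, dif_neg (hne7 g), dif_neg (hne7 g'), Fin.mk.injEq, Subtype.mk.injEq] at h
      obtain ⟨h1, h2⟩ := h
      have e0 : ((g : R) : Perm (Fin 8)) 0 = ((g' : R) : Perm (Fin 8)) 0 := by
        rw [← (f3 _ (hne7 g)).choose_spec.2, ← (f3 _ (hne7 g')).choose_spec.2, h1]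
      have hcomm : (((g' : R) : Perm (Fin 8))⁻¹ * ((g : R) : Perm (Fin 8))) * cSeven
          = cSeven * (((g' : R) : Perm (Fin 8))⁻¹ * ((g : R) : Perm (Fin 8))) := by
        rw [mul_assoc, hgj g, h2, ← mul_assoc, ← mul_assoc]
        rw [show ((g' : R) : Perm (Fin 8))⁻¹ * cSeven ^ j g' = cSeven * ((g' : R) : Perm (Fin 8))⁻¹ from by
          rw [inv_mul_eq_iff_eq_mul, ← mul_assoc, hgj g', mul_inv_cancel_right]]
      obtain ⟨k, hk, hke⟩ := eq_pow_of_commute hcomm
      have hk0 := f4 k hk (by rw [← hke, Perm.mul_apply, e0, inv_app])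
      rw [hk0, pow_zero, inv_mul_eq_one] at hke
      exact Subtype.ext (Subtype.ext hke.symm)
    have := Nat.card_le_card_of_injective F hF
    have h3 : Fintype.card {m : Fin 5 // m = 1 ∨ m = 2 ∨ m = 4} = 3 := by decide
    rw [Nat.card_prod, Nat.card_eq_fintype_card (α := Fin 7), Nat.card_eq_fintype_card (α := {m : Fin 5 // m = 1 ∨ m = 2 ∨ m = 4}), Fintype.card_fin, h3] at this
    exact this
  have hPN : (P : Subgroup R) ≤ N := Subgroup.le_normalizer
  have hP7 : Nat.card (P : Subgroup R) = 7 := by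
    show Nat.card (Subgroup.zpowers c) = 7
    rw [Nat.card_zpowers, hoc]
  have h7N : 7 ∣ Nat.card N := hP7 ▸ Subgroup.card_dvd_of_le hPN
  have h2N : ¬ 2 ∣ Nat.card N := by
    intro h2
    haveI : Fact (Nat.Prime 2) := ⟨Nat.prime_two⟩
    obtain ⟨g, hg⟩ := exists_prime_orderOf_dvd_card' 2 h2
    have hsq : ((g : R) : Perm (Fin 8)) ^ 2 = 1 := by
      rw [← Subgroup.coe_pow, ← Subgroup.coe_pow, ← hg, pow_orderOf_eq_one, Subgroup.coe_one, Subgroup.coe_one]
    have h := pow_mul_comm_of (hgj g) 2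
    rw [hsq, one_mul, mul_one, pow_eq_pow_mod _ f7] at h
    have hj1 : j g = 1 := by
      have : ∀ m < 7, (m = 1 ∨ m = 2 ∨ m = 4) → cSeven = cSeven ^ (m ^ 2 % 7) → m = 1 := by decide +kernel
      exact this _ (hj g) (hj' g) h
    have hcm := hgj g
    rw [hj1, pow_one] at hcm
    obtain ⟨k, -, hke⟩ := eq_pow_of_commute hcm
    have h7g : ((g : R) : Perm (Fin 8)) ^ 7 = 1 := by rw [hke, ← pow_mul, mul_comm, pow_mul, f7, one_pow]
    have hd7 : orderOf ((g : R) : Perm (Fin 8)) ∣ 7 := orderOf_dvd_of_pow_eq_one h7g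
    rw [Subgroup.orderOf_coe, Subgroup.orderOf_coe, hg] at hd7
    norm_num at hd7
  have hNcases : Nat.card N = 7 ∨ Nat.card N = 21 := by
    obtain ⟨m, hm⟩ := h7N
    rcases (show m = 0 ∨ m = 1 ∨ m = 2 ∨ m = 3 by omega) with rfl | rfl | rfl | rfl
    · exact absurd hm Nat.card_pos.ne'
    · exact Or.inl hm
    · exact absurd ⟨7, hm⟩ h2N
    · exact Or.inr hm
  rcases hNcases with hN7 | hN21'
  · exfalso
    have hNP : (P : Subgroup R) = N := Subgroup.eq_of_le_of_card_ge hPN (by omega)
    have hcen : Subgroup.normalizer (((P : Subgroup R)) : Set R) ≤ Subgroup.centralizer ((P : Subgroup R) : Set R) := by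
      rw [← hN, ← hNP]
      intro x hx y hy
      haveI : IsCyclic (P : Subgroup R) := isCyclic_of_prime_card hP7
      exact congrArg Subtype.val (mul_comm' (⟨y, hy⟩ : (P : Subgroup R)) ⟨x, hx⟩)
    have hcm := (MonoidHom.ker_transferSylow_isComplement' P hcen).card_mul_card
    rw [hP7] at hcm
    set Kr := (MonoidHom.transferSylow P hcen).ker
    have hKs : Group.IsSolvable Kr := solvable_of_dvd ((Dvd.intro _ hcm).trans hd)
      (fun h => h5 (h.trans (Dvd.intro _ hcm)))
      (fun h => h49 (by rw [← hcm]; exact mul_dvd_mul h dvd_rfl))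
    have hb := hR Kr (MonoidHom.normal_ker _) hKs
    rw [hb, Subgroup.card_bot, one_mul] at hcm
    haveI : IsCyclic R := isCyclic_of_prime_card hcm.symm
    exact hR.not_solvable (Group.isSolvable_of_comm mul_comm')
  · have hidx := N.card_mul_index
    rw [hN21'] at hidx
    have hmod : N.index ≡ 1 [MOD 7] := by
      have h := card_sylow_modEq_one 7 R
      rw [P.card_eq_index_normalizer] at h
      rw [hN]; exact h
    have hdvd : N.index ∣ 192 := by
      have h4032 : Nat.card R ∣ 4032 := by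
        have : Nat.Coprime (Nat.card R) 5 := ((by norm_num : Nat.Prime 5).coprime_iff_not_dvd.2 h5).symm
        exact this.dvd_of_dvd_mul_right (show Nat.card R ∣ 4032 * 5 from hd)
      rw [← hidx, show (4032 : ℕ) = 21 * 192 by norm_num] at h4032
      exact Nat.dvd_of_mul_dvd_mul_left (by norm_num) h4032
    have hcases : N.index = 1 ∨ N.index = 8 ∨ N.index = 64 := by
      have key : ∀ m ∈ Nat.divisors 192, m % 7 = 1 → m = 1 ∨ m = 8 ∨ m = 64 := by decide +kernel
      exact key _ (Nat.mem_divisors.2 ⟨hdvd, by norm_num⟩) hmod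
    rcases hcases with h | h | h
    · exfalso
      have hn : (P : Subgroup R).Normal := Subgroup.normalizer_eq_top_iff.1 (Subgroup.index_eq_one.1 h)
      haveI : IsCyclic (P : Subgroup R) := isCyclic_of_prime_card hP7
      have hb := hR _ hn (Group.isSolvable_of_comm mul_comm')
      rw [hb, Subgroup.card_bot] at hP7
      omega
    · omega
    · exact (no1344 hA hR (by omega)).elim

theorem seven_only (hA : R ≤ alternatingGroup (Fin 8)) (hR : RadFree R) [Nontrivial R] (h5 : ¬ 5 ∣ Nat.card R)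
    (h7 : 7 ∣ Nat.card R) : Nat.card R = 168 ∧ IsSimpleGroup R := by
  classical
  haveI : Fact (Nat.Prime 7) := ⟨by norm_num⟩
  obtain ⟨d, hd⟩ := exists_prime_orderOf_dvd_card' 7 h7
  rw [← Subgroup.orderOf_coe] at hd
  obtain ⟨σ, hσ⟩ := isConj_iff.1 (isConj_of_orderOf (by norm_num) (by norm_num) hd orderOf_cSeven)
  haveI : Nontrivial (conjSub σ R) := (conjSubEquiv σ R).symm.toEquiv.nontrivial
  have h168 := seven_only_std (conjSub_le hA) (hR.congr (conjSubEquiv σ R)) (by rwa [card_conjSub])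
    (hσ ▸ conj_mem_conjSub d.2)
  rw [card_conjSub] at h168
  obtain ⟨N, hN, hs, -, hc, -⟩ := hR.exists_simple_normal (by omega)
  have hdvd := Subgroup.card_subgroup_dvd_card N
  rw [h168] at hdvd
  have hT : N = ⊤ := Subgroup.eq_top_of_card_eq _ (by
    rcases hc with e | e | e | e | e | e <;> rw [e] at hdvd <;> first | omega | (exfalso; revert hdvd; norm_num))
  refine ⟨h168, ?_⟩
  haveI := hs
  exact IsSimpleGroup.isSimpleGroup_of_surjective
    ((MulEquiv.subgroupCongr hT).trans Subgroup.topEquiv).toMonoidHom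
    ((MulEquiv.subgroupCongr hT).trans Subgroup.topEquiv).surjective

end H41.A8
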