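import Cfsg.Agent.H41.ElemDiv
import Cfsg.Agent.H41.CentralDet

/-!
Calculus of similarity classes given by multisets of polynomials, and products of two classes.
-/

set_option autoImplicit false

open Polynomial

namespace H41

namespace Calc

variable {F : Type*} [Field F]
variable {V W : Type*} [AddCommGroup V] [Module F V] [AddCommGroup W] [Module F W]

/-- `T` is similar to the direct sum of the companions of the members of `s`. -/
def HasCls (T : Module.End F V) (s : Multiset F[X]) : Prop :=
  ∃ (N : ℕ) (f : Fin N → F[X]), Finset.univ.val.map f = s ∧ Similar T (modelEnd f)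

lemma hasCls_of_similar_model {ι : Type*} [Fintype ι] (f : ι → F[X]) {T : Module.End F V}
    (h : Similar T (modelEnd f)) : HasCls T (Finset.univ.val.map f) := by
  classical
  let e := (Fintype.equivFin ι).symm
  refine ⟨_, fun i => f (e i), ?_, h.trans (similar_reindex f _ e e.bijective fun i => rfl)⟩
  conv_rhs => rw [← Finset.map_univ_equiv e, Finset.map_val, Multiset.map_map]
  rfl

lemma HasCls.similar {T : Module.End F V} {S : Module.End F W} {s : Multiset F[X]} (h : HasCls T s)
    (hS : Similar S T) : HasCls S s := by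
  obtain ⟨N, f, hf, hT⟩ := h
  exact ⟨N, f, hf, hS.trans hT⟩

lemma HasCls.unique {T : Module.End F V} {S : Module.End F W} {s : Multiset F[X]} (h : HasCls T s)
    (h' : HasCls S s) : Similar T S := by
  classical
  obtain ⟨N, f, hf, hT⟩ := h
  obtain ⟨M, g, hg, hS⟩ := h'
  exact hT.trans ((similar_of_sameMultiset f g (hf.trans hg.symm)).trans hS.symm)

lemma similar_prodMap {V' W' : Type*} [AddCommGroup V'] [Module F V'] [AddCommGroup W'] [Module F W']
    {T : Module.End F V} {T' : Module.End F V'} {S : Module.End F W} {S' : Module.End F W'}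
    (h : Similar T T') (h' : Similar S S') : Similar (T.prodMap S) (T'.prodMap S') := by
  obtain ⟨e, he⟩ := h
  obtain ⟨e', he'⟩ := h'
  exact ⟨e.prodCongr e', fun v => Prod.ext (he v.1) (he' v.2)⟩

lemma HasCls.prod {T : Module.End F V} {S : Module.End F W} {s t : Multiset F[X]} (h : HasCls T s)
    (h' : HasCls S t) : HasCls (T.prodMap S) (s + t) := by
  obtain ⟨N, f, hf, hT⟩ := h
  obtain ⟨M, g, hg, hS⟩ := h'
  have h1 : Similar ((modelEnd f).prodMap (modelEnd g)) (modelEnd (Sum.elim f g)) :=
    ⟨(LinearEquiv.sumPiEquivProdPi F (Fin N) (Fin M) fun i => AdjoinRoot (Sum.elim f g i)).symm,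
      fun v => funext fun i => by cases i <;> rfl⟩
  have h2 := hasCls_of_similar_model _ ((similar_prodMap hT hS).trans h1)
  have e : Finset.univ.val.map (Sum.elim f g) = s + t := by
    rw [← Finset.univ_disjSum_univ, Finset.val_disjSum, Multiset.disjSum, Multiset.map_add,
      Multiset.map_map, Multiset.map_map, Sum.elim_comp_inl, Sum.elim_comp_inr, hf, hg]
  rwa [e] at h2

lemma hasCls_comp (f : F[X]) : HasCls (LinearMap.mulLeft F (AdjoinRoot.root f)) {f} := by
  refine ⟨1, fun _ => f, rfl, ⟨(LinearEquiv.funUnique (Fin 1) F (AdjoinRoot f)).symm, fun v => funext fun i => rfl⟩⟩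

lemma hasCls_zero [Subsingleton V] (T : Module.End F V) : HasCls T 0 :=
  ⟨0, Fin.elim0, rfl, ⟨LinearEquiv.ofSubsingleton V _, fun v => Subsingleton.elim _ _⟩⟩

lemma HasCls.det {T : Module.End F V} {s : Multiset F[X]} (h : HasCls T s) (hm : ∀ f ∈ s, Monic f) :
    LinearMap.det T = (s.map fun f => (-1) ^ f.natDegree * f.coeff 0).prod := by
  classical
  obtain ⟨N, f, hf, hT⟩ := h
  subst hf
  rw [hT.det_eq, det_modelEnd f (fun i => hm _ (Multiset.mem_map_of_mem _ (Finset.mem_univ_val i))),
    Multiset.map_map, Finset.prod_eq_multiset_prod]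
  rfl

lemma HasCls.finiteDimensional {T : Module.End F V} {s : Multiset F[X]} (h : HasCls T s)
    (hm : ∀ f ∈ s, Monic f) : FiniteDimensional F V := by
  obtain ⟨N, f, hf, e, -⟩ := h
  subst hf
  haveI : ∀ i, Module.Finite F (AdjoinRoot (f i)) := fun i =>
    (AdjoinRoot.powerBasis (hm _ (Multiset.mem_map_of_mem _ (Finset.mem_univ_val i))).ne_zero).finite
  exact Module.Finite.equiv e.symm

lemma HasCls.finrank {T : Module.End F V} {s : Multiset F[X]} (h : HasCls T s)
    (hm : ∀ f ∈ s, Monic f) : Module.finrank F V = (s.map natDegree).sum := by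
  obtain ⟨N, f, hf, e, -⟩ := h
  subst hf
  rw [e.finrank_eq, finrank_modelSpace f fun i => (hm _ (Multiset.mem_map_of_mem _ (Finset.mem_univ_val i))).ne_zero,
    Multiset.map_map, Finset.sum_eq_multiset_sum]
  rfl

lemma HasCls.aeval_prod {T : Module.End F V} {s : Multiset F[X]} (h : HasCls T s) :
    aeval T s.prod = 0 := by
  classical
  obtain ⟨N, f, hf, hT⟩ := h
  subst hf
  rw [hT.aeval_eq_zero_iff, aeval_modelEnd_eq_zero_iff]
  exact fun i => Multiset.dvd_prod (Multiset.mem_map_of_mem _ (Finset.mem_univ_val i))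

/-- The standard model of a class. -/
lemma exists_hasCls_model (s : Multiset F[X]) :
    ∃ (N : ℕ) (f : Fin N → F[X]), HasCls (modelEnd f) s := by
  refine ⟨s.toList.length, s.toList.get, _, s.toList.get, ?_, Similar.refl _⟩
  rw [Fin.univ_val_map, List.ofFn_get, Multiset.coe_toList]

/-- The orbit polynomial map. -/
noncomputable def orbit (T : Module.End F V) (v : V) : F[X] →ₗ[F] V :=
  (LinearMap.applyₗ v) ∘ₗ (aeval T : F[X] →ₐ[F] Module.End F V).toLinearMap

lemma orbit_apply (T : Module.End F V) (v : V) (p : F[X]) : orbit T v p = aeval T p v := rfl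

/-- A cyclic endomorphism is a companion. -/
lemma hasCls_of_cyclic [FiniteDimensional F V] (T : Module.End F V) (v : V) (f : F[X]) (hf : f.Monic)
    (hdeg : Module.finrank F V = f.natDegree) (hv : aeval T f v = 0)
    (hgen : ∀ C : Submodule F V, v ∈ C → (∀ u ∈ C, T u ∈ C) → C = ⊤) : HasCls T {f} := by
  have hmap : ∀ p, orbit T v (X * p) = T (orbit T v p) := fun p => by
    rw [orbit_apply, map_mul, aeval_X]; rfl
  have hsurj : LinearMap.range (orbit T v) = ⊤ :=
    hgen _ ⟨1, by simp [orbit_apply]⟩ (by rintro _ ⟨p, rfl⟩; exact ⟨X * p, hmap p⟩)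
  let φ : AdjoinRoot f →ₗ[F] V := Submodule.liftQ ((Ideal.span {f}).restrictScalars F) (orbit T v) (by
      intro p hp
      obtain ⟨q, rfl⟩ := Ideal.mem_span_singleton'.mp hp
      rw [LinearMap.mem_ker, orbit_apply, map_mul, Module.End.mul_apply, hv, map_zero])
    ∘ₗ (Submodule.Quotient.restrictScalarsEquiv F (Ideal.span {f})).symm.toLinearMap
  have hφ : ∀ p, φ (AdjoinRoot.mk f p) = orbit T v p := fun p => rfl
  haveI : Module.Finite F (AdjoinRoot f) := (AdjoinRoot.powerBasis hf.ne_zero).finite
  have hs : Function.Surjective φ := fun u => by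
    obtain ⟨p, hp⟩ := LinearMap.range_eq_top.mp hsurj u
    exact ⟨AdjoinRoot.mk f p, (hφ p).trans hp⟩
  have hi : Function.Injective φ :=
    (LinearMap.injective_iff_surjective_of_finrank_eq_finrank (by rw [hdeg, finrank_adjoinRoot hf.ne_zero])).mpr hs
  refine (hasCls_comp f).similar (Similar.symm ⟨LinearEquiv.ofBijective φ ⟨hi, hs⟩, fun x => ?_⟩)
  obtain ⟨p, rfl⟩ := AdjoinRoot.mk_surjective x
  show φ (AdjoinRoot.root f * AdjoinRoot.mk f p) = T (φ (AdjoinRoot.mk f p))
  rw [← AdjoinRoot.mk_X, ← map_mul, hφ, hφ, hmap]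

/-- Coprime companions merge. -/
lemma hasCls_merge {T : Module.End F V} {f g : F[X]} (hf : f.Monic) (hg : g.Monic) (hc : IsCoprime f g)
    (s : Multiset F[X]) (h : HasCls T (f ::ₘ g ::ₘ s)) : HasCls T (f * g ::ₘ s) := by
  haveI : Module.Finite F (AdjoinRoot f) := (AdjoinRoot.powerBasis hf.ne_zero).finite
  haveI : Module.Finite F (AdjoinRoot g) := (AdjoinRoot.powerBasis hg.ne_zero).finite
  set R := (LinearMap.mulLeft F (AdjoinRoot.root f)).prodMap (LinearMap.mulLeft F (AdjoinRoot.root g))
  have hR : ∀ p : F[X], aeval R p (1, 1) = (AdjoinRoot.mk f p, AdjoinRoot.mk g p) := by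
    intro p
    induction p using Polynomial.induction_on' with
    | add p q hp hq => rw [map_add, map_add, map_add, LinearMap.add_apply, hp, hq]; rfl
    | monomial k a =>
      induction k with
      | zero =>
        rw [monomial_zero_left, aeval_C, Module.algebraMap_end_apply]
        refine Prod.ext ?_ ?_ <;> simp [Algebra.smul_def]
      | succ k ih =>
        rw [show monomial (k + 1) a = X * monomial k a by rw [X_mul_monomial], map_mul, aeval_X, map_mul, map_mul,
          Module.End.mul_apply, ih]
        rfl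
  have hRc : HasCls R {f * g} := by
    refine hasCls_of_cyclic R (1, 1) (f * g) (hf.mul hg) ?_ ?_ ?_
    · rw [Module.finrank_prod, finrank_adjoinRoot hf.ne_zero, finrank_adjoinRoot hg.ne_zero,
        natDegree_mul hf.ne_zero hg.ne_zero]
    · rw [hR, AdjoinRoot.mk_eq_zero.mpr (dvd_mul_right f g), AdjoinRoot.mk_eq_zero.mpr (dvd_mul_left g f)]; rfl
    · intro C h1 hC
      have hp : ∀ p : F[X], aeval R p (1, 1) ∈ C := by
        intro p
        induction p using Polynomial.induction_on with
        | C a => rw [aeval_C, Module.algebraMap_end_apply]; exact C.smul_mem _ h1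
        | add p q hp hq => rw [map_add, LinearMap.add_apply]; exact C.add_mem hp hq
        | monomial k a ih =>
          rw [pow_succ, ← mul_assoc, mul_comm, map_mul, aeval_X, Module.End.mul_apply]
          exact hC _ ih
      obtain ⟨u, v, huv⟩ := hc
      rw [eq_top_iff]
      rintro ⟨x, y⟩ -
      obtain ⟨p, rfl⟩ := AdjoinRoot.mk_surjective x
      obtain ⟨q, rfl⟩ := AdjoinRoot.mk_surjective y
      have := hp (p * (v * g) + q * (u * f))
      rw [hR] at this
      convert this using 2
      · rw [AdjoinRoot.mk_eq_mk]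
        exact ⟨p * u - q * u, by linear_combination (-p) * huv⟩
      · rw [AdjoinRoot.mk_eq_mk]
        exact ⟨q * v - p * v, by linear_combination (-q) * huv⟩
  obtain ⟨N, m, hm⟩ := exists_hasCls_model s
  have h1 : HasCls (R.prodMap (modelEnd m)) (f * g ::ₘ s) := by
    rw [← Multiset.singleton_add]; exact hRc.prod hm
  have h2 : HasCls (R.prodMap (modelEnd m)) (f ::ₘ g ::ₘ s) := by
    rw [← Multiset.singleton_add f, ← Multiset.singleton_add g, ← add_assoc]
    exact ((hasCls_comp f).prod (hasCls_comp g)).prod hm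
  exact h1.similar (h.unique h2)

/-- Triangular endomorphism of a product. -/
def tri (T : Module.End F V) (Z : W →ₗ[F] V) (S : Module.End F W) : Module.End F (V × W) :=
  ((T.comp (LinearMap.fst F V W)) + Z.comp (LinearMap.snd F V W)).prod (S.comp (LinearMap.snd F V W))

lemma tri_apply (T : Module.End F V) (Z : W →ₗ[F] V) (S : Module.End F W) (v : V × W) :
    tri T Z S v = (T v.1 + Z v.2, S v.2) := rfl

lemma isUnit_aeval_of_coprime {T : Module.End F V} {a b : F[X]} (h : IsCoprime a b) (hT : aeval T a = 0) :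
    Function.Injective (aeval T b) := by
  obtain ⟨u, v, huv⟩ := h
  have h1 : aeval T v * aeval T b = 1 := by
    have := congrArg (aeval T) huv
    rwa [map_add, map_mul, map_mul, hT, mul_zero, zero_add, map_one] at this
  exact fun x y hxy => by
    have := congrArg (aeval T v) hxy
    rwa [← Module.End.mul_apply, ← Module.End.mul_apply, h1] at this

/-- Sylvester: coprime diagonal blocks decouple. -/
lemma similar_tri [FiniteDimensional F V] [FiniteDimensional F W] (T : Module.End F V) (Z : W →ₗ[F] V)
    (S : Module.End F W) {a b : F[X]} (hab : IsCoprime a b) (hT : aeval T a = 0) (hS : aeval S b = 0) :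
    Similar (tri T Z S) (T.prodMap S) := by
  let L : (W →ₗ[F] V) →ₗ[F] (W →ₗ[F] V) :=
    { toFun := fun Y => T ∘ₗ Y - Y ∘ₗ S
      map_add' := fun Y Y' => by simp only [LinearMap.comp_add, LinearMap.add_comp]; abel
      map_smul' := fun c Y => by simp only [LinearMap.comp_smul, LinearMap.smul_comp, RingHom.id_apply, smul_sub] }
  have hL : Function.Injective L := by
    rw [injective_iff_map_eq_zero]
    intro Y hY
    have hY' : ∀ w, T (Y w) = Y (S w) := fun w => sub_eq_zero.mp (LinearMap.congr_fun hY w)
    have hp : ∀ (p : F[X]) (w : W), aeval T p (Y w) = Y (aeval S p w) := by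
      intro p
      induction p using Polynomial.induction_on' with
      | add p q hp hq => intro w; simp [map_add, hp, hq]
      | monomial k c =>
        intro w
        induction k generalizing w with
        | zero => simp [Module.algebraMap_end_apply]
        | succ k ih =>
          rw [← monomial_mul_X, map_mul, map_mul, aeval_X, aeval_X, Module.End.mul_apply, Module.End.mul_apply,
            hY', ih]
    refine LinearMap.ext fun w => isUnit_aeval_of_coprime hab hT ?_
    rw [hp, hS]; simp
  obtain ⟨Y, hY⟩ := LinearMap.injective_iff_surjective.mp hL Z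
  refine ⟨{ toFun := fun v => (v.1 + Y v.2, v.2)
            map_add' := fun v v' => Prod.ext (by simp; abel) rfl
            map_smul' := fun c v => Prod.ext (by simp) rfl
            invFun := fun v => (v.1 - Y v.2, v.2)
            left_inv := fun v => Prod.ext (by simp) rfl
            right_inv := fun v => Prod.ext (by simp) rfl }, fun v => ?_⟩
  have h := LinearMap.congr_fun hY v.2
  refine Prod.ext ?_ rfl
  show T v.1 + Z v.2 + Y (S v.2) = T (v.1 + Y v.2)
  rw [← h, map_add]
  simp only [L, LinearMap.coe_mk, AddHom.coe_mk, LinearMap.sub_apply, LinearMap.comp_apply]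
  abel

lemma HasCls.tri [FiniteDimensional F V] [FiniteDimensional F W] {T : Module.End F V} {S : Module.End F W}
    {s t : Multiset F[X]} (h : HasCls T s) (h' : HasCls S t) (hc : IsCoprime s.prod t.prod) (Z : W →ₗ[F] V) :
    HasCls (tri T Z S) (s + t) :=
  (h.prod h').similar (similar_tri T Z S hc h.aeval_prod h'.aeval_prod)

/-- The commutant of `T` has every nonzero determinant. -/
def SurjDet (T : Module.End F V) : Prop :=
  ∀ u : F, u ≠ 0 → ∃ z : Module.End F V, z * T = T * z ∧ LinearMap.det z = u

lemma surjDet_of_similar {T : Module.End F V} {S : Module.End F W} (h : SurjDet S) (hs : Similar T S) :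
    SurjDet T := by
  obtain ⟨e, he⟩ := hs
  intro u hu
  obtain ⟨z, hz, hzd⟩ := h u hu
  refine ⟨(e.symm : W →ₗ[F] V) ∘ₗ z ∘ₗ (e : V →ₗ[F] W), LinearMap.ext fun v => e.injective ?_, ?_⟩
  · have := LinearMap.congr_fun hz (e v)
    simp only [Module.End.mul_apply] at this ⊢
    simp only [LinearMap.comp_apply, LinearEquiv.coe_coe]
    rw [he, he]
    simpa using this
  · have := LinearMap.det_conj z e.symm
    rw [LinearEquiv.symm_symm] at this
    rw [this, hzd]

variable [Fintype F]

lemma surjDet_of_mem {T : Module.End F V} {s : Multiset F[X]} (h : HasCls T s) (hm : ∀ f ∈ s, Monic f)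
    {p : F[X]} {e : ℕ} (hp : p.Monic) (hi : Irreducible p) (hmem : p ^ e ∈ s)
    (he : Nat.Coprime (Fintype.card F - 1) e) : SurjDet T := by
  classical
  obtain ⟨N, f, hf, hT⟩ := h
  subst hf
  refine surjDet_of_similar ?_ hT
  intro u hu
  obtain ⟨i₀, -, hi₀⟩ := Multiset.mem_map.mp hmem
  have hcop : (Nat.card Fˣ).Coprime e := by
    rwa [Nat.card_eq_fintype_card, Fintype.card_units]
  obtain ⟨a, ha⟩ := (powCoprime hcop).surjective (Units.mk0 u hu)
  obtain ⟨w₀, hw₀⟩ := exists_norm_eq_pow p hp hi e (a : F)
  have hex : ∃ w : AdjoinRoot (f i₀), Algebra.norm F w = u := by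
    rw [hi₀]
    exact ⟨w₀, by rw [hw₀, ← Units.val_pow_eq_pow_val]; exact congrArg Units.val ha⟩
  obtain ⟨w, hw⟩ := hex
  refine ⟨mulModel f (Function.update 1 i₀ w), LinearMap.ext fun v => mulModel_comm f _ v, ?_⟩
  rw [det_mulModel f (fun i => (hm _ (Multiset.mem_map_of_mem _ (Finset.mem_univ_val i))).ne_zero),
    Finset.prod_eq_single i₀]
  · simp [hw]
  · intro j _ hj
    simp [hj]
  · simp

end Calc

end H41
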