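import Mathlib
import Cfsg.Agent.H41.GLClasses

/-! Counting classes of `GL n F` killed by a given exponent. -/

set_option autoImplicit false

open Polynomial

namespace H41

variable {F : Type*} [Field F] [Fintype F] {n : ℕ}

lemma card_classes_pow_eq_one (k : ℕ) :
    Nat.card {C : ConjClasses (GL (Fin n) F) // ∃ g : GL (Fin n) F, ConjClasses.mk g = C ∧ g ^ k = 1} =
      Nat.card {s : EDiv F n // ∀ x ∈ s.1, x.1 ^ x.2 ∣ (X : F[X]) ^ k - 1} := by
  refine (Nat.card_congr (Equiv.subtypeEquiv glClassEquiv fun s => ?_)).symm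
  constructor
  · intro h
    exact ⟨glOfEDiv s, rfl, (pow_eq_one_iff_ediv _ s rfl k).mpr h⟩
  · rintro ⟨g, hg, hk⟩
    exact (pow_eq_one_iff_ediv g s hg k).mp hk

lemma card_classes_orderOf_prime (r : ℕ) (hr : r.Prime) :
    Nat.card {C : ConjClasses (GL (Fin n) F) // ∃ g : GL (Fin n) F, ConjClasses.mk g = C ∧ orderOf g = r} =
      Nat.card {s : EDiv F n // ∀ x ∈ s.1, x.1 ^ x.2 ∣ (X : F[X]) ^ r - 1} - 1 := by
  classical
  haveI : Fact r.Prime := ⟨hr⟩
  rw [← card_classes_pow_eq_one]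
  have key : {C : ConjClasses (GL (Fin n) F) | ∃ g : GL (Fin n) F, ConjClasses.mk g = C ∧ orderOf g = r} =
      {C : ConjClasses (GL (Fin n) F) | ∃ g : GL (Fin n) F, ConjClasses.mk g = C ∧ g ^ r = 1} \ {ConjClasses.mk 1} := by
    ext C
    constructor
    · rintro ⟨g, rfl, hg⟩
      refine ⟨⟨g, rfl, hg ▸ pow_orderOf_eq_one g⟩, ?_⟩
      intro h
      have h1 : g = 1 := (isConj_one_right.mp (ConjClasses.mk_eq_mk_iff_isConj.mp h).symm).symm ▸ rfl
      rw [h1, orderOf_one] at hg
      exact hr.ne_one hg.symm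
    · rintro ⟨⟨g, rfl, hg⟩, hne⟩
      refine ⟨g, rfl, orderOf_eq_prime hg ?_⟩
      rintro rfl
      exact hne rfl
  rw [← Set.coe_setOf, ← Set.coe_setOf, Nat.card_coe_set_eq, Nat.card_coe_set_eq, key]
  exact Set.ncard_sdiff_singleton_of_mem ⟨1, rfl, one_pow r⟩

omit [Fintype F] in
lemma mem_normalizedFactors_poly [DecidableEq F] {G f : F[X]} (hG : G ≠ 0) :
    f ∈ UniqueFactorizationMonoid.normalizedFactors G ↔ f.Monic ∧ Irreducible f ∧ f ∣ G := by
  constructor
  · intro h
    have hi := UniqueFactorizationMonoid.irreducible_of_normalized_factor _ h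
    refine ⟨?_, hi, UniqueFactorizationMonoid.dvd_of_mem_normalizedFactors h⟩
    rw [← UniqueFactorizationMonoid.normalize_normalized_factor _ h]
    exact Polynomial.monic_normalize hi.ne_zero
  · rintro ⟨hm, hf, hd⟩
    obtain ⟨g, hg, hfg⟩ := UniqueFactorizationMonoid.exists_mem_normalizedFactors_of_dvd hG hf hd
    have hgi := UniqueFactorizationMonoid.irreducible_of_normalized_factor _ hg
    have hgm : g.Monic := by
      rw [← UniqueFactorizationMonoid.normalize_normalized_factor _ hg]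
      exact Polynomial.monic_normalize hgi.ne_zero
    rwa [Polynomial.eq_of_monic_of_associated hm hgm hfg]

lemma dvd_card_pow_sub_one_iff (r d : ℕ) :
    r ∣ Fintype.card F ^ d - 1 ↔ ((Fintype.card F : ℕ) : ZMod r) ^ d = 1 := by
  have h : 1 ≤ Fintype.card F ^ d := Nat.one_le_pow _ _ Fintype.card_pos
  rw [← ZMod.natCast_eq_zero_iff, Nat.cast_sub h, sub_eq_zero, Nat.cast_pow, Nat.cast_one]

end H41
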