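import Cfsg.Agent.H41.CommFactor

/-!
Chains and closed classes: assembling commutators from blocks.
-/

set_option autoImplicit false

open Polynomial

namespace H41

namespace Calc

variable {F : Type*} [Field F]

/-- Determinant of a class. -/
noncomputable def cdet (s : Multiset F[X]) : F := (s.map fun f => (-1) ^ f.natDegree * f.coeff 0).prod

@[simp] lemma cdet_zero : cdet (0 : Multiset F[X]) = 1 := by simp [cdet]

lemma cdet_add (s t : Multiset F[X]) : cdet (s + t) = cdet s * cdet t := by simp [cdet]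

lemma cdet_cons (f : F[X]) (s : Multiset F[X]) : cdet (f ::ₘ s) = cdet {f} * cdet s := by
  rw [← Multiset.singleton_add, cdet_add]

lemma cdet_lin (a : F) : cdet {X - C a} = a := by
  simp [cdet]

lemma cdet_mul {f g : F[X]} (hf : f.Monic) (hg : g.Monic) : cdet {f * g} = cdet {f} * cdet {g} := by
  simp only [cdet, Multiset.map_singleton, Multiset.prod_singleton, natDegree_mul hf.ne_zero hg.ne_zero,
    mul_coeff_zero, pow_add]
  ring

/-- All members are monic with nonzero constant term. -/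
def Good (s : Multiset F[X]) : Prop := ∀ f ∈ s, Monic f ∧ f.coeff 0 ≠ 0

lemma Good.add {s t : Multiset F[X]} (hs : Good s) (ht : Good t) : Good (s + t) := fun f hf =>
  (Multiset.mem_add.mp hf).elim (hs f) (ht f)

lemma Good.mono {s t : Multiset F[X]} (ht : Good t) (h : s ≤ t) : Good s := fun f hf =>
  ht f (Multiset.mem_of_le h hf)

lemma good_lin {a : F} (ha : a ≠ 0) : Good ({X - C a} : Multiset F[X]) := fun f hf => by
  rw [Multiset.mem_singleton] at hf
  subst hf
  exact ⟨monic_X_sub_C a, by simpa using ha⟩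

lemma Good.cdet_ne_zero {s : Multiset F[X]} (hs : Good s) : cdet s ≠ 0 := by
  refine Multiset.prod_ne_zero fun h => ?_
  obtain ⟨f, hf, h0⟩ := Multiset.mem_map.mp h
  exact mul_ne_zero (pow_ne_zero _ (neg_ne_zero.mpr one_ne_zero)) (hs f hf).2 h0

lemma Good.monic {s : Multiset F[X]} (hs : Good s) : ∀ f ∈ s, Monic f := fun f hf => (hs f hf).1

lemma hasCls_det {V : Type*} [AddCommGroup V] [Module F V] {T : Module.End F V} {s : Multiset F[X]}
    (h : HasCls T s) (hs : Good s) : LinearMap.det T = cdet s := h.det hs.monic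

lemma F2.split_left {w s t : Multiset F[X]} {f g : F[X]} (hf : f.Monic) (hg : g.Monic) (hc : IsCoprime f g)
    (h : F2 (f * g ::ₘ w) s t) : F2 (f ::ₘ g ::ₘ w) s t :=
  h.of_imp fun _ _ hN => hasCls_merge hf hg hc w hN

/-- The commutant of the class has every determinant. -/
def SurjCls (U : Multiset F[X]) : Prop :=
  ∀ (N : ℕ) (f : Fin N → F[X]), Finset.univ.val.map f = U → SurjDet (modelEnd f)

lemma SurjCls.surjDet {V : Type*} [AddCommGroup V] [Module F V] {T : Module.End F V} {U : Multiset F[X]}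
    (h : SurjCls U) (hT : HasCls T U) : SurjDet T := by
  obtain ⟨N, f, hf, hs⟩ := hT
  exact surjDet_of_similar (h N f hf) hs

variable [Fintype F]

lemma surjCls_of_mem {U : Multiset F[X]} (hU : Good U) {p : F[X]} {e : ℕ} (hp : p.Monic) (hi : Irreducible p)
    (hmem : p ^ e ∈ U) (he : Nat.Coprime (Fintype.card F - 1) e) : SurjCls U :=
  fun _ _ hf => surjDet_of_mem (hasCls_model hf) hU.monic hp hi hmem he

lemma surjCls_of_lin {U : Multiset F[X]} (hU : Good U) {a : F} (hmem : X - C a ∈ U) : SurjCls U :=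
  surjCls_of_mem hU (monic_X_sub_C a) (irreducible_X_sub_C a) (e := 1) (by rwa [pow_one]) (Nat.coprime_one_right _)

lemma SurjCls.add_right {U U' : Multiset F[X]} (h : SurjCls U) (hU' : Good U') : SurjCls (U + U') := by
  intro N f hf
  obtain ⟨A, a, ha⟩ := exists_hasCls_model U
  obtain ⟨B, b, hb⟩ := exists_hasCls_model U'
  refine surjDet_of_similar ?_ ((hasCls_model hf).unique (ha.prod hb))
  haveI : FiniteDimensional F (Π i, AdjoinRoot (b i)) := hb.finiteDimensional hU'.monic
  haveI : Module.Free F (Π i, AdjoinRoot (a i)) := Module.Free.of_divisionRing F _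
  intro u hu
  obtain ⟨z, hz, hzd⟩ := h.surjDet ha u hu
  by_cases hfin : FiniteDimensional F (Π i, AdjoinRoot (a i))
  · refine ⟨z.prodMap 1, LinearMap.ext fun v => Prod.ext ?_ rfl, ?_⟩
    · exact LinearMap.congr_fun hz v.1
    · rw [LinearMap.det_prodMap, hzd, map_one, mul_one]
  · refine ⟨1, by simp, ?_⟩
    rw [map_one]
    have : LinearMap.det z = 1 := LinearMap.det_eq_one_of_not_module_finite hfin z
    exact this.symm.trans hzd

/-- A class `w` is a quotient of two copies of one class of determinant `δ`. -/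
def Closed (w : Multiset F[X]) (δ : F) : Prop :=
  ∃ U, Good U ∧ cdet U = δ ∧ SurjCls U ∧ F2 w U U

lemma Closed.add {w w' : Multiset F[X]} {δ δ' : F} (h : Closed w δ) (h' : Closed w' δ') :
    Closed (w + w') (δ * δ') := by
  obtain ⟨U, hU, hd, hs, hF⟩ := h
  obtain ⟨U', hU', hd', -, hF'⟩ := h'
  exact ⟨U + U', hU.add hU', by rw [cdet_add, hd, hd'], hs.add_right hU', hF.add hF'⟩

lemma Closed.isComm {V : Type*} [AddCommGroup V] [Module F V] [FiniteDimensional F V] {g : Module.End F V}
    {w : Multiset F[X]} (h : Closed w 1) (hg : HasCls g w) : IsComm g := by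
  obtain ⟨U, hU, hd, hs, hF⟩ := h
  exact (hF.fac hg).isComm (fun y hy => hs.surjDet hy) fun y hy => by rw [hasCls_det hy hU, hd]

lemma Closed.split {w : Multiset F[X]} {δ : F} {f g : F[X]} (hf : f.Monic) (hg : g.Monic) (hc : IsCoprime f g)
    (h : Closed (f * g ::ₘ w) δ) : Closed (f ::ₘ g ::ₘ w) δ := by
  obtain ⟨U, hU, hd, hs, hF⟩ := h
  exact ⟨U, hU, hd, hs, hF.split_left hf hg hc⟩

/-- A chain from node `a` to node `c` with internal determinant `δ`. -/
def Chain (w : Multiset F[X]) (a c δ : F) : Prop :=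
  ∃ U, Good U ∧ cdet U = δ ∧ F2 w ({X - C c} + U) ({X - C a} + U)

lemma Chain.comp {w w' : Multiset F[X]} {a b c δ δ' : F} (hb : b ≠ 0) (h : Chain w a b δ)
    (h' : Chain w' b c δ') : Chain (w + w') a c (δ * b * δ') := by
  obtain ⟨U, hU, hd, hF⟩ := h
  obtain ⟨U', hU', hd', hF'⟩ := h'
  refine ⟨U + {X - C b} + U', (hU.add (good_lin hb)).add hU', by rw [cdet_add, cdet_add, cdet_lin, hd, hd'], ?_⟩
  have := hF.add hF'
  convert this using 1
  · abel
  · abel

lemma Chain.close {w : Multiset F[X]} {a δ : F} (ha : a ≠ 0) (h : Chain w a a δ) : Closed w (a * δ) := by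
  obtain ⟨U, hU, hd, hF⟩ := h
  refine ⟨{X - C a} + U, (good_lin ha).add hU, by rw [cdet_add, cdet_lin, hd], ?_, hF⟩
  exact surjCls_of_lin ((good_lin ha).add hU) (Multiset.mem_add.mpr (Or.inl (Multiset.mem_singleton_self _)))

omit [Fintype F] in
lemma chain_lin {f : F[X]} (hf : f.Monic) (h1 : f.natDegree = 1) {a : F} (ha : a ≠ 0) :
    Chain {f} a (a * cdet {f}) 1 := by
  classical
  refine ⟨0, fun x hx => absurd hx (Multiset.notMem_zero x), cdet_zero, ?_⟩
  rw [add_zero, add_zero]
  have hfX : f = X - C (cdet {f}) := by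
    conv_lhs => rw [hf.eq_X_add_C h1]
    simp [cdet, h1]
  set d := cdet {f}
  rw [hfX]
  refine F2.of_fac (hasCls_smul_self d) ⟨a • LinearMap.id, (a * d) • LinearMap.id, hasCls_smul_self a,
    hasCls_smul_self (a * d), ?_⟩
  refine LinearMap.ext fun v => ?_
  simp only [Module.End.mul_apply, LinearMap.smul_apply, LinearMap.id_apply, smul_eq_mul]
  ring

omit [Fintype F] in
lemma chain_cyclic {f s : F[X]} (hf : f.Monic) (hf0 : f.coeff 0 ≠ 0) (hs : s.Monic) (hs0 : s.coeff 0 ≠ 0)
    (hd : f.natDegree = s.natDegree + 1) (hj : 0 < s.natDegree) {a : F} (ha : a ≠ 0) (hsa : s.eval a ≠ 0)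
    (hsc : s.eval (a * cdet {f}) ≠ 0) : Chain {f} a (a * cdet {f}) (cdet {s}) := by
  have hdf : cdet {f} ≠ 0 := by simp [cdet, hf0]
  refine ⟨{s}, fun x hx => by rw [Multiset.mem_singleton] at hx; exact hx ▸ ⟨hs, hs0⟩, rfl, ?_⟩
  have := F2.cyclic hf hs hd hj hs0 ha (mul_ne_zero ha hdf) hsc hsa (by
    rw [mul_div_cancel_left₀ _ ha]
    simp only [cdet, Multiset.map_singleton, Multiset.prod_singleton, hd, pow_succ]
    have h1 : ((-1 : F) ^ s.natDegree) * (-1) ^ s.natDegree = 1 := by rw [← mul_pow]; simp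
    linear_combination (-f.coeff 0) * h1)
  rwa [Multiset.singleton_add, Multiset.singleton_add]

/-- A quadratic block with chosen inner eigenvalue. -/
lemma chain_quad {f : F[X]} (hf : f.Monic) (hf0 : f.coeff 0 ≠ 0) (h2 : f.natDegree = 2) {a c : F} (ha : a ≠ 0)
    (hc : c ≠ 0) (hca : c ≠ a) (hcd : c ≠ a * cdet {f}) : Chain {f} a (a * cdet {f}) c := by
  have := chain_cyclic hf hf0 (monic_X_sub_C c) (by simpa using hc) (by rw [natDegree_X_sub_C, h2])
    (by rw [natDegree_X_sub_C]; exact one_pos) ha (by simpa [sub_eq_zero] using hca.symm)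
    (by simpa [sub_eq_zero] using hcd.symm)
  rwa [cdet_lin] at this

/-- Large blocks take any inner determinant. -/
lemma chain_big {f : F[X]} (hf : f.Monic) (hf0 : f.coeff 0 ≠ 0) (h3 : 3 ≤ f.natDegree) {a δ : F} (ha : a ≠ 0)
    (hδ : δ ≠ 0) : Chain {f} a (a * cdet {f}) δ := by
  classical
  obtain ⟨k, hk⟩ : ∃ k, f.natDegree = k + 3 := ⟨f.natDegree - 3, by omega⟩
  have hdf : cdet {f} ≠ 0 := by simp [cdet, hf0]
  set j := k + 2 with hj
  set b := a * cdet {f}
  have hb : b ≠ 0 := mul_ne_zero ha hdf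
  let c₀ := (-1 : F) ^ j * δ
  let bad : Finset F := {-(a ^ j + c₀) / a, -(b ^ j + c₀) / b}
  have hbad : bad.card < Fintype.card F := by
    rcases Nat.lt_or_ge 2 (Fintype.card F) with h | h
    · exact lt_of_le_of_lt (Finset.card_le_two) h
    · have h2 : Fintype.card F = 2 := le_antisymm h Fintype.one_lt_card
      have hone : ∀ x : F, x ≠ 0 → x = 1 := fun x hx => by
        have := FiniteField.pow_card_sub_one_eq_one x hx
        rwa [h2, pow_one] at this
      have : bad = {-(a ^ j + c₀) / a} := by simp [bad, hone a ha, hone b hb]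
      rw [this, Finset.card_singleton, h2]; norm_num
  obtain ⟨e, -, he'⟩ := Finset.exists_mem_notMem_of_card_lt_card (t := (Finset.univ : Finset F)) (s := bad)
    (by rwa [Finset.card_univ])
  simp only [bad, Finset.mem_insert, Finset.mem_singleton, not_or] at he'
  let s : F[X] := X ^ j + (C e * X + C c₀)
  have hdeg : (C e * X + C c₀).degree < ((j : ℕ) : WithBot ℕ) :=
    (degree_linear_le).trans_lt (by exact_mod_cast (show 1 < j by omega))
  have hs : s.Monic := monic_X_pow_add hdeg
  have hsd : s.natDegree = j :=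
    natDegree_eq_of_degree_eq_some (by
      rw [show s = X ^ j + (C e * X + C c₀) from rfl, degree_add_eq_left_of_degree_lt (by rwa [degree_X_pow]), degree_X_pow])
  have hs0 : s.coeff 0 = c₀ := by simp [s, hj]
  have hev : ∀ x, s.eval x = x ^ j + (e * x + c₀) := fun x => by simp [s]
  have := chain_cyclic hf hf0 hs (by rw [hs0]; exact mul_ne_zero (by simp) hδ) (by omega) (by omega) ha
    (by rw [hev]; intro h; exact he'.1 (by rw [eq_div_iff ha]; linear_combination h))
    (by rw [hev]; intro h; exact he'.2 (by rw [eq_div_iff hb]; linear_combination h))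
  have hcd : cdet {s} = δ := by
    simp only [cdet, Multiset.map_singleton, Multiset.prod_singleton, hsd, hs0, c₀, ← mul_assoc, ← mul_pow]
    simp
  rwa [hcd] at this

/-- Blocks that fit into any chain. -/
def Linkable (f : F[X]) : Prop :=
  f.natDegree ≠ 2 ∨ 4 ≤ Fintype.card F ∨ (Fintype.card F = 3 ∧ cdet {f} = 1)

omit [Fintype F] in
lemma exists_avoid [Fintype F] (T : Finset F) (h : T.card + 1 < Fintype.card F) : ∃ c : F, c ≠ 0 ∧ c ∉ T := by
  classical
  obtain ⟨c, -, hc⟩ := Finset.exists_mem_notMem_of_card_lt_card (t := Finset.univ) (s := insert 0 T)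
    (by rw [Finset.card_univ]; exact lt_of_le_of_lt (Finset.card_insert_le _ _) h)
  simp only [Finset.mem_insert, not_or] at hc
  exact ⟨c, hc.1, hc.2⟩

lemma chain_single {f : F[X]} (hf : f.Monic) (hf0 : f.coeff 0 ≠ 0) (hpos : 0 < f.natDegree) (hl : Linkable f)
    {a : F} (ha : a ≠ 0) : ∃ δ, δ ≠ 0 ∧ Chain {f} a (a * cdet {f}) δ := by
  classical
  rcases Nat.lt_or_ge f.natDegree 2 with h | h
  · exact ⟨1, one_ne_zero, chain_lin hf (by omega) ha⟩
  rcases eq_or_lt_of_le h with h2 | h3
  · obtain ⟨c, hc0, hc⟩ : ∃ c : F, c ≠ 0 ∧ c ∉ ({a, a * cdet {f}} : Finset F) := by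
      rcases hl with h' | h' | ⟨h', hd⟩
      · exact absurd h2.symm h'
      · refine exists_avoid _ ?_
        have := Finset.card_le_two (a := a) (b := a * cdet {f})
        omega
      · rw [hd, mul_one, Finset.insert_eq_of_mem (Finset.mem_singleton_self a)]
        exact exists_avoid _ (by rw [Finset.card_singleton, h']; norm_num)
    simp only [Finset.mem_insert, Finset.mem_singleton, not_or] at hc
    exact ⟨c, hc0, chain_quad hf hf0 h2.symm ha hc0 hc.1 hc.2⟩
  · exact ⟨1, one_ne_zero, chain_big hf hf0 h3 ha one_ne_zero⟩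

/-- Admissible blocks. -/
def Blocks (w : Multiset F[X]) : Prop :=
  ∀ f ∈ w, Monic f ∧ f.coeff 0 ≠ 0 ∧ 0 < f.natDegree

omit [Fintype F] in
lemma Blocks.good {w : Multiset F[X]} (h : Blocks w) : Good w := fun f hf => ⟨(h f hf).1, (h f hf).2.1⟩

lemma chain_multi (w : Multiset F[X]) (hw0 : w ≠ 0) (hb : Blocks w) (hl : ∀ f ∈ w, Linkable f) {a : F}
    (ha : a ≠ 0) : ∃ δ, δ ≠ 0 ∧ Chain w a (a * cdet w) δ := by
  induction w using Multiset.induction generalizing a with
  | empty => exact absurd rfl hw0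
  | cons f w ih =>
    obtain ⟨hf, hf0, hfd⟩ := hb f (Multiset.mem_cons_self f w)
    obtain ⟨δ, hδ, h⟩ := chain_single hf hf0 hfd (hl f (Multiset.mem_cons_self f w)) ha
    rcases eq_or_ne w 0 with rfl | hw
    · exact ⟨δ, hδ, h⟩
    have hb' : Blocks w := fun g hg => hb g (Multiset.mem_cons_of_mem hg)
    have hne : a * cdet {f} ≠ 0 := mul_ne_zero ha (by simp [cdet, hf0])
    obtain ⟨δ', hδ', h'⟩ := ih hw hb' (fun g hg => hl g (Multiset.mem_cons_of_mem hg)) hne
    refine ⟨δ * (a * cdet {f}) * δ', mul_ne_zero (mul_ne_zero hδ hne) hδ', ?_⟩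
    rw [← Multiset.singleton_add, cdet_add, ← mul_assoc]
    exact h.comp hne h'

lemma closed_linkable (w : Multiset F[X]) (hw0 : w ≠ 0) (hb : Blocks w) (hl : ∀ f ∈ w, Linkable f)
    (hd : cdet w = 1) : ∃ δ, δ ≠ 0 ∧ Closed w δ := by
  obtain ⟨δ, hδ, h⟩ := chain_multi w hw0 hb hl (one_ne_zero (α := F))
  rw [hd, mul_one] at h
  exact ⟨1 * δ, by simpa using hδ, h.close one_ne_zero⟩

/-- With a large block every determinant occurs. -/
lemma closed_big (w : Multiset F[X]) (hb : Blocks w) (hd : cdet w = 1) (hl : ∀ f ∈ w, Linkable f)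
    (h3 : ∃ f ∈ w, 3 ≤ f.natDegree) {δ : F} (hδ : δ ≠ 0) : Closed w δ := by
  classical
  obtain ⟨f, hf, hf3⟩ := h3
  obtain ⟨w, rfl⟩ := Multiset.exists_cons_of_mem hf
  obtain ⟨hfm, hf0, -⟩ := hb f hf
  rcases eq_or_ne w 0 with rfl | hw
  · rw [show (f ::ₘ (0 : Multiset F[X])) = {f} from rfl] at hd ⊢
    have := (chain_big hfm hf0 hf3 (one_ne_zero (α := F)) hδ)
    rw [hd, mul_one] at this
    simpa using this.close one_ne_zero
  have hne : cdet {f} ≠ 0 := by simp [cdet, hf0]
  obtain ⟨δ', hδ', h'⟩ := chain_multi w hw (fun g hg => hb g (Multiset.mem_cons_of_mem hg))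
    (fun g hg => hl g (Multiset.mem_cons_of_mem hg)) hne
  have h := chain_big hfm hf0 hf3 (one_ne_zero (α := F)) (δ := δ / (cdet {f} * δ'))
    (div_ne_zero hδ (mul_ne_zero hne hδ'))
  rw [one_mul] at h
  rw [cdet_cons] at hd
  rw [hd] at h'
  have := (h.comp hne h').close one_ne_zero
  rw [Multiset.singleton_add] at this
  convert this using 1
  field_simp

/-- A determinant-one quadratic block is a closed class of every determinant. -/
lemma closed_quad {f : F[X]} (hf : f.Monic) (hf0 : f.coeff 0 ≠ 0) (h2 : f.natDegree = 2) (hd : cdet {f} = 1)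
    {a c : F} (ha : a ≠ 0) (hc : c ≠ 0) (hca : c ≠ a) : Closed {f} (a * c) := by
  have := chain_quad hf hf0 h2 ha hc hca (by rwa [hd, mul_one])
  rw [hd, mul_one] at this
  exact this.close ha

end Calc

end H41
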