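import Cfsg.Agent.H41.CommDiag

/-!
Closed classes of determinant one: general tools and fields with at least four elements.
-/

set_option autoImplicit false

open Polynomial

namespace H41

namespace Calc

variable {F : Type*} [Field F]

/-- Prime power blocks. -/
def Elem (w : Multiset F[X]) : Prop :=
  ∀ f ∈ w, ∃ (p : F[X]) (e : ℕ), p.Monic ∧ Irreducible p ∧ p.coeff 0 ≠ 0 ∧ 0 < e ∧ f = p ^ e

/-- Blocks whose quadratic members are irreducible or squares. -/
def Inv (w : Multiset F[X]) : Prop :=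
  Blocks w ∧ ∀ f ∈ w, f.natDegree = 2 → Irreducible f ∨ ∃ l, f = (X - C l) * (X - C l)

lemma Elem.inv {w : Multiset F[X]} (h : Elem w) : Inv w := by
  refine ⟨fun f hf => ?_, fun f hf h2 => ?_⟩
  · obtain ⟨p, e, hp, hi, h0, he, rfl⟩ := h f hf
    refine ⟨hp.pow e, ?_, ?_⟩
    · rw [coeff_zero_eq_eval_zero, eval_pow, ← coeff_zero_eq_eval_zero]; exact pow_ne_zero _ h0
    · rw [hp.natDegree_pow]; exact Nat.mul_pos he hi.natDegree_pos
  · obtain ⟨p, e, hp, hi, h0, he, rfl⟩ := h f hf
    rw [hp.natDegree_pow] at h2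
    have := hi.natDegree_pos
    rcases Nat.lt_or_ge e 2 with he2 | he2
    · obtain rfl : e = 1 := by omega
      exact Or.inl (by rwa [pow_one])
    · obtain rfl : e = 2 := by nlinarith
      refine Or.inr ⟨-(p.coeff 0), ?_⟩
      conv_lhs => rw [hp.eq_X_add_C (by omega)]
      rw [map_neg, sub_neg_eq_add, sq]

lemma Elem.mono {s t : Multiset F[X]} (ht : Elem t) (h : s ≤ t) : Elem s := fun f hf =>
  ht f (Multiset.mem_of_le h hf)

lemma Inv.mono {s t : Multiset F[X]} (ht : Inv t) (h : s ≤ t) : Inv s :=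
  ⟨fun f hf => ht.1 f (Multiset.mem_of_le h hf), fun f hf => ht.2 f (Multiset.mem_of_le h hf)⟩

lemma blocks_mul {w : Multiset F[X]} {f g : F[X]} (hb : Blocks (f ::ₘ g ::ₘ w)) : Blocks (f * g ::ₘ w) := by
  intro x hx
  rcases Multiset.mem_cons.mp hx with rfl | hx
  · obtain ⟨h1, h2, h3⟩ := hb f (Multiset.mem_cons_self _ _)
    obtain ⟨h4, h5, h6⟩ := hb g (Multiset.mem_cons_of_mem (Multiset.mem_cons_self _ _))
    exact ⟨h1.mul h4, by rw [mul_coeff_zero]; exact mul_ne_zero h2 h5,
      by rw [natDegree_mul h1.ne_zero h4.ne_zero]; omega⟩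
  · exact hb x (Multiset.mem_cons_of_mem (Multiset.mem_cons_of_mem hx))

lemma cdet_merge {w : Multiset F[X]} {f g : F[X]} (hf : f.Monic) (hg : g.Monic) :
    cdet (f * g ::ₘ w) = cdet (f ::ₘ g ::ₘ w) := by
  rw [cdet_cons, cdet_mul hf hg, cdet_cons f, cdet_cons g, mul_assoc]

lemma cdet_replicate (k : ℕ) (f : F[X]) : cdet (Multiset.replicate k f) = cdet {f} ^ k := by
  induction k with
  | zero => simp
  | succ k ih => rw [Multiset.replicate_succ, cdet_cons, ih, pow_succ']

lemma dvd_of_not_coprime {f g : F[X]} (hi : Irreducible f) (h : ¬ IsCoprime f g) : f ∣ g :=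
  not_not.mp fun hd => h (hi.coprime_iff_not_dvd.mpr hd)

lemma eq_of_irreducible_dvd {f g : F[X]} (hf : f.Monic) (hg : g.Monic) (hd : g.natDegree ≤ f.natDegree)
    (h : f ∣ g) : g = f := by
  exact Polynomial.eq_of_monic_of_dvd_of_natDegree_le hf hg h hd

/-- The shape of a family of small blocks without coprime pairs. -/
lemma small_shape [DecidableEq F[X]] {w : Multiset F[X]} (hI : Inv w) (hle : ∀ f ∈ w, f.natDegree ≤ 2) (h2 : ∃ f ∈ w, f.natDegree = 2)
    (hnc : ∀ f ∈ w, f.natDegree = 2 → ∀ g ∈ w.erase f, ¬ IsCoprime f g) :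
    (∃ f : F[X], Irreducible f ∧ f.Monic ∧ f.natDegree = 2 ∧ f.coeff 0 ≠ 0 ∧
      ∃ k, 0 < k ∧ w = Multiset.replicate k f) ∨
    ∃ (l : F) (k m : ℕ), l ≠ 0 ∧ 0 < k ∧
      w = Multiset.replicate k ((X - C l) * (X - C l)) + Multiset.replicate m (X - C l) := by
  obtain ⟨f, hf, hf2⟩ := h2
  rcases hI.2 f hf hf2 with hi | ⟨l, hl⟩
  · left
    have hall : ∀ g ∈ w, g = f := by
      intro g hg
      by_cases hgf : g = f
      · exact hgf
      · have hd := dvd_of_not_coprime hi (hnc f hf hf2 g ((Multiset.mem_erase_of_ne hgf).mpr hg))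
        exact eq_of_irreducible_dvd (hI.1 f hf).1 (hI.1 g hg).1 (hf2 ▸ hle g hg) hd
    exact ⟨f, hi, (hI.1 f hf).1, hf2, (hI.1 f hf).2.1, Multiset.card w, Multiset.card_pos_iff_exists_mem.mpr ⟨f, hf⟩,
      Multiset.eq_replicate_card.mpr hall⟩
  · right
    set S := (X - C l) * (X - C l)
    have hl0 : l ≠ 0 := fun h0 => (hI.1 f hf).2.1 (by rw [hl]; simp [S, h0])
    have hall : ∀ g ∈ w, g = S ∨ g = X - C l := by
      intro g hg
      by_cases hgf : g = f
      · exact Or.inl (hgf.trans hl)
      have hnc' := hnc f hf hf2 g ((Multiset.mem_erase_of_ne hgf).mpr hg)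
      have hroot : (X - C l) ∣ g := by
        by_contra hd
        apply hnc'
        rw [hl]
        have := (irreducible_X_sub_C l).coprime_iff_not_dvd.mpr hd
        exact this.mul_left this
      have hgm := (hI.1 g hg).1
      have hgd := (hI.1 g hg).2.2
      rcases Nat.lt_or_ge g.natDegree 2 with h1 | h1
      · exact Or.inr (eq_of_irreducible_dvd (monic_X_sub_C l) hgm (by rw [natDegree_X_sub_C]; omega) hroot)
      · left
        have hg2 : g.natDegree = 2 := le_antisymm (hle g hg) h1
        rcases hI.2 g hg hg2 with hi | ⟨m, hm⟩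
        · exfalso
          obtain ⟨r, hr⟩ := hroot
          rcases hi.isUnit_or_isUnit hr with hu | hu
          · exact not_isUnit_X_sub_C l hu
          · have hr0 : r ≠ 0 := fun h0 => hgm.ne_zero (by rw [hr, h0, mul_zero])
            have := natDegree_eq_zero_of_isUnit hu
            rw [hr, natDegree_mul (X_sub_C_ne_zero l) hr0, natDegree_X_sub_C, this] at hg2
            omega
        · rw [hm] at hroot
          have := dvd_iff_isRoot.mp hroot
          simp only [IsRoot, eval_mul, eval_sub, eval_X, eval_C, mul_self_eq_zero, sub_eq_zero] at this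
          rw [hm, ← this]
    refine ⟨l, Multiset.count S w, Multiset.count (X - C l) w, hl0, Multiset.count_pos.mpr (hl ▸ hf), ?_⟩
    have hne : S ≠ X - C l := fun h => by
      have := congrArg natDegree h
      rw [natDegree_mul (X_sub_C_ne_zero l) (X_sub_C_ne_zero l), natDegree_X_sub_C] at this
      omega
    refine Multiset.ext.mpr fun g => ?_
    rw [Multiset.count_add]
    by_cases hg1 : g = S
    · subst hg1
      rw [Multiset.count_replicate_self,
        Multiset.count_eq_zero_of_notMem (s := Multiset.replicate _ (X - C l)) fun h => hne (Multiset.eq_of_mem_replicate h),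
        add_zero]
    · rw [Multiset.count_eq_zero_of_notMem (s := Multiset.replicate _ S) fun h => hg1 (Multiset.eq_of_mem_replicate h),
        zero_add]
      by_cases hg2 : g = X - C l
      · subst hg2
        rw [Multiset.count_replicate_self]
      · rw [Multiset.count_eq_zero_of_notMem fun h => hg2 (Multiset.eq_of_mem_replicate h),
          Multiset.count_eq_zero_of_notMem fun h => (hall g h).elim hg1 hg2]

variable [Fintype F]

lemma Linkable.of_deg {f : F[X]} (h : 3 ≤ f.natDegree) : Linkable f := Or.inl (by omega)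

lemma Closed.replicate {w : Multiset F[X]} {δ : F} (h : Closed w δ) :
    ∀ k : ℕ, 0 < k → Closed (k • w) (δ ^ k) := by
  intro k hk
  induction k with
  | zero => omega
  | succ k ih =>
    rcases Nat.eq_zero_or_pos k with rfl | hk'
    · simpa using h
    · rw [succ_nsmul, pow_succ]; exact (ih hk').add h

/-- A coprime pair gives every determinant. -/
lemma closed_merge {w : Multiset F[X]} {f g : F[X]} (hc : IsCoprime f g) (hb : Blocks (f ::ₘ g ::ₘ w))
    (hd : cdet (f ::ₘ g ::ₘ w) = 1) (h3 : 3 ≤ f.natDegree + g.natDegree) (hl : ∀ x ∈ w, Linkable x) {δ : F}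
    (hδ : δ ≠ 0) : Closed (f ::ₘ g ::ₘ w) δ := by
  have hf := (hb f (Multiset.mem_cons_self _ _)).1
  have hg := (hb g (Multiset.mem_cons_of_mem (Multiset.mem_cons_self _ _))).1
  have hdeg : 3 ≤ (f * g).natDegree := by rwa [natDegree_mul hf.ne_zero hg.ne_zero]
  refine (closed_big _ (blocks_mul hb) (by rwa [cdet_merge hf hg]) (fun x hx => ?_)
    ⟨_, Multiset.mem_cons_self _ _, hdeg⟩ hδ).split hf hg hc
  rcases Multiset.mem_cons.mp hx with rfl | hx
  · exact .of_deg hdeg
  · exact hl x hx

omit [Fintype F] in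
lemma exists_sq_ne [Fintype F] (h4 : 4 ≤ Fintype.card F) (T : F) : ∃ a : F, a ≠ 0 ∧ a * a ≠ T := by
  classical
  by_contra hcon
  push Not at hcon
  have hsub : (Finset.univ.erase (0 : F)).card ≤ 2 := by
    by_cases hex : ∃ a : F, a ≠ 0
    · obtain ⟨a, ha⟩ := hex
      refine (Finset.card_le_card (t := {a, -a}) fun x hx => ?_).trans Finset.card_le_two
      have := hcon x (Finset.ne_of_mem_erase hx)
      rw [← hcon a ha, mul_self_eq_mul_self_iff] at this
      simpa using this
    · exact absurd ⟨1, one_ne_zero⟩ hex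
  rw [Finset.card_erase_of_mem (Finset.mem_univ _), Finset.card_univ] at hsub
  omega

omit [Fintype F] in
lemma exists_gamma [Fintype F] (h4 : 4 ≤ Fintype.card F) (h2 : (-1 : F) ≠ 1) :
    ∃ γ : F, γ ≠ 0 ∧ γ ≠ 1 ∧ γ ≠ -1 := by
  classical
  obtain ⟨γ, h0, hγ⟩ := exists_avoid ({1, -1} : Finset F) (by
    have : ({1, -1} : Finset F).card ≤ 2 := Finset.card_le_two
    rcases Nat.lt_or_ge 4 (Fintype.card F) with h | h
    · omega
    · have := Finset.card_le_two (a := (1 : F)) (b := -1)
      omega)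
  simp only [Finset.mem_insert, Finset.mem_singleton, not_or] at hγ
  exact ⟨γ, h0, hγ.1, hγ.2⟩

/-- A determinant-one quadratic block frees the determinant. -/
lemma closed_of_quad (h4 : 4 ≤ Fintype.card F) {f : F[X]} {w : Multiset F[X]} (hb : Blocks (f ::ₘ w))
    (h2 : f.natDegree = 2) (hdf : cdet {f} = 1) (hd : cdet (f ::ₘ w) = 1) : Closed (f ::ₘ w) 1 := by
  obtain ⟨hf, hf0, -⟩ := hb f (Multiset.mem_cons_self _ _)
  rw [cdet_cons, hdf, one_mul] at hd
  have key : ∀ T : F, T ≠ 0 → Closed {f} T := fun T hT => by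
    obtain ⟨a, ha, haT⟩ := exists_sq_ne h4 T
    have := closed_quad hf hf0 h2 hdf ha (div_ne_zero hT ha) (fun h => haT (by rw [div_eq_iff ha] at h; exact h.symm))
    rwa [mul_div_cancel₀ _ ha] at this
  rcases eq_or_ne w 0 with rfl | hw
  · exact key 1 one_ne_zero
  obtain ⟨δ, hδ, h⟩ := closed_linkable w hw (fun g hg => hb g (Multiset.mem_cons_of_mem hg))
    (fun g _ => Or.inr (Or.inl h4)) hd
  have := (key δ⁻¹ (inv_ne_zero hδ)).add h
  rwa [inv_mul_cancel₀ hδ, Multiset.singleton_add] at this

lemma closed_replicate_quad (h4 : 4 ≤ Fintype.card F) {f : F[X]} (hf : f.Monic) (hf0 : f.coeff 0 ≠ 0)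
    (h2 : f.natDegree = 2) {k : ℕ} (hk : 0 < k) (hd : cdet {f} ^ k = 1) (hne : cdet {f} ≠ 1) :
    Closed (Multiset.replicate k f) 1 := by
  set d := cdet {f} with hddef
  have hd0 : d ≠ 0 := by simp [hddef, cdet, hf0]
  by_cases hdd : d * d = 1
  · have hdm : d = -1 := (mul_self_eq_one_iff.mp hdd).resolve_left hne
    have h21 : (-1 : F) ≠ 1 := hdm ▸ hne
    obtain ⟨γ, hγ0, hγ1, hγm⟩ := exists_gamma h4 h21
    obtain ⟨i, rfl⟩ : Even k := by
      rcases Nat.even_or_odd k with h | h
      · exact h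
      · exfalso; rw [hdm, h.neg_one_pow] at hd; exact h21 hd
    have hinv : -γ⁻¹ ≠ 1 ∧ -γ⁻¹ ≠ -1 := by
      constructor
      · intro h; apply hγm; rw [neg_eq_iff_eq_neg, inv_eq_iff_eq_inv] at h; rw [h]; simp
      · intro h; apply hγ1; rw [neg_inj, inv_eq_one] at h; exact h
    have h1 := chain_quad hf hf0 h2 one_ne_zero hγ0 hγ1 (by rwa [one_mul, ← hddef, hdm])
    rw [one_mul, ← hddef, hdm] at h1
    have h1' := chain_quad hf hf0 h2 (a := -1) (c := -γ⁻¹) (by simp) (by simpa using hγ0) hinv.2
      (by rw [← hddef, hdm, neg_one_mul, neg_neg]; exact hinv.1)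
    rw [← hddef, hdm, neg_one_mul, neg_neg] at h1'
    have h3 := (h1.comp (by simp) h1').close one_ne_zero
    have h4' := h3.replicate i (by omega)
    have e : i • ({f} + {f} : Multiset F[X]) = Multiset.replicate (i + i) f := by
      rw [nsmul_add, Multiset.nsmul_singleton, ← Multiset.replicate_add]
    rw [e] at h4'
    convert h4' using 1
    field_simp
    simp
  · have key : ∀ k, 0 < k → ∃ δ, δ * d ^ (2 * k) = d ^ (k * k) ∧ Chain (Multiset.replicate k f) 1 (d ^ k) δ := by
      intro k hk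
      induction k with
      | zero => omega
      | succ k ih =>
        have hP : (d : F) ^ k ≠ 0 := pow_ne_zero _ hd0
        have hstep := chain_quad hf hf0 h2 hP (div_ne_zero hP hd0)
          (fun h => hne (mul_left_cancel₀ hP (by rw [div_eq_iff hd0] at h; rw [mul_one]; exact h.symm)))
          (fun h => hdd (mul_left_cancel₀ hP (by
            rw [div_eq_iff hd0, ← hddef, mul_assoc] at h
            rw [mul_one]; exact h.symm)))
        rw [← hddef, ← pow_succ] at hstep
        rcases Nat.eq_zero_or_pos k with rfl | hk'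
        · refine ⟨d ^ 0 / d, ?_, by simpa using hstep⟩
          field_simp
          ring
        · obtain ⟨δ, hδ, h⟩ := ih hk'
          refine ⟨δ * d ^ k * (d ^ k / d), ?_, ?_⟩
          · calc δ * d ^ k * (d ^ k / d) * d ^ (2 * (k + 1)) = (δ * d ^ (2 * k)) * (d ^ (2 * k + 1)) := by
                  field_simp; ring
              _ = d ^ ((k + 1) * (k + 1)) := by rw [hδ, ← pow_add]; congr 1; ring
          · rw [Multiset.replicate_succ, ← Multiset.singleton_add, add_comm]
            exact h.comp hP hstep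
    obtain ⟨δ, hδ, h⟩ := key k hk
    rw [hd] at h
    rw [pow_mul', hd, one_pow, mul_one, pow_mul, hd, one_pow] at hδ
    subst hδ
    simpa using h.close one_ne_zero

/-- Partial products along a geometric node sequence. -/
def nodeProd (a l : F) (n : ℕ) : F := ∏ t ∈ Finset.range n, a * l ^ t

omit [Fintype F] in
lemma nodeProd_add (a l : F) (i j : ℕ) : nodeProd a l (i + j) = nodeProd a l i * nodeProd (a * l ^ i) l j := by
  simp only [nodeProd, Finset.prod_range_add]
  congr 1
  exact Finset.prod_congr rfl fun t _ => by rw [pow_add, mul_assoc]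

lemma chain_jordan_aux {l : F} (hl : l ≠ 0) (hl1 : l ≠ 1) :
    ∀ (k m : ℕ) (a : F), 0 < k + m → a ≠ 0 → ∃ δ,
      δ * a = nodeProd a l (2 * k + m) ∧
      Chain (Multiset.replicate k ((X - C l) * (X - C l)) + Multiset.replicate m (X - C l)) a (a * l ^ (2 * k + m)) δ := by
  intro k
  induction k with
  | zero =>
    intro m
    induction m with
    | zero => intro a h _; omega
    | succ m ih =>
      intro a _ ha
      have h1 := chain_lin (monic_X_sub_C l) (natDegree_X_sub_C l) ha
      rw [cdet_lin] at h1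
      rcases Nat.eq_zero_or_pos m with rfl | hm
      · exact ⟨1, by simp [nodeProd], by simpa using h1⟩
      · obtain ⟨δ, hδ, h⟩ := ih (a * l) (by omega) (mul_ne_zero ha hl)
        refine ⟨1 * (a * l) * δ, ?_, ?_⟩
        · rw [show 2 * 0 + (m + 1) = 1 + (2 * 0 + m) by ring, nodeProd_add, pow_one, ← hδ]
          simp [nodeProd]; ring
        · have e : a * l ^ (2 * 0 + (m + 1)) = a * l * l ^ (2 * 0 + m) := by ring
          rw [e, Multiset.replicate_succ, ← Multiset.singleton_add]
          simp only [Multiset.replicate_zero, zero_add] at h ⊢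
          exact h1.comp (mul_ne_zero ha hl) h
  | succ k ih =>
    intro m a _ ha
    have hS : ((X - C l) * (X - C l) : F[X]).Monic := (monic_X_sub_C l).mul (monic_X_sub_C l)
    have hc : cdet {(X - C l) * (X - C l)} = l * l := by
      rw [cdet_mul (monic_X_sub_C l) (monic_X_sub_C l), cdet_lin]
    have h1 := chain_quad hS (by simp [hl]) (by
      rw [natDegree_mul (X_sub_C_ne_zero l) (X_sub_C_ne_zero l), natDegree_X_sub_C]) ha (mul_ne_zero ha hl)
      (fun h => hl1 (mul_left_cancel₀ ha (h.trans (mul_one a).symm)))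
      (fun h => hl1 (mul_left_cancel₀ (mul_ne_zero ha hl) (by rw [mul_one, mul_assoc, ← hc]; exact h.symm)))
    rw [hc] at h1
    rcases Nat.eq_zero_or_pos (k + m) with h0 | h0
    · obtain ⟨rfl, rfl⟩ : k = 0 ∧ m = 0 := ⟨by omega, by omega⟩
      refine ⟨a * l, by simp [nodeProd, Finset.prod_range_succ]; ring, ?_⟩
      simpa [pow_two, mul_assoc] using h1
    · obtain ⟨δ, hδ, h⟩ := ih m (a * (l * l)) h0 (mul_ne_zero ha (mul_ne_zero hl hl))
      refine ⟨a * l * (a * (l * l)) * δ, ?_, ?_⟩
      · rw [show 2 * (k + 1) + m = 2 + (2 * k + m) by ring, nodeProd_add, pow_two, ← hδ]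
        simp [nodeProd, Finset.prod_range_succ]; ring
      · have e : a * l ^ (2 * (k + 1) + m) = a * (l * l) * l ^ (2 * k + m) := by ring
        rw [e, Multiset.replicate_succ, ← Multiset.singleton_add, add_assoc]
        exact h1.comp (mul_ne_zero ha (mul_ne_zero hl hl)) h

lemma closed_jordan {l : F} (hl : l ≠ 0) (hl2 : l * l ≠ 1) {k m : ℕ} (hk : 0 < k) (hd : l ^ (2 * k + m) = 1) :
    Closed (Multiset.replicate k ((X - C l) * (X - C l)) + Multiset.replicate m (X - C l)) 1 := by
  have hl1 : l ≠ 1 := fun h => hl2 (by rw [h, one_mul])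
  set n := 2 * k + m
  have hsq : nodeProd 1 l n * nodeProd 1 l n = 1 := by
    simp only [nodeProd, one_mul]
    conv_lhs => arg 2; rw [← Finset.prod_range_reflect]
    rw [← Finset.prod_mul_distrib]
    have : ∏ t ∈ Finset.range n, (l ^ t * l ^ (n - 1 - t)) = (l ^ (n - 1)) ^ n := by
      rw [Finset.prod_congr rfl fun t ht => by
        rw [← pow_add, show t + (n - 1 - t) = n - 1 by rw [Finset.mem_range] at ht; omega],
        Finset.prod_const, Finset.card_range]
    rw [this, ← pow_mul, mul_comm, pow_mul, hd, one_pow]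
  rcases mul_self_eq_one_iff.mp hsq with h1 | h1
  · obtain ⟨δ, hδ, h⟩ := chain_jordan_aux hl hl1 k m 1 (by omega) one_ne_zero
    rw [one_mul, hd] at h
    rw [mul_one, h1] at hδ
    subst hδ
    simpa using h.close one_ne_zero
  · obtain ⟨k, rfl⟩ : ∃ k', k = k' + 1 := ⟨k - 1, by omega⟩
    have hS : ((X - C l) * (X - C l) : F[X]).Monic := (monic_X_sub_C l).mul (monic_X_sub_C l)
    have hc : cdet {(X - C l) * (X - C l)} = l * l := by
      rw [cdet_mul (monic_X_sub_C l) (monic_X_sub_C l), cdet_lin]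
    have hfirst := chain_quad hS (by simp [hl]) (by
      rw [natDegree_mul (X_sub_C_ne_zero l) (X_sub_C_ne_zero l), natDegree_X_sub_C]) one_ne_zero (c := -l)
      (neg_ne_zero.mpr hl)
      (fun h => hl2 (by rw [neg_eq_iff_eq_neg] at h; rw [h]; ring))
      (fun h => hl2 (by
        rw [hc, one_mul] at h
        have : l = -1 := mul_left_cancel₀ hl (by linear_combination -h)
        rw [this]; ring))
    rw [hc, one_mul] at hfirst
    rcases Nat.eq_zero_or_pos (k + m) with h0 | h0
    · exfalso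
      obtain ⟨rfl, rfl⟩ : k = 0 ∧ m = 0 := ⟨by omega, by omega⟩
      apply hl2
      simpa [n, pow_two] using hd
    · obtain ⟨δ, hδ, h⟩ := chain_jordan_aux hl hl1 k m (l * l) h0 (mul_ne_zero hl hl)
      have e : l * l * l ^ (2 * k + m) = 1 := by rw [← hd, show n = 2 * (k + 1) + m from rfl]; ring
      rw [e] at h
      have h3 := (hfirst.comp (mul_ne_zero hl hl) h).close one_ne_zero
      rw [Multiset.replicate_succ, ← Multiset.singleton_add, add_assoc]
      convert h3 using 1
      have h5 : nodeProd 1 l n = l * (nodeProd (l * l) l (2 * k + m)) := by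
        rw [show n = 2 + (2 * k + m) by omega, nodeProd_add, one_mul, pow_two]
        simp [nodeProd, Finset.prod_range_succ]
      rw [h5, ← hδ] at h1
      linear_combination h1

/-- All classes of determinant one over fields with at least four elements. -/
theorem closed_four (h4 : 4 ≤ Fintype.card F) {w : Multiset F[X]} (hw : w ≠ 0) (hI : Inv w) (hd : cdet w = 1) :
    Closed w 1 := by
  classical
  have hlink : ∀ f : F[X], Linkable f := fun _ => Or.inr (Or.inl h4)
  by_cases h3 : ∃ f ∈ w, 3 ≤ f.natDegree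
  · exact closed_big w hI.1 hd (fun f _ => hlink f) h3 one_ne_zero
  push Not at h3
  by_cases h2 : ∃ f ∈ w, f.natDegree = 2
  swap
  · push Not at h2
    exact Closed.of_diag w hw (fun f hf => ⟨(hI.1 f hf).1, by
      have := (hI.1 f hf).2.2; have := h3 f hf; have := h2 f hf; omega⟩) hd
  by_cases hnc : ∀ f ∈ w, f.natDegree = 2 → ∀ g ∈ w.erase f, ¬ IsCoprime f g
  swap
  · push Not at hnc
    obtain ⟨f, hf, hf2, g, hg, hc⟩ := hnc
    obtain ⟨w', hw'⟩ := Multiset.exists_cons_of_mem hg
    have hwe : w = f ::ₘ g ::ₘ w' := by rw [← hw', Multiset.cons_erase hf]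
    have hb := hI.1
    rw [hwe] at hd hb ⊢
    exact closed_merge hc hb hd (by
      have := (hI.1 g (Multiset.mem_of_mem_erase hg)).2.2; omega) (fun x _ => hlink x) one_ne_zero
  rcases small_shape hI (fun f hf => Nat.le_of_lt_succ (h3 f hf)) h2 hnc with
    ⟨f, -, hfm, hf2, hf0, k, hk, rfl⟩ | ⟨l, k, m, hl, hk, rfl⟩
  · rw [cdet_replicate] at hd
    by_cases hdf : cdet {f} = 1
    · obtain ⟨k, rfl⟩ : ∃ k', k = k' + 1 := ⟨k - 1, by omega⟩
      rw [Multiset.replicate_succ] at *
      exact closed_of_quad h4 hI.1 hf2 hdf (by rw [cdet_cons, cdet_replicate, hdf, one_pow, one_mul])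
    · exact closed_replicate_quad h4 hfm hf0 hf2 hk hd hdf
  · set S := (X - C l) * (X - C l)
    have hc : cdet {S} = l * l := by rw [cdet_mul (monic_X_sub_C l) (monic_X_sub_C l), cdet_lin]
    have hd' : l ^ (2 * k + m) = 1 := by
      rw [← hd, cdet_add, cdet_replicate, cdet_replicate, hc, cdet_lin]; ring
    by_cases hl2 : l * l = 1
    · obtain ⟨k, rfl⟩ : ∃ k', k = k' + 1 := ⟨k - 1, by omega⟩
      rw [Multiset.replicate_succ, Multiset.cons_add] at hI hd ⊢
      refine closed_of_quad h4 hI.1 ?_ (by rw [hc, hl2]) hd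
      rw [natDegree_mul (X_sub_C_ne_zero l) (X_sub_C_ne_zero l), natDegree_X_sub_C]
    · exact closed_jordan hl hl2 hk hd'

end Calc

end H41
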