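import Cfsg.Agent.H41.CommBlocks

/-!
Diagonal classes, scalar classes and a criterion by two generators.
-/

set_option autoImplicit false

open Polynomial Fin.NatCast

namespace H41

namespace Calc

variable {F : Type*} [Field F]
variable {V : Type*} [AddCommGroup V] [Module F V]

/-- Criterion with two generators. -/
lemma hasCls_of_two [FiniteDimensional F V] (T : Module.End F V) (v₁ v₂ : V) (f₁ f₂ : F[X]) (h₁ : f₁.Monic)
    (h₂ : f₂.Monic) (hdeg : Module.finrank F V = f₁.natDegree + f₂.natDegree) (hv₁ : aeval T f₁ v₁ = 0)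
    (hv₂ : aeval T f₂ v₂ = 0)
    (hgen : ∀ C : Submodule F V, v₁ ∈ C → v₂ ∈ C → (∀ u ∈ C, T u ∈ C) → C = ⊤) : HasCls T {f₁, f₂} := by
  haveI : Module.Finite F (AdjoinRoot f₁) := (AdjoinRoot.powerBasis h₁.ne_zero).finite
  haveI : Module.Finite F (AdjoinRoot f₂) := (AdjoinRoot.powerBasis h₂.ne_zero).finite
  have mk1 : ∀ (f : F[X]) (v : V), aeval T f v = 0 → ∃ φ : AdjoinRoot f →ₗ[F] V,
      ∀ p, φ (AdjoinRoot.mk f p) = aeval T p v := fun f v hv =>
    ⟨Submodule.liftQ ((Ideal.span {f}).restrictScalars F) (orbit T v) (by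
      intro p hp
      obtain ⟨q, rfl⟩ := Ideal.mem_span_singleton'.mp hp
      rw [LinearMap.mem_ker, orbit_apply, map_mul, Module.End.mul_apply, hv, map_zero])
      ∘ₗ (Submodule.Quotient.restrictScalarsEquiv F (Ideal.span {f})).symm.toLinearMap, fun p => rfl⟩
  obtain ⟨φ₁, hφ₁⟩ := mk1 f₁ v₁ hv₁
  obtain ⟨φ₂, hφ₂⟩ := mk1 f₂ v₂ hv₂
  let φ := φ₁.coprod φ₂
  have hcomm : ∀ x, φ ((LinearMap.mulLeft F (AdjoinRoot.root f₁)).prodMap
      (LinearMap.mulLeft F (AdjoinRoot.root f₂)) x) = T (φ x) := by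
    rintro ⟨x, y⟩
    obtain ⟨p, rfl⟩ := AdjoinRoot.mk_surjective x
    obtain ⟨q, rfl⟩ := AdjoinRoot.mk_surjective y
    simp only [φ, LinearMap.prodMap_apply, LinearMap.coprod_apply, LinearMap.mulLeft_apply, ← AdjoinRoot.mk_X,
      ← map_mul, hφ₁, hφ₂, map_add]
    simp [map_mul, Module.End.mul_apply]
  have hs : Function.Surjective φ := by
    rw [← LinearMap.range_eq_top]
    refine hgen _ ⟨(AdjoinRoot.mk f₁ 1, 0), ?_⟩ ⟨(0, AdjoinRoot.mk f₂ 1), ?_⟩ ?_
    · rw [LinearMap.coprod_apply, hφ₁, map_zero, map_one, add_zero]; rfl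
    · rw [LinearMap.coprod_apply, hφ₂, map_zero, map_one, zero_add]; rfl
    · rintro _ ⟨x, rfl⟩; exact ⟨_, hcomm x⟩
  have hi : Function.Injective φ :=
    (LinearMap.injective_iff_surjective_of_finrank_eq_finrank (by
      rw [hdeg, Module.finrank_prod, finrank_adjoinRoot h₁.ne_zero, finrank_adjoinRoot h₂.ne_zero])).mpr hs
  have := (hasCls_comp f₁).prod (hasCls_comp f₂)
  rw [Multiset.singleton_add] at this
  exact this.similar (Similar.symm ⟨LinearEquiv.ofBijective φ ⟨hi, hs⟩, hcomm⟩)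

/-- A weighted cyclic shift. -/
def shift {m : ℕ} (c : Fin (m + 1) → F) : Module.End F (Fin (m + 1) → F) :=
  LinearMap.pi fun i => c i • LinearMap.proj (i - 1)

lemma shift_apply {m : ℕ} (c : Fin (m + 1) → F) (v : Fin (m + 1) → F) (i : Fin (m + 1)) :
    shift c v i = c i * v (i - 1) := rfl

lemma hasCls_shift {m : ℕ} (c : Fin (m + 1) → F) (hc : ∀ i, c i ≠ 0) :
    HasCls (shift c) {X ^ (m + 1) - C (∏ i, c i)} := by
  classical
  have hpow : ∀ (k : ℕ) (v : Fin (m + 1) → F) (i : Fin (m + 1)),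
      (shift c ^ k) v i = (∏ l ∈ Finset.range k, c (i - (l : Fin (m + 1)))) * v (i - (k : Fin (m + 1))) := by
    intro k
    induction k with
    | zero => intro v i; simp
    | succ k ih =>
      intro v i
      rw [pow_succ, Module.End.mul_apply, ih, shift_apply, Finset.prod_range_succ, Nat.cast_succ, sub_add_eq_sub_sub]
      ring
  refine hasCls_of_cyclic (shift c) (Pi.single 0 1) _ (monic_X_pow_sub_C _ (Nat.succ_ne_zero m)) ?_ ?_ ?_
  · rw [Module.finrank_fin_fun, natDegree_X_pow_sub_C]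
  · funext i
    simp only [map_sub, map_pow, aeval_X, aeval_C, LinearMap.sub_apply, Pi.sub_apply, Module.algebraMap_end_apply,
      Pi.smul_apply, smul_eq_mul, Pi.zero_apply]
    rw [hpow, Fin.natCast_self, sub_zero, sub_eq_zero]
    congr 1
    refine Finset.prod_bij (fun l _ => i - (l : Fin (m + 1))) (fun _ _ => Finset.mem_univ _) ?_ ?_ fun _ _ => rfl
    · intro a ha b hb h
      have := congrArg Fin.val (sub_right_injective h)
      rwa [Fin.val_natCast, Fin.val_natCast, Nat.mod_eq_of_lt (Finset.mem_range.mp ha),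
        Nat.mod_eq_of_lt (Finset.mem_range.mp hb)] at this
    · intro b _
      exact ⟨(i - b).val, Finset.mem_range.mpr (i - b).isLt, by simp⟩
  · intro C h0 hC
    have hk : ∀ k : ℕ, (shift c ^ k) (Pi.single 0 1) ∈ C := by
      intro k
      induction k with
      | zero => simpa using h0
      | succ k ih => rw [pow_succ', Module.End.mul_apply]; exact hC _ ih
    rw [eq_top_iff, ← (Pi.basisFun F (Fin (m + 1))).span_eq, Submodule.span_le]
    rintro _ ⟨j, rfl⟩
    rw [Pi.basisFun_apply]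
    have h1 := hk j.val
    have h2 : (shift c ^ j.val) (Pi.single 0 1) =
        (∏ l ∈ Finset.range j.val, c (j - (l : Fin (m + 1)))) • Pi.single j (1 : F) := by
      funext i
      rw [hpow, Fin.cast_val_eq_self]
      by_cases hij : i = j
      · subst hij; simp
      · simp [hij, sub_eq_zero]
    rw [h2] at h1
    exact (Submodule.smul_mem_iff _ (Finset.prod_ne_zero_iff.mpr fun l _ => hc _)).1 h1

/-- The diagonal map. -/
def diagEnd {n : ℕ} (h : Fin n → F) : Module.End F (Fin n → F) :=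
  LinearMap.pi fun i => h i • LinearMap.proj i

lemma hasCls_diagEnd {n : ℕ} (h : Fin n → F) :
    HasCls (diagEnd h) (Finset.univ.val.map fun i => X - C (h i)) := by
  have hs : ∀ i, Similar (h i • LinearMap.id : Module.End F F)
      (LinearMap.mulLeft F (AdjoinRoot.root (X - C (h i) : F[X]))) :=
    fun i => (hasCls_smul_self (h i)).unique (hasCls_comp _)
  choose e he using hs
  refine hasCls_of_similar_model _ ⟨LinearEquiv.piCongrRight e, fun v => funext fun i => ?_⟩
  exact he i (v i)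

/-- The identity is a quotient of any class by itself. -/
lemma F2.replicate_one {U : Multiset F[X]} (hU : Good U) :
    F2 (Multiset.replicate (U.map natDegree).sum (X - C 1)) U U := by
  classical
  obtain ⟨N, f, hf⟩ := exists_hasCls_model U
  haveI := hf.finiteDimensional hU.monic
  have hfr := hf.finrank hU.monic
  have h1 : HasCls (1 : Module.End F (Π i, AdjoinRoot (f i)))
      (Multiset.replicate (U.map natDegree).sum (X - C 1)) := by
    have h2 := hasCls_diagEnd (F := F) (fun _ : Fin (U.map natDegree).sum => (1 : F))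
    simp only [Multiset.map_const', Finset.card_val, Finset.card_univ, Fintype.card_fin] at h2
    refine h2.similar ⟨(Module.finBasisOfFinrankEq F _ hfr).equivFun, fun v => ?_⟩
    funext i
    simp [diagEnd]
  exact F2.of_fac h1 ⟨_, _, hf, hf, one_mul _⟩

variable [Fintype F]

lemma surjCls_xpow {n : ℕ} (hn : n ≠ 0) {ε : F} (hε : ε = 1 ∨ ε = -1) : SurjCls {X ^ n - C ε} := by
  classical
  obtain ⟨p, hp⟩ := CharP.exists F
  haveI := hp
  obtain ⟨k, hpp, hcard⟩ := FiniteField.card F p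
  haveI : Fact p.Prime := ⟨hpp⟩
  obtain ⟨a, m, hm, rfl⟩ := Nat.exists_eq_pow_mul_and_not_dvd hn p hpp.ne_one
  have hm0 : (m : F) ≠ 0 := fun h => hm ((CharP.cast_eq_zero_iff F p m).mp h)
  have hε0 : ε ≠ 0 := by rcases hε with h | h <;> simp [h]
  have hεp : ε ^ p ^ a = ε := by
    rcases hε with rfl | rfl
    · exact one_pow _
    · exact neg_one_pow_char_pow F p a
  have hpow : X ^ (p ^ a * m) - C ε = (X ^ m - C ε) ^ p ^ a := by
    rw [sub_pow_char_pow, ← pow_mul, ← map_pow, hεp, mul_comm]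
  have hsep : (X ^ m - C ε).Separable := separable_X_pow_sub_C ε hm0 hε0
  have hm1 : m ≠ 0 := fun h => hm0 (by simp [h])
  have hunit : ¬ IsUnit (X ^ m - C ε) := fun hu => by
    have := natDegree_eq_zero_of_isUnit hu
    rw [natDegree_X_pow_sub_C] at this
    exact hm1 this
  obtain ⟨h, hh, hhi, ⟨r, hr⟩⟩ := exists_monic_irreducible_factor _ hunit
  have hrm : r.Monic := hh.of_mul_monic_left (hr ▸ monic_X_pow_sub_C ε hm1)
  have hcop : IsCoprime (h ^ p ^ a) (r ^ p ^ a) := ((hr ▸ hsep).isCoprime).pow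
  intro N f hf
  obtain ⟨M, g, hg⟩ := exists_hasCls_model ({h ^ p ^ a, r ^ p ^ a} : Multiset F[X])
  have hg2 := hasCls_merge (hh.pow _) (hrm.pow _) hcop 0 hg
  rw [← mul_pow, ← hr, ← hpow] at hg2
  refine surjDet_of_similar ?_ ((hasCls_model hf).unique hg2)
  refine surjDet_of_mem hg (fun x hx => ?_) hh hhi (Multiset.mem_cons_self _ _) ?_
  · rcases Multiset.mem_cons.mp hx with rfl | hx
    · exact hh.pow _
    · rw [Multiset.mem_singleton.mp hx]; exact hrm.pow _
  · rw [hcard]
    refine Nat.Coprime.pow_right a ?_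
    rw [Nat.coprime_comm, hpp.coprime_iff_not_dvd]
    intro hd
    have h1 : p ∣ p ^ (k : ℕ) := dvd_pow_self p k.ne_zero
    have h2 : 1 ≤ p ^ (k : ℕ) := Nat.one_le_pow _ _ hpp.pos
    have := Nat.dvd_sub h1 hd
    rw [show p ^ (k : ℕ) - (p ^ (k : ℕ) - 1) = 1 by omega] at this
    exact hpp.ne_one (Nat.dvd_one.mp this)

/-- Diagonalisable classes. -/
lemma closed_diag (w : Multiset F[X]) (hw : w ≠ 0) (hlin : ∀ f ∈ w, Monic f ∧ f.natDegree = 1) (hd : cdet w = 1) :
    ∃ U, Good U ∧ cdet U = 1 ∧ SurjCls U ∧ F2 w U U ∧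
      U = {X ^ Multiset.card w - C ((-1 : F) ^ (Multiset.card w + 1))} := by
  classical
  obtain ⟨m, hm⟩ : ∃ m, Multiset.card w = m + 1 :=
    ⟨Multiset.card w - 1, (Nat.succ_pred_eq_of_ne_zero (by simpa using hw)).symm⟩
  let L := w.toList
  have hL : L.length = m + 1 := by simp [L, hm]
  let h : Fin (m + 1) → F := fun i => cdet {L.get (i.cast hL.symm)}
  have hw' : Finset.univ.val.map (fun i => X - C (h i)) = w := by
    have e : ∀ i : Fin (m + 1), X - C (h i) = L.get (i.cast hL.symm) := by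
      intro i
      obtain ⟨hmon, h1⟩ := hlin _ (Multiset.mem_toList.mp (List.get_mem L (i.cast hL.symm)))
      conv_rhs => rw [hmon.eq_X_add_C h1]
      simp only [h, cdet, Multiset.map_singleton, Multiset.prod_singleton, h1, pow_one, neg_mul, one_mul, map_neg,
        sub_neg_eq_add]
    rw [Multiset.map_congr rfl fun i _ => e i, Fin.univ_val_map]
    conv_rhs => rw [← Multiset.coe_toList w]
    congr 1
    refine List.ext_getElem (by simp [hL, L]) fun i h1 h2 => ?_
    rw [List.getElem_ofFn]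
    rfl
  set ε : F := (-1) ^ (Multiset.card w + 1)
  have hε : ε = 1 ∨ ε = -1 := neg_one_pow_eq_or F _
  have hprod : ∏ i, h i = 1 := by
    have h3 : cdet (Finset.univ.val.map fun i => X - C (h i)) = 1 := hw'.symm ▸ hd
    simp only [cdet, Multiset.map_map] at h3
    rw [Finset.prod_eq_multiset_prod, ← h3]
    congr 1
    refine Multiset.map_congr rfl fun i _ => ?_
    simp
  let c : Fin (m + 1) → F := Function.update 1 0 ε
  have hε0 : ε ≠ 0 := by rcases hε with e | e <;> simp [e]
  have hc : ∀ i, c i ≠ 0 := fun i => by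
    by_cases hi : i = 0 <;> simp [c, hi, hε0]
  have hcp : ∏ i, c i = ε := by
    rw [Finset.prod_update_of_mem (Finset.mem_univ _)]; simp
  have hx := hasCls_shift c hc
  rw [hcp] at hx
  have hh0 : ∀ i, h i ≠ 0 := Finset.prod_ne_zero_iff.mp (hprod ▸ one_ne_zero) |> fun q i => q i (Finset.mem_univ i)
  have hy := hasCls_shift (fun i => h i * c i) fun i => mul_ne_zero (hh0 i) (hc i)
  rw [Finset.prod_mul_distrib, hprod, one_mul, hcp] at hy
  have hU : Good ({X ^ (m + 1) - C ε} : Multiset F[X]) := fun f hf => by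
    rw [Multiset.mem_singleton] at hf
    subst hf
    exact ⟨monic_X_pow_sub_C _ (Nat.succ_ne_zero m), by simpa using hε0⟩
  refine ⟨{X ^ (m + 1) - C ε}, hU, ?_, surjCls_xpow (Nat.succ_ne_zero m) hε, ?_, by rw [hm]⟩
  · simp only [cdet, Multiset.map_singleton, Multiset.prod_singleton, natDegree_X_pow_sub_C, coeff_sub,
      coeff_X_pow, if_neg (Nat.succ_ne_zero m).symm, coeff_C_zero, zero_sub, ε, hm]
    rw [← neg_one_mul ((-1 : F) ^ (m + 1 + 1)), ← pow_succ', ← pow_add]
    exact Even.neg_one_pow ⟨m + 2, by omega⟩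
  · refine F2.of_fac (hw' ▸ hasCls_diagEnd h) ⟨shift c, shift fun i => h i * c i, hx, hy, ?_⟩
    refine LinearMap.ext fun v => funext fun i => ?_
    show h i * (c i * v (i - 1)) = h i * c i * v (i - 1)
    rw [mul_assoc]

lemma Closed.of_diag (w : Multiset F[X]) (hw : w ≠ 0) (hlin : ∀ f ∈ w, Monic f ∧ f.natDegree = 1)
    (hd : cdet w = 1) : Closed w 1 := by
  obtain ⟨U, h1, h2, h3, h4, -⟩ := closed_diag w hw hlin hd
  exact ⟨U, h1, h2, h3, h4⟩

end Calc

end H41
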