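import Cfsg.Agent.H41.CommDiag

/-!
Explicit quotients of classes over the fields with two and three elements.
-/

set_option autoImplicit false

open Polynomial

namespace H41

namespace Calc

variable {F : Type*} [Field F]

/-- Krylov matrix of a column. -/
def krylov {R : Type*} [CommRing R] {n : ℕ} [NeZero n] (T : Matrix (Fin n) (Fin n) R) :
    Matrix (Fin n) (Fin n) R := Matrix.of fun i j => (T ^ j.val) i 0

/-- The polynomial with given lower coefficients. -/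
noncomputable def ofCoeffs {R : Type*} [CommRing R] {n : ℕ} (φ : R →+* F) (P : Fin n → R) : F[X] :=
  X ^ n + ∑ k : Fin n, C (φ (P k)) * X ^ k.val

lemma ofCoeffs_monic {R : Type*} [CommRing R] {n : ℕ} (φ : R →+* F) (P : Fin n → R) :
    (ofCoeffs φ P).Monic ∧ (ofCoeffs φ P).natDegree = n := by
  have hdeg : (∑ k : Fin n, C (φ (P k)) * X ^ k.val).degree < ((n : ℕ) : WithBot ℕ) :=
    lt_of_le_of_lt (degree_sum_le _ _) ((Finset.sup_lt_iff (WithBot.bot_lt_coe n)).mpr fun k _ =>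
      lt_of_le_of_lt (degree_C_mul_X_pow_le _ _) (WithBot.coe_lt_coe.mpr k.isLt))
  refine ⟨monic_X_pow_add hdeg, natDegree_eq_of_degree_eq_some ?_⟩
  rw [ofCoeffs, degree_add_eq_left_of_degree_lt (by rwa [degree_X_pow]), degree_X_pow]

lemma mapMatrix_pow {R : Type*} [CommRing R] {n : ℕ} (φ : R →+* F) (T : Matrix (Fin n) (Fin n) R) (k : ℕ) :
    (T.map φ) ^ k = (T ^ k).map φ := (map_pow φ.mapMatrix T k).symm

lemma toLin'_pow_single {R : Type*} [CommRing R] {n : ℕ} (φ : R →+* F) (T : Matrix (Fin n) (Fin n) R) (k : ℕ)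
    (i₀ i : Fin n) : ((Matrix.toLin' (T.map φ)) ^ k) (Pi.single i₀ 1) i = φ ((T ^ k) i i₀) := by
  rw [← Matrix.toLin'_pow, Matrix.toLin'_apply, Matrix.mulVec_single_one, mapMatrix_pow]
  rfl

/-- A matrix with cyclic first unit vector. -/
lemma hasCls_matrix {R : Type*} [CommRing R] {n : ℕ} [NeZero n] (φ : R →+* F) (T : Matrix (Fin n) (Fin n) R)
    (P : Fin n → R) (Kinv : Matrix (Fin n) (Fin n) R) (hK : krylov T * Kinv = 1)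
    (hP : ∀ i, (T ^ n) i 0 + ∑ k : Fin n, P k * (T ^ k.val) i 0 = 0) :
    HasCls (Matrix.toLin' (T.map φ)) {ofCoeffs φ P} := by
  refine hasCls_of_cyclic _ (Pi.single 0 1) _ (ofCoeffs_monic φ P).1 ?_ ?_ ?_
  · rw [Module.finrank_fin_fun, (ofCoeffs_monic φ P).2]
  · funext i
    simp only [ofCoeffs, map_add, map_sum, map_mul, map_pow, aeval_X, aeval_C, LinearMap.add_apply,
      LinearMap.sum_apply, Module.End.mul_apply, Module.algebraMap_end_apply, Pi.add_apply, Finset.sum_apply,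
      Pi.smul_apply, smul_eq_mul, Pi.zero_apply, toLin'_pow_single]
    have := congrArg φ (hP i)
    simpa [map_add, map_sum, map_mul] using this
  · intro C h0 hC
    have hk : ∀ k : ℕ, ((Matrix.toLin' (T.map φ)) ^ k) (Pi.single 0 1) ∈ C := by
      intro k
      induction k with
      | zero => simpa using h0
      | succ k ih => rw [pow_succ', Module.End.mul_apply]; exact hC _ ih
    rw [eq_top_iff, ← (Pi.basisFun F (Fin n)).span_eq, Submodule.span_le]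
    rintro _ ⟨j, rfl⟩
    rw [Pi.basisFun_apply]
    have : (Pi.single j 1 : Fin n → F) =
        ∑ k : Fin n, φ (Kinv k j) • ((Matrix.toLin' (T.map φ)) ^ k.val) (Pi.single 0 1) := by
      funext i
      have h1 := congrArg φ (congrFun (congrFun hK i) j)
      simp only [Matrix.mul_apply, krylov, Matrix.of_apply, map_sum, map_mul, Matrix.one_apply] at h1
      simp only [Finset.sum_apply, Pi.smul_apply, smul_eq_mul, toLin'_pow_single, Pi.single_apply]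
      rw [Finset.sum_congr rfl fun k _ => mul_comm _ _, h1]
      split_ifs <;> simp
    rw [this]
    exact Submodule.sum_mem _ fun k _ => Submodule.smul_mem _ _ (hk _)

/-- A matrix generated by two unit vectors. -/
lemma hasCls_matrix_two {R : Type*} [CommRing R] {n a b : ℕ} (φ : R →+* F) (T : Matrix (Fin n) (Fin n) R)
    (P : Fin a → R) (Q : Fin b → R) (i₁ i₂ : Fin n) (hab : n = a + b) (A : Fin a → Fin n → R)
    (B : Fin b → Fin n → R)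
    (hK : ∀ i j, ∑ k, A k j * (T ^ k.val) i i₁ + ∑ k, B k j * (T ^ k.val) i i₂ =
      if i = j then 1 else 0)
    (hP : ∀ i, (T ^ a) i i₁ + ∑ k : Fin a, P k * (T ^ k.val) i i₁ = 0)
    (hQ : ∀ i, (T ^ b) i i₂ + ∑ k : Fin b, Q k * (T ^ k.val) i i₂ = 0) :
    HasCls (Matrix.toLin' (T.map φ)) {ofCoeffs φ P, ofCoeffs φ Q} := by
  have hz : ∀ {c : ℕ} (S : Fin c → R) (i₀ : Fin n), (∀ i, (T ^ c) i i₀ + ∑ k : Fin c, S k * (T ^ k.val) i i₀ = 0) →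
      aeval (Matrix.toLin' (T.map φ)) (ofCoeffs φ S) (Pi.single i₀ 1) = 0 := by
    intro c S i₀ hS
    funext i
    simp only [ofCoeffs, map_add, map_sum, map_mul, map_pow, aeval_X, aeval_C, LinearMap.add_apply,
      LinearMap.sum_apply, Module.End.mul_apply, Module.algebraMap_end_apply, Pi.add_apply, Finset.sum_apply,
      Pi.smul_apply, smul_eq_mul, Pi.zero_apply, toLin'_pow_single]
    have := congrArg φ (hS i)
    simpa [map_add, map_sum, map_mul] using this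
  refine hasCls_of_two _ (Pi.single i₁ 1) (Pi.single i₂ 1) _ _ (ofCoeffs_monic φ P).1 (ofCoeffs_monic φ Q).1 ?_
    (hz P i₁ hP) (hz Q i₂ hQ) ?_
  · rw [Module.finrank_fin_fun, (ofCoeffs_monic φ P).2, (ofCoeffs_monic φ Q).2, hab]
  · intro C h1 h2 hC
    have hk : ∀ (i₀ : Fin n), (Pi.single i₀ 1 : Fin n → F) ∈ C →
        ∀ k : ℕ, ((Matrix.toLin' (T.map φ)) ^ k) (Pi.single i₀ 1) ∈ C := by
      intro i₀ h0 k
      induction k with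
      | zero => simpa using h0
      | succ k ih => rw [pow_succ', Module.End.mul_apply]; exact hC _ ih
    rw [eq_top_iff, ← (Pi.basisFun F (Fin n)).span_eq, Submodule.span_le]
    rintro _ ⟨j, rfl⟩
    rw [Pi.basisFun_apply]
    have : (Pi.single j 1 : Fin n → F) =
        ∑ k : Fin a, φ (A k j) • ((Matrix.toLin' (T.map φ)) ^ k.val) (Pi.single i₁ 1) +
        ∑ k : Fin b, φ (B k j) • ((Matrix.toLin' (T.map φ)) ^ k.val) (Pi.single i₂ 1) := by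
      funext i
      have h1 := congrArg φ (hK i j)
      simp only [map_add, map_sum, map_mul] at h1
      simp only [Pi.add_apply, Finset.sum_apply, Pi.smul_apply, smul_eq_mul, toLin'_pow_single, Pi.single_apply]
      rw [h1]
      split_ifs <;> simp
    rw [this]
    exact C.add_mem (Submodule.sum_mem _ fun k _ => Submodule.smul_mem _ _ (hk _ h1 _))
      (Submodule.sum_mem _ fun k _ => Submodule.smul_mem _ _ (hk _ h2 _))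

lemma F2.of_matrix {R : Type*} [CommRing R] {n : ℕ} (φ : R →+* F) {M A B : Matrix (Fin n) (Fin n) R}
    {w s t : Multiset F[X]} (hM : HasCls (Matrix.toLin' (M.map φ)) w) (hA : HasCls (Matrix.toLin' (A.map φ)) t)
    (hB : HasCls (Matrix.toLin' (B.map φ)) s) (h : M * A = B) : F2 w s t :=
  F2.of_fac hM ⟨_, _, hA, hB, by
    rw [← h, Matrix.map_mul, Matrix.toLin'_mul]; rfl⟩

lemma q2_Q (φ : ZMod 2 →+* F) :
    F2 {ofCoeffs φ (![1, 1] : Fin 2 → ZMod 2)} {ofCoeffs φ (![1, 0] : Fin 2 → ZMod 2)} {ofCoeffs φ (![1, 0] : Fin 2 → ZMod 2)} :=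
  F2.of_matrix φ (M := (!![0, 1; 1, 1] : Matrix (Fin 2) (Fin 2) (ZMod 2))) (A := (!![0, 1; 1, 0] : Matrix (Fin 2) (Fin 2) (ZMod 2))) (B := (!![1, 0; 1, 1] : Matrix (Fin 2) (Fin 2) (ZMod 2)))
    (hasCls_matrix φ _ _ (!![1, 0; 0, 1] : Matrix (Fin 2) (Fin 2) (ZMod 2)) (by decide) (by decide))
    (hasCls_matrix φ _ _ (!![1, 0; 0, 1] : Matrix (Fin 2) (Fin 2) (ZMod 2)) (by decide) (by decide))
    (hasCls_matrix φ _ _ (!![1, 1; 0, 1] : Matrix (Fin 2) (Fin 2) (ZMod 2)) (by decide) (by decide))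
    (by decide)

lemma q2_J3 (φ : ZMod 2 →+* F) :
    F2 {ofCoeffs φ (![1, 1, 1] : Fin 3 → ZMod 2)} {ofCoeffs φ (![1, 1, 0] : Fin 3 → ZMod 2)} {ofCoeffs φ (![1, 1, 0] : Fin 3 → ZMod 2)} :=
  F2.of_matrix φ (M := (!![1, 0, 0; 1, 1, 0; 0, 1, 1] : Matrix (Fin 3) (Fin 3) (ZMod 2))) (A := (!![0, 0, 1; 1, 0, 0; 1, 1, 0] : Matrix (Fin 3) (Fin 3) (ZMod 2))) (B := (!![0, 0, 1; 1, 0, 1; 0, 1, 0] : Matrix (Fin 3) (Fin 3) (ZMod 2)))
    (hasCls_matrix φ _ _ (!![1, 1, 1; 0, 1, 0; 0, 0, 1] : Matrix (Fin 3) (Fin 3) (ZMod 2)) (by decide) (by decide))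
    (hasCls_matrix φ _ _ (!![1, 1, 1; 0, 1, 0; 0, 1, 1] : Matrix (Fin 3) (Fin 3) (ZMod 2)) (by decide) (by decide))
    (hasCls_matrix φ _ _ (!![1, 0, 0; 0, 1, 0; 0, 0, 1] : Matrix (Fin 3) (Fin 3) (ZMod 2)) (by decide) (by decide))
    (by decide)

lemma q2_J23 (φ : ZMod 2 →+* F) :
    F2 {ofCoeffs φ (![1, 0] : Fin 2 → ZMod 2), ofCoeffs φ (![1, 1, 1] : Fin 3 → ZMod 2)} {ofCoeffs φ (![1, 0, 1, 0, 0] : Fin 5 → ZMod 2)} {ofCoeffs φ (![1, 0, 1, 0, 0] : Fin 5 → ZMod 2)} :=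
  F2.of_matrix φ (M := (!![1, 0, 0, 0, 0; 1, 1, 0, 0, 0; 0, 0, 1, 0, 0; 0, 0, 1, 1, 0; 0, 0, 0, 1, 1] : Matrix (Fin 5) (Fin 5) (ZMod 2))) (A := (!![1, 1, 0, 1, 0; 1, 0, 1, 0, 0; 1, 1, 0, 0, 1; 1, 0, 0, 1, 1; 0, 1, 0, 0, 0] : Matrix (Fin 5) (Fin 5) (ZMod 2))) (B := (!![1, 1, 0, 1, 0; 0, 1, 1, 1, 0; 1, 1, 0, 0, 1; 0, 1, 0, 1, 0; 1, 1, 0, 1, 1] : Matrix (Fin 5) (Fin 5) (ZMod 2)))
    (hasCls_matrix_two φ _ _ _ 0 2 rfl
      ![![1, 1, 0, 0, 0], ![0, 1, 0, 0, 0]] ![![0, 0, 1, 1, 1], ![0, 0, 0, 1, 0], ![0, 0, 0, 0, 1]] (by decide) (by decide) (by decide))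
    (hasCls_matrix φ _ _ (!![1, 1, 0, 0, 1; 0, 0, 1, 0, 0; 0, 0, 1, 1, 1; 0, 1, 0, 1, 0; 0, 0, 1, 1, 0] : Matrix (Fin 5) (Fin 5) (ZMod 2)) (by decide) (by decide))
    (hasCls_matrix φ _ _ (!![1, 1, 0, 1, 1; 0, 0, 0, 0, 1; 0, 1, 0, 1, 0; 0, 0, 0, 1, 0; 0, 0, 1, 0, 1] : Matrix (Fin 5) (Fin 5) (ZMod 2)) (by decide) (by decide))
    (by decide)

lemma q3_S (φ : ZMod 3 →+* F) :
    F2 {ofCoeffs φ (![1, 0] : Fin 2 → ZMod 3)} {ofCoeffs φ (![1, 0] : Fin 2 → ZMod 3)} {ofCoeffs φ (![1, 0] : Fin 2 → ZMod 3)} :=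
  F2.of_matrix φ (M := (!![0, 2; 1, 0] : Matrix (Fin 2) (Fin 2) (ZMod 3))) (A := (!![1, 2; 2, 2] : Matrix (Fin 2) (Fin 2) (ZMod 3))) (B := (!![1, 1; 1, 2] : Matrix (Fin 2) (Fin 2) (ZMod 3)))
    (hasCls_matrix φ _ _ (!![1, 0; 0, 1] : Matrix (Fin 2) (Fin 2) (ZMod 3)) (by decide) (by decide))
    (hasCls_matrix φ _ _ (!![1, 1; 0, 2] : Matrix (Fin 2) (Fin 2) (ZMod 3)) (by decide) (by decide))
    (hasCls_matrix φ _ _ (!![1, 2; 0, 1] : Matrix (Fin 2) (Fin 2) (ZMod 3)) (by decide) (by decide))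
    (by decide)

lemma q3_fpA (φ : ZMod 3 →+* F) :
    F2 {ofCoeffs φ (![2, 1] : Fin 2 → ZMod 3), ofCoeffs φ (![2, 1] : Fin 2 → ZMod 3)} {ofCoeffs φ (![1, 0, 0, 0] : Fin 4 → ZMod 3)} {ofCoeffs φ (![1, 0, 0, 0] : Fin 4 → ZMod 3)} :=
  F2.of_matrix φ (M := (!![0, 1, 0, 0; 1, 2, 0, 0; 0, 0, 0, 1; 0, 0, 1, 2] : Matrix (Fin 4) (Fin 4) (ZMod 3))) (A := (!![2, 0, 1, 0; 1, 1, 2, 2; 1, 1, 1, 2; 1, 2, 0, 2] : Matrix (Fin 4) (Fin 4) (ZMod 3))) (B := (!![1, 1, 2, 2; 1, 2, 2, 1; 1, 2, 0, 2; 0, 2, 1, 0] : Matrix (Fin 4) (Fin 4) (ZMod 3)))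
    (hasCls_matrix_two φ _ _ _ 0 2 rfl
      ![![1, 0, 0, 0], ![0, 1, 0, 0]] ![![0, 0, 1, 0], ![0, 0, 0, 1]] (by decide) (by decide) (by decide))
    (hasCls_matrix φ _ _ (!![1, 1, 1, 2; 0, 0, 1, 0; 0, 1, 2, 0; 0, 0, 2, 1] : Matrix (Fin 4) (Fin 4) (ZMod 3)) (by decide) (by decide))
    (hasCls_matrix φ _ _ (!![1, 1, 1, 2; 0, 0, 1, 1; 0, 2, 1, 0; 0, 0, 0, 1] : Matrix (Fin 4) (Fin 4) (ZMod 3)) (by decide) (by decide))
    (by decide)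

lemma q3_fpB (φ : ZMod 3 →+* F) :
    F2 {ofCoeffs φ (![2, 1] : Fin 2 → ZMod 3), ofCoeffs φ (![2, 1] : Fin 2 → ZMod 3)} {ofCoeffs φ (![2, 1, 0, 1] : Fin 4 → ZMod 3)} {ofCoeffs φ (![2, 1, 0, 1] : Fin 4 → ZMod 3)} :=
  F2.of_matrix φ (M := (!![0, 1, 0, 0; 1, 2, 0, 0; 0, 0, 0, 1; 0, 0, 1, 2] : Matrix (Fin 4) (Fin 4) (ZMod 3))) (A := (!![2, 1, 2, 2; 0, 0, 1, 2; 1, 2, 1, 0; 1, 1, 0, 2] : Matrix (Fin 4) (Fin 4) (ZMod 3))) (B := (!![0, 0, 1, 2; 2, 1, 1, 0; 1, 1, 0, 2; 0, 1, 1, 1] : Matrix (Fin 4) (Fin 4) (ZMod 3)))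
    (hasCls_matrix_two φ _ _ _ 0 2 rfl
      ![![1, 0, 0, 0], ![0, 1, 0, 0]] ![![0, 0, 1, 0], ![0, 0, 0, 1]] (by decide) (by decide) (by decide))
    (hasCls_matrix φ _ _ (!![1, 1, 0, 1; 0, 2, 1, 0; 0, 2, 2, 1; 0, 2, 0, 0] : Matrix (Fin 4) (Fin 4) (ZMod 3)) (by decide) (by decide))
    (hasCls_matrix φ _ _ (!![1, 1, 1, 1; 0, 2, 0, 2; 0, 2, 2, 1; 0, 0, 0, 2] : Matrix (Fin 4) (Fin 4) (ZMod 3)) (by decide) (by decide))
    (by decide)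

lemma q3_fmA (φ : ZMod 3 →+* F) :
    F2 {ofCoeffs φ (![2, 2] : Fin 2 → ZMod 3), ofCoeffs φ (![2, 2] : Fin 2 → ZMod 3)} {ofCoeffs φ (![1, 0, 0, 0] : Fin 4 → ZMod 3)} {ofCoeffs φ (![1, 0, 0, 0] : Fin 4 → ZMod 3)} :=
  F2.of_matrix φ (M := (!![0, 1, 0, 0; 1, 1, 0, 0; 0, 0, 0, 1; 0, 0, 1, 1] : Matrix (Fin 4) (Fin 4) (ZMod 3))) (A := (!![1, 0, 2, 1; 1, 2, 0, 2; 1, 0, 2, 0; 1, 2, 2, 1] : Matrix (Fin 4) (Fin 4) (ZMod 3))) (B := (!![1, 2, 0, 2; 2, 2, 2, 0; 1, 2, 2, 1; 2, 2, 1, 1] : Matrix (Fin 4) (Fin 4) (ZMod 3)))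
    (hasCls_matrix_two φ _ _ _ 0 2 rfl
      ![![1, 0, 0, 0], ![0, 1, 0, 0]] ![![0, 0, 1, 0], ![0, 0, 0, 1]] (by decide) (by decide) (by decide))
    (hasCls_matrix φ _ _ (!![1, 1, 2, 2; 0, 0, 2, 2; 0, 2, 0, 1; 0, 0, 2, 1] : Matrix (Fin 4) (Fin 4) (ZMod 3)) (by decide) (by decide))
    (hasCls_matrix φ _ _ (!![1, 0, 2, 0; 0, 0, 2, 1; 0, 2, 0, 1; 0, 0, 2, 2] : Matrix (Fin 4) (Fin 4) (ZMod 3)) (by decide) (by decide))
    (by decide)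

lemma q3_fmB (φ : ZMod 3 →+* F) :
    F2 {ofCoeffs φ (![2, 2] : Fin 2 → ZMod 3), ofCoeffs φ (![2, 2] : Fin 2 → ZMod 3)} {ofCoeffs φ (![2, 1, 0, 1] : Fin 4 → ZMod 3)} {ofCoeffs φ (![2, 1, 0, 1] : Fin 4 → ZMod 3)} :=
  F2.of_matrix φ (M := (!![0, 1, 0, 0; 1, 1, 0, 0; 0, 0, 0, 1; 0, 0, 1, 1] : Matrix (Fin 4) (Fin 4) (ZMod 3))) (A := (!![1, 1, 2, 2; 2, 0, 2, 1; 1, 0, 2, 1; 0, 2, 2, 2] : Matrix (Fin 4) (Fin 4) (ZMod 3))) (B := (!![2, 0, 2, 1; 0, 1, 1, 0; 0, 2, 2, 2; 1, 2, 1, 0] : Matrix (Fin 4) (Fin 4) (ZMod 3)))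
    (hasCls_matrix_two φ _ _ _ 0 2 rfl
      ![![1, 0, 0, 0], ![0, 1, 0, 0]] ![![0, 0, 1, 0], ![0, 0, 0, 1]] (by decide) (by decide) (by decide))
    (hasCls_matrix φ _ _ (!![1, 1, 0, 1; 0, 0, 1, 2; 0, 1, 1, 0; 0, 0, 0, 2] : Matrix (Fin 4) (Fin 4) (ZMod 3)) (by decide) (by decide))
    (hasCls_matrix φ _ _ (!![1, 1, 1, 1; 0, 2, 2, 1; 0, 1, 2, 0; 0, 2, 0, 0] : Matrix (Fin 4) (Fin 4) (ZMod 3)) (by decide) (by decide))
    (by decide)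

end Calc

end H41
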