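import Cfsg.Agent.H41.CommCases
import Cfsg.Agent.H41.CommWitness

/-!
Closed classes of determinant one over the field with three elements.
-/

set_option autoImplicit false

open Polynomial

namespace H41

namespace Calc

namespace Three

variable {F : Type*} [Field F] [Fintype F]

lemma charP_three (h3 : Fintype.card F = 3) : CharP F 3 :=
  haveI : Fact (Nat.Prime 3) := ⟨Nat.prime_three⟩
  charP_of_card_eq_prime h3

lemma two_eq (h3 : Fintype.card F = 3) : (2 : F) = -1 := by
  haveI := charP_three h3
  rw [eq_neg_iff_add_eq_zero, show (2 : F) + 1 = ((3 : ℕ) : F) by norm_num, CharP.cast_eq_zero]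

lemma ne_one (h3 : Fintype.card F = 3) : (-1 : F) ≠ 1 := fun h => by
  have h2 : (2 : F) = 0 := by linear_combination -h
  rw [two_eq h3] at h2
  exact one_ne_zero (neg_eq_zero.mp h2)

lemma unit_cases (h3 : Fintype.card F = 3) {x : F} (hx : x ≠ 0) : x = 1 ∨ x = -1 := by
  have := FiniteField.pow_card_sub_one_eq_one x hx
  rw [h3] at this
  exact mul_self_eq_one_iff.mp (by rw [← pow_two]; exact this)

lemma elem_cases (h3 : Fintype.card F = 3) (x : F) : x = 0 ∨ x = 1 ∨ x = -1 := by
  by_cases hx : x = 0
  · exact Or.inl hx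
  · exact Or.inr (unit_cases h3 hx)

omit [Fintype F] in
lemma irreducible_no_root {f : F[X]} (hi : Irreducible f) (hd : 2 ≤ f.natDegree) (x : F) : f.eval x ≠ 0 := by
  intro hx
  have := natDegree_le_of_dvd (dvd_iff_isRoot.mpr hx) hi.ne_zero
  obtain ⟨r, hr⟩ := dvd_iff_isRoot.mpr hx
  rcases hi.isUnit_or_isUnit hr with hu | hu
  · exact not_isUnit_X_sub_C x hu
  · have hr0 : r ≠ 0 := fun h0 => hi.ne_zero (by rw [hr, h0, mul_zero])
    have h1 := natDegree_eq_zero_of_isUnit hu
    rw [hr, natDegree_mul (X_sub_C_ne_zero x) hr0, natDegree_X_sub_C, h1] at hd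
    omega

omit [Fintype F] in
lemma irreducible_of_no_root {f : F[X]} (hm : f.Monic) (h2 : f.natDegree = 2) (h : ∀ x : F, f.eval x ≠ 0) :
    Irreducible f := by
  rw [hm.irreducible_iff_roots_eq_zero_of_degree_le_three (by omega) (by omega)]
  refine Multiset.eq_zero_of_forall_notMem fun x hx => h x ?_
  exact (mem_roots'.mp hx).2

/-- A monic quadratic from its coefficients. -/
lemma quad_eq {f : F[X]} (hf : f.Monic) (h2 : f.natDegree = 2) :
    f = X ^ 2 + C (f.coeff 1) * X + C (f.coeff 0) := by
  conv_lhs => rw [hf.as_sum, h2]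
  simp [Finset.sum_range_succ]
  ring

lemma irr_d1 (h3 : Fintype.card F = 3) {f : F[X]} (hf : f.Monic) (h2 : f.natDegree = 2) (hi : Irreducible f)
    (hd : cdet {f} = 1) : f = X ^ 2 + 1 := by
  simp only [cdet, Multiset.map_singleton, Multiset.prod_singleton, h2, neg_one_sq, one_mul] at hd
  have he := quad_eq hf h2
  have hroot := irreducible_no_root hi (le_of_eq h2.symm)
  rcases elem_cases h3 (f.coeff 1) with h | h | h
  · rw [he, h, hd]; simp
  · refine absurd ?_ (hroot 1)
    rw [he, h, hd]; simp only [eval_add, eval_pow, eval_mul, eval_X, eval_C]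
    linear_combination two_eq h3
  · refine absurd ?_ (hroot (-1))
    rw [he, h, hd]; simp only [eval_add, eval_pow, eval_mul, eval_X, eval_C]
    linear_combination two_eq h3

lemma irr_dm1 (h3 : Fintype.card F = 3) {f : F[X]} (hf : f.Monic) (h2 : f.natDegree = 2) (hi : Irreducible f)
    (hd : cdet {f} = -1) : f = X ^ 2 + X - 1 ∨ f = X ^ 2 - X - 1 := by
  simp only [cdet, Multiset.map_singleton, Multiset.prod_singleton, h2, neg_one_sq, one_mul] at hd
  have he := quad_eq hf h2
  have hroot := irreducible_no_root hi (le_of_eq h2.symm)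
  rcases elem_cases h3 (f.coeff 1) with h | h | h
  · refine absurd ?_ (hroot 1)
    rw [he, h, hd]; simp
  · left; rw [he, h, hd]; simp; ring
  · right; rw [he, h, hd]; simp; ring

lemma closed_S (h3 : Fintype.card F = 3) : Closed ({X ^ 2 + 1} : Multiset F[X]) 1 := by
  haveI := charP_three h3
  let φ := ZMod.castHom (dvd_refl 3) F
  have he : ofCoeffs φ (![1, 0] : Fin 2 → ZMod 3) = X ^ 2 + 1 := by
    simp [ofCoeffs, Fin.sum_univ_two]
  have hw := q3_S φ
  rw [he] at hw
  refine ⟨{X ^ 2 + 1}, fun g hg => ?_, ?_, ?_, hw⟩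
  · rw [Multiset.mem_singleton] at hg; subst hg
    exact ⟨monic_X_pow_add (lt_of_le_of_lt degree_one_le (by norm_num)), by simp⟩
  · have : (X ^ 2 + 1 : F[X]).natDegree = 2 := by compute_degree!
    simp [cdet, this]
  · have := surjCls_xpow (F := F) (n := 2) two_ne_zero (ε := -1) (Or.inr rfl)
    simpa [sub_eq_add_neg] using this

/-- The two classes used above a quadratic pair. -/
noncomputable def topA (F : Type*) [Field F] : F[X] := X ^ 4 + 1

/-- The class of determinant `-1` used above a quadratic pair. -/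
noncomputable def topB (F : Type*) [Field F] : F[X] := (X ^ 2 + 1) * (X ^ 2 + X - 1)

omit [Fintype F] in
lemma topA_monic : (topA F).Monic ∧ (topA F).natDegree = 4 := by
  have h : (topA F).natDegree = 4 := by unfold topA; compute_degree!
  exact ⟨monic_X_pow_add (lt_of_le_of_lt degree_one_le (by norm_num)), h⟩

omit [Fintype F] in
lemma topB_parts : (X ^ 2 + 1 : F[X]).Monic ∧ (X ^ 2 + X - 1 : F[X]).Monic ∧ (X ^ 2 + 1 : F[X]).natDegree = 2 ∧
    (X ^ 2 + X - 1 : F[X]).natDegree = 2 := by
  refine ⟨monic_X_pow_add (lt_of_le_of_lt degree_one_le (by norm_num)), ?_, by compute_degree!, by compute_degree!⟩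
  rw [add_sub_assoc]
  refine monic_X_pow_add (lt_of_le_of_lt (degree_sub_le _ _) ?_)
  rw [degree_X, degree_one]; norm_num

lemma no_root_A (h3 : Fintype.card F = 3) (x : F) : (topA F).eval x ≠ 0 := by
  intro h
  rcases elem_cases h3 x with rfl | rfl | rfl <;> simp [topA] at h <;>
    exact one_ne_zero (α := F) (by linear_combination -h + two_eq h3)

lemma no_root_B (h3 : Fintype.card F = 3) (x : F) :
    (X ^ 2 + 1 : F[X]).eval x ≠ 0 ∧ (X ^ 2 + X - 1 : F[X]).eval x ≠ 0 := by
  have h1 : (1 : F) ≠ 0 := one_ne_zero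
  constructor <;> intro h <;> rcases elem_cases h3 x with rfl | rfl | rfl <;>
    simp only [eval_add, eval_sub, eval_pow, eval_X, eval_one] at h <;> apply h1
  · linear_combination h
  · linear_combination -h + two_eq h3
  · linear_combination -h + two_eq h3
  · linear_combination -h
  · linear_combination h
  · linear_combination -h

/-- The pair lemma for the quadratics of determinant `-1`. -/
lemma pair_top (h3 : Fintype.card F = 3) {f : F[X]} (hf : f.Monic) (h2 : f.natDegree = 2) (hi : Irreducible f)
    (hd : cdet {f} = -1) {δ : F} (hδ : δ = 1 ∨ δ = -1) :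
    ∃ P : F[X], Good ({P} : Multiset F[X]) ∧ cdet {P} = δ ∧ SurjCls {P} ∧ (∀ x, P.eval x ≠ 0) ∧
      F2 {f, f} {P} {P} := by
  haveI := charP_three h3
  let φ := ZMod.castHom (dvd_refl 3) F
  have hm : φ 2 = -1 := by rw [map_ofNat]; exact two_eq h3
  have hA : ofCoeffs φ (![1, 0, 0, 0] : Fin 4 → ZMod 3) = topA F := by
    simp [ofCoeffs, topA, Fin.sum_univ_four]
  have hB : ofCoeffs φ (![2, 1, 0, 1] : Fin 4 → ZMod 3) = topB F := by
    simp only [ofCoeffs, topB, Fin.sum_univ_four, Matrix.cons_val_zero, Matrix.cons_val_one, Matrix.cons_val,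
      hm, map_one, map_zero, map_neg]
    simp only [Fin.val_zero, Fin.val_one, Fin.val_two, show ((3 : Fin 4) : ℕ) = 3 from rfl, pow_zero, pow_one]
    ring
  have hp : ofCoeffs φ (![2, 1] : Fin 2 → ZMod 3) = X ^ 2 + X - 1 := by
    simp only [ofCoeffs, Fin.sum_univ_two, Matrix.cons_val_zero, Matrix.cons_val_one,
      hm, map_one, map_neg, Fin.val_zero, Fin.val_one, pow_zero, pow_one]
    ring
  have hq : ofCoeffs φ (![2, 2] : Fin 2 → ZMod 3) = X ^ 2 - X - 1 := by
    simp only [ofCoeffs, Fin.sum_univ_two, Matrix.cons_val_zero, Matrix.cons_val_one,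
      hm, map_one, map_neg, Fin.val_zero, Fin.val_one, pow_zero, pow_one]
    ring
  have hpA := q3_fpA φ
  have hpB := q3_fpB φ
  have hmA := q3_fmA φ
  have hmB := q3_fmB φ
  rw [hp, hA] at hpA
  rw [hp, hB] at hpB
  rw [hq, hA] at hmA
  rw [hq, hB] at hmB
  rcases hδ with rfl | rfl
  · refine ⟨topA F, fun g hg => ?_, ?_, ?_, no_root_A h3, ?_⟩
    · rw [Multiset.mem_singleton] at hg; subst hg
      exact ⟨topA_monic.1, by simp [topA]⟩
    · simp [cdet, topA_monic.2]; simp [topA]; norm_num
    · have := surjCls_xpow (F := F) (n := 4) (by norm_num) (ε := -1) (Or.inr rfl)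
      simpa [topA, sub_eq_add_neg] using this
    · rcases irr_dm1 h3 hf h2 hi hd with rfl | rfl
      exacts [hpA, hmA]
  · obtain ⟨m1, m2, d1, d2⟩ := topB_parts (F := F)
    have hgood : Good ({topB F} : Multiset F[X]) := fun g hg => by
      rw [Multiset.mem_singleton] at hg; subst hg
      exact ⟨m1.mul m2, by simp [topB, mul_coeff_zero]⟩
    refine ⟨topB F, hgood, ?_, ?_, fun x => by
      rw [topB, eval_mul]; exact mul_ne_zero (no_root_B h3 x).1 (no_root_B h3 x).2, ?_⟩
    · rw [topB, cdet_mul m1 m2]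
      simp [cdet, d1, d2]
    · intro N g hg
      have hi1 := irreducible_of_no_root m1 d1 fun x => (no_root_B h3 x).1
      have hi2 := irreducible_of_no_root m2 d2 fun x => (no_root_B h3 x).2
      have hne : (X ^ 2 + 1 : F[X]) ≠ X ^ 2 + X - 1 := fun h => by
        have := congrArg (fun P : F[X] => P.coeff 1) h
        simp [coeff_X, coeff_one] at this
      have hcop : IsCoprime (X ^ 2 + 1 : F[X]) (X ^ 2 + X - 1) :=
        hi1.coprime_iff_not_dvd.mpr fun hdvd => hne (Polynomial.eq_of_monic_of_associated m1 m2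
          (hi1.associated_of_dvd hi2 hdvd))
      obtain ⟨M, g', hg'⟩ := exists_hasCls_model ({X ^ 2 + 1, X ^ 2 + X - 1} : Multiset F[X])
      have hg2 := hasCls_merge m1 m2 hcop 0 hg'
      refine surjDet_of_similar ?_ ((hasCls_model hg).unique hg2)
      refine surjDet_of_mem hg' (fun x hx => ?_) m1 hi1 (e := 1) (by rw [pow_one]; exact Multiset.mem_cons_self _ _)
        (Nat.coprime_one_right _)
      rcases Multiset.mem_cons.mp hx with rfl | hx
      · exact m1
      · rw [Multiset.mem_singleton.mp hx]; exact m2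
    · rcases irr_dm1 h3 hf h2 hi hd with rfl | rfl
      exacts [hpB, hmB]

omit [Fintype F] in
lemma f2_lin {l a : F} : F2 ({X - C l} : Multiset F[X]) {X - C (a * l)} {X - C a} := by
  refine F2.of_fac (hasCls_smul_self l) ⟨a • LinearMap.id, (a * l) • LinearMap.id, hasCls_smul_self a,
    hasCls_smul_self (a * l), ?_⟩
  refine LinearMap.ext fun v => ?_
  simp only [Module.End.mul_apply, LinearMap.smul_apply, LinearMap.id_apply, smul_eq_mul]
  ring

/-- A glued pair of Jordan blocks. -/
lemma closed_jpair (h3 : Fintype.card F = 3) {l : F} (hl : l = 1 ∨ l = -1) :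
    Closed (Multiset.replicate 2 ((X - C l) * (X - C l))) (-1) := by
  have hll : l * l = 1 := by rcases hl with rfl | rfl <;> simp
  set L := X - C l
  obtain ⟨U, hUg, hUd, hUs, hUF, hUe⟩ := closed_diag ({L, L} : Multiset F[X]) (by simp)
    (fun f hf => by
      have : f = L := by simpa using hf
      exact this ▸ ⟨monic_X_sub_C l, natDegree_X_sub_C l⟩)
    (by rw [Multiset.insert_eq_cons, cdet_cons, cdet_lin, hll])
  have hUe' : U = {X ^ 2 + 1} := by
    rw [hUe]
    simp only [Multiset.insert_eq_cons, Multiset.card_cons, Multiset.card_singleton]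
    rw [show ((-1 : F) ^ (1 + 1 + 1)) = -1 by norm_num, map_neg, map_one, sub_neg_eq_add]
  subst hUe'
  set U₂ : Multiset F[X] := {X - C (1 : F), X - C (-1 : F)}
  have h2 : F2 ({L, L} : Multiset F[X]) U₂ U₂ := by
    have := (f2_lin (l := l) (a := 1)).add (f2_lin (l := l) (a := -1))
    rw [one_mul, neg_one_mul, Multiset.singleton_add, Multiset.singleton_add] at this
    rcases hl with rfl | rfl
    · exact this
    · rw [neg_neg, Multiset.singleton_add] at this
      rw [show ((X - C (-1 : F)) ::ₘ {X - C 1} : Multiset F[X]) = U₂ from Multiset.pair_comm _ _] at this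
      exact this
  have hU₂g : Good U₂ := by
    show Good ({X - C (1 : F)} + {X - C (-1 : F)})
    exact (good_lin one_ne_zero).add (good_lin (by simp))
  have hcop : IsCoprime ({X ^ 2 + 1} : Multiset F[X]).prod U₂.prod := by
    rw [Multiset.prod_singleton, show U₂.prod = (X - C (1 : F)) * (X - C (-1 : F)) by simp [U₂]]
    refine ⟨-1, 1, ?_⟩
    have h2' : (2 : F[X]) = -1 := by
      rw [← map_ofNat C, two_eq h3, map_neg, map_one]
    simp only [map_one, map_neg]
    linear_combination (-1 : F[X]) * h2'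
  have hg := F2.glue (w₁ := 0) (w₂ := 0) (Multiset.replicate 2 (L, L))
    (fun q hq => by
      rw [Multiset.eq_of_mem_replicate hq]
      exact ⟨monic_X_sub_C l, monic_X_sub_C l, by rw [natDegree_X_sub_C]; exact one_pos⟩)
    (by simpa [Multiset.map_replicate, Multiset.replicate_succ] using hUF)
    (by simpa [Multiset.map_replicate, Multiset.replicate_succ] using h2)
    (fun q hq => absurd hq (Multiset.notMem_zero q)) (fun q hq => absurd hq (Multiset.notMem_zero q)) hcop
  refine ⟨{X ^ 2 + 1} + U₂, hUg.add hU₂g, ?_, hUs.add_right hU₂g, by simpa [Multiset.map_replicate] using hg⟩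
  rw [cdet_add, hUd, show U₂ = {X - C (1 : F)} + {X - C (-1 : F)} from rfl, cdet_add, cdet_lin, cdet_lin]
  ring

/-- Jordan blocks with linear ones. -/
lemma closed_squares (h3 : Fintype.card F = 3) {l : F} (hl : l = 1 ∨ l = -1) {k m : ℕ} (hk : 0 < k)
    (hd : l ^ m = 1) (hn : 3 ≤ 2 * k + m) :
    Closed (Multiset.replicate k ((X - C l) * (X - C l)) + Multiset.replicate m (X - C l)) 1 := by
  have hl0 : l ≠ 0 := by rcases hl with rfl | rfl <;> simp
  have hll : l * l = 1 := by rcases hl with rfl | rfl <;> simp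
  set S := (X - C l) * (X - C l)
  have hS1 : Closed ({S} : Multiset F[X]) (-1) := by
    have hc : cdet {S} = 1 := by rw [cdet_mul (monic_X_sub_C l) (monic_X_sub_C l), cdet_lin, hll]
    have := closed_quad (f := S) ((monic_X_sub_C l).mul (monic_X_sub_C l)) (by simp [S, hl0])
      (by rw [natDegree_mul (X_sub_C_ne_zero l) (X_sub_C_ne_zero l), natDegree_X_sub_C]) hc one_ne_zero (c := -1)
      (by simp) (ne_one h3)
    rwa [one_mul] at this
  have hSk : ∀ j, 0 < j → Closed (Multiset.replicate j S) ((-1) ^ j) := fun j hj => by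
    have := hS1.replicate j hj
    rwa [Multiset.nsmul_singleton] at this
  have hlin : ∀ j, 0 < j → l ^ j = 1 → Closed (Multiset.replicate j (X - C l)) 1 := fun j hj hj1 =>
    Closed.of_diag _ (fun h0 => by have := congrArg Multiset.card h0; simp at this; omega)
      (fun f hf => by rw [Multiset.eq_of_mem_replicate hf]; exact ⟨monic_X_sub_C l, natDegree_X_sub_C l⟩)
      (by rw [cdet_replicate, cdet_lin, hj1])
  rcases Nat.even_or_odd k with hev | hodd
  · have h1 := hSk k hk
    rw [hev.neg_one_pow] at h1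
    rcases Nat.eq_zero_or_pos m with rfl | hm
    · simpa using h1
    · simpa using h1.add (hlin m hm hd)
  have h1 := hSk k hk
  rw [hodd.neg_one_pow] at h1
  rcases Nat.eq_zero_or_pos m with rfl | hm
  · obtain ⟨j, rfl⟩ : ∃ j, k = 2 + (j + 1) := ⟨k - 3, by
      obtain ⟨i, rfl⟩ := hodd; omega⟩
    have := (closed_jpair h3 hl).add (hSk (j + 1) (by omega))
    rw [← Multiset.replicate_add] at this
    have he : ((-1 : F) ^ (j + 1)) = -1 := by
      have hodd' : Odd (j + 1) := by
        obtain ⟨i, hi⟩ := hodd; exact ⟨i - 1, by omega⟩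
      exact hodd'.neg_one_pow
    rw [he, neg_one_mul, neg_neg] at this
    simpa using this
  have key : ∃ j, j ≤ m ∧ l ^ j = 1 ∧ Closed (Multiset.replicate j (X - C l)) (-1) := by
    rcases hl with rfl | rfl
    · refine ⟨1, hm, pow_one _, ?_⟩
      have := (chain_lin (monic_X_sub_C (1 : F)) (natDegree_X_sub_C _) (a := (-1 : F)) (by simp))
      rw [cdet_lin, mul_one] at this
      simpa using this.close (by simp)
    · have h2m : 2 ≤ m := by
        by_contra hlt
        obtain rfl : m = 1 := by omega
        rw [pow_one] at hd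
        exact ne_one h3 hd
      refine ⟨2, h2m, by simp, ?_⟩
      have c1 := chain_lin (monic_X_sub_C (-1 : F)) (natDegree_X_sub_C _) (a := (1 : F)) one_ne_zero
      have c2 := chain_lin (monic_X_sub_C (-1 : F)) (natDegree_X_sub_C _) (a := (-1 : F)) (by simp)
      rw [cdet_lin, one_mul] at c1
      rw [cdet_lin, neg_one_mul, neg_neg] at c2
      have := (c1.comp (by simp) c2).close one_ne_zero
      simpa [Multiset.replicate_succ] using this
  obtain ⟨j, hjm, hj1, hj⟩ := key
  have h2 := h1.add hj
  rw [neg_one_mul, neg_neg] at h2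
  rcases Nat.eq_zero_or_pos (m - j) with h0 | h0
  · rwa [show m = j by omega]
  · have := h2.add (hlin (m - j) h0 (by
      have e : l ^ m = l ^ j * l ^ (m - j) := by rw [← pow_add, Nat.add_sub_cancel' hjm]
      rw [hd, hj1, one_mul] at e; exact e.symm))
    rw [add_assoc, ← Multiset.replicate_add, Nat.add_sub_cancel' hjm, one_mul] at this
    exact this

lemma cdet_pow {f : F[X]} (hf : f.Monic) (j : ℕ) : cdet {f ^ j} = cdet {f} ^ j := by
  induction j with
  | zero => simp [cdet]
  | succ j ih => rw [pow_succ, cdet_mul (hf.pow j) hf, ih, pow_succ]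

/-- The class below a quadratic pair. -/
lemma bottom (h3 : Fintype.card F = 3) {h' : F[X]} (hm : h'.Monic) (hd : cdet {h'} = 1) (hpos : 0 < h'.natDegree) :
    ∃ (U : Multiset F[X]) (δ : F), (δ = 1 ∨ δ = -1) ∧ Good U ∧ cdet U = δ ∧
      (∀ P : F[X], (∀ x, P.eval x ≠ 0) → IsCoprime P U.prod) ∧ F2 {h'} U U := by
  have hcop : ∀ (P : F[X]) (x : F), P.eval x ≠ 0 → IsCoprime P (X - C x) := fun P x hx =>
    ((irreducible_X_sub_C x).coprime_iff_not_dvd.mpr fun hd => hx (dvd_iff_isRoot.mp hd)).symm
  obtain ⟨j, hj⟩ : ∃ j, h'.natDegree = j + 1 := ⟨h'.natDegree - 1, by omega⟩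
  rcases Nat.eq_zero_or_pos j with rfl | hjpos
  · refine ⟨{X - C 1}, 1, Or.inl rfl, good_lin one_ne_zero, cdet_lin 1,
      fun P hP => by rw [Multiset.prod_singleton]; exact hcop P 1 (hP 1), ?_⟩
    have he : h' = X - C 1 := by
      conv_lhs => rw [hm.eq_X_add_C hj]
      simp only [cdet, Multiset.map_singleton, Multiset.prod_singleton, hj, zero_add, pow_one] at hd
      rw [show h'.coeff 0 = -1 by linear_combination -hd, map_neg, sub_eq_add_neg]
    have := f2_lin (F := F) (l := 1) (a := 1)
    rw [mul_one] at this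
    rwa [he]
  set s : F[X] := (X - C (-1 : F)) ^ j
  have hsm : s.Monic := (monic_X_sub_C _).pow j
  have hsd : s.natDegree = j := by rw [(monic_X_sub_C (-1 : F)).natDegree_pow, natDegree_X_sub_C, mul_one]
  have hs0 : s.coeff 0 ≠ 0 := by
    rw [coeff_zero_eq_eval_zero, eval_pow]; simp
  have hs1 : s.eval 1 ≠ 0 := by
    rw [eval_pow]; refine pow_ne_zero _ ?_
    simp only [eval_sub, eval_X, eval_C]
    intro h; exact ne_one h3 (by linear_combination -h)
  have hF := F2.cyclic hm hsm (by omega) (by omega) hs0 (one_ne_zero (α := F)) one_ne_zero hs1 hs1 (by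
    simp only [cdet, Multiset.map_singleton, Multiset.prod_singleton, hj] at hd
    rw [hsd, div_one]
    have h1 : ((-1 : F) ^ (j + 1)) * (-1) ^ (j + 1) = 1 := by rw [← mul_pow]; simp
    have h2 : h'.coeff 0 = (-1) ^ (j + 1) := by
      linear_combination (-1 : F) ^ (j + 1) * hd - h'.coeff 0 * h1
    rw [h2, pow_succ]; ring)
  refine ⟨{X - C 1, s}, (-1) ^ j, neg_one_pow_eq_or F j, ?_, ?_, fun P hP => ?_, hF⟩
  · show Good ({X - C (1 : F)} + {s})
    refine (good_lin one_ne_zero).add fun x hx => ?_
    rw [Multiset.mem_singleton.mp hx]; exact ⟨hsm, hs0⟩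
  · rw [Multiset.insert_eq_cons, cdet_cons, cdet_lin, one_mul, cdet_pow (monic_X_sub_C _), cdet_lin]
  · rw [Multiset.insert_eq_cons, Multiset.prod_cons, Multiset.prod_singleton]
    exact (hcop P 1 (hP 1)).mul_right (hcop P (-1) (hP (-1))).pow_right

/-- All classes of determinant one over three elements in dimension at least three. -/
theorem closed_three (h3 : Fintype.card F = 3) :
    ∀ (N : ℕ) (w : Multiset F[X]), Multiset.card w ≤ N → Inv w → 3 ≤ (w.map natDegree).sum → cdet w = 1 →
      Closed w 1 := by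
  classical
  intro N
  induction N with
  | zero =>
    intro w hN _ hdeg _
    rw [Multiset.card_eq_zero.mp (Nat.le_zero.mp hN)] at hdeg
    simp at hdeg
  | succ N ih =>
    intro w hN hI hdeg hd
    have hw0 : w ≠ 0 := fun h => by rw [h] at hdeg; simp at hdeg
    have hval : ∀ f ∈ w, cdet {f} = 1 ∨ cdet {f} = -1 := fun f hf =>
      unit_cases h3 (Good.cdet_ne_zero fun x hx => by
        rw [Multiset.mem_singleton.mp hx]; exact hI.1.good f hf)
    by_cases hbad : ∃ f ∈ w, f.natDegree = 2 ∧ cdet {f} = -1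
    swap
    · push Not at hbad
      have hlink : ∀ f ∈ w, Linkable f := fun f hf => by
        by_cases h2 : f.natDegree = 2
        · exact Or.inr (Or.inr ⟨h3, (hval f hf).resolve_right (hbad f hf h2)⟩)
        · exact Or.inl h2
      by_cases hbig : ∃ f ∈ w, 3 ≤ f.natDegree
      · exact closed_big w hI.1 hd hlink hbig one_ne_zero
      push Not at hbig
      by_cases h2 : ∃ f ∈ w, f.natDegree = 2
      swap
      · push Not at h2
        exact Closed.of_diag w hw0 (fun f hf => ⟨(hI.1 f hf).1, by
          have := (hI.1 f hf).2.2; have := hbig f hf; have := h2 f hf; omega⟩) hd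
      by_cases hnc : ∀ f ∈ w, f.natDegree = 2 → ∀ g ∈ w.erase f, ¬ IsCoprime f g
      swap
      · push Not at hnc
        obtain ⟨f, hf, hf2, g, hg, hc⟩ := hnc
        obtain ⟨w', hw'⟩ := Multiset.exists_cons_of_mem hg
        have hwe : w = f ::ₘ g ::ₘ w' := by rw [← hw', Multiset.cons_erase hf]
        have hgpos := (hI.1 g (Multiset.mem_of_mem_erase hg)).2.2
        have hb := hI.1
        rw [hwe] at hd hb hlink ⊢
        exact closed_merge hc hb hd (by omega)
          (fun x hx => hlink x (Multiset.mem_cons_of_mem (Multiset.mem_cons_of_mem hx))) one_ne_zero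
      rcases small_shape hI (fun f hf => Nat.le_of_lt_succ (hbig f hf)) h2 hnc with
        ⟨f, hfi, hfm, hf2, hf0, k, hk, rfl⟩ | ⟨l, k, m, hl, hk, rfl⟩
      · have hfd : cdet {f} = 1 := (hval f (Multiset.mem_replicate.mpr ⟨hk.ne', rfl⟩)).resolve_right
          (hbad f (Multiset.mem_replicate.mpr ⟨hk.ne', rfl⟩) hf2)
        rw [irr_d1 h3 hfm hf2 hfi hfd]
        have := (closed_S h3).replicate k hk
        rwa [Multiset.nsmul_singleton, one_pow] at this
      · have hl' := unit_cases h3 hl
        refine closed_squares h3 hl' hk ?_ ?_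
        · rw [cdet_add, cdet_replicate, cdet_replicate, cdet_mul (monic_X_sub_C l) (monic_X_sub_C l), cdet_lin] at hd
          have hll : l * l = 1 := by rcases hl' with rfl | rfl <;> simp
          rwa [hll, one_pow, one_mul] at hd
        · rw [Multiset.map_add, Multiset.sum_add, Multiset.map_replicate, Multiset.map_replicate,
            Multiset.sum_replicate, Multiset.sum_replicate, natDegree_mul (X_sub_C_ne_zero l) (X_sub_C_ne_zero l),
            natDegree_X_sub_C] at hdeg
          simp only [smul_eq_mul] at hdeg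
          omega
    obtain ⟨f, hf, hf2, hfd⟩ := hbad
    obtain ⟨hfm, hf0, -⟩ := hI.1 f hf
    have hfi : Irreducible f := by
      rcases hI.2 f hf hf2 with hi | ⟨l, hl⟩
      · exact hi
      · exfalso
        rw [hl, cdet_mul (monic_X_sub_C l) (monic_X_sub_C l), cdet_lin] at hfd
        have hl0 : l ≠ 0 := fun h => by rw [h] at hfd; simp at hfd
        rcases unit_cases h3 hl0 with rfl | rfl <;> exact ne_one h3 (by linear_combination -hfd)
    by_cases hcop : ∃ g ∈ w.erase f, IsCoprime f g
    · obtain ⟨g, hg, hc⟩ := hcop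
      obtain ⟨w', hw'⟩ := Multiset.exists_cons_of_mem hg
      have hwe : w = f ::ₘ g ::ₘ w' := by rw [← hw', Multiset.cons_erase hf]
      obtain ⟨hgm, hg0, hgpos⟩ := hI.1 g (Multiset.mem_of_mem_erase hg)
      have hb := hI.1
      have hI2 := hI.2
      rw [hwe] at hd hb hN hdeg hI2 ⊢
      refine (ih (f * g ::ₘ w') ?_ ⟨blocks_mul hb, ?_⟩ ?_ (by rwa [cdet_merge hfm hgm])).split hfm hgm hc
      · simp only [Multiset.card_cons] at hN ⊢; omega
      · intro x hx h2
        rcases Multiset.mem_cons.mp hx with rfl | hx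
        · rw [natDegree_mul hfm.ne_zero hgm.ne_zero] at h2; omega
        · exact hI2 x (Multiset.mem_cons_of_mem (Multiset.mem_cons_of_mem hx)) h2
      · simp only [Multiset.map_cons, Multiset.sum_cons, natDegree_mul hfm.ne_zero hgm.ne_zero] at hdeg ⊢; omega
    push Not at hcop
    have hall : ∀ g ∈ w.erase f, f ∣ g := fun g hg => dvd_of_not_coprime hfi (hcop g hg)
    obtain ⟨g, hg, hgd⟩ : ∃ g ∈ w.erase f, cdet {g} = -1 := by
      by_contra hcon
      push Not at hcon
      have h1 : cdet (w.erase f) = 1 := by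
        refine Multiset.prod_eq_one fun x hx => ?_
        obtain ⟨g, hg, rfl⟩ := Multiset.mem_map.mp hx
        have := (hval g (Multiset.mem_of_mem_erase hg)).resolve_right (hcon g hg)
        simpa [cdet] using this
      rw [← Multiset.cons_erase hf, cdet_cons, hfd, h1, mul_one] at hd
      exact ne_one h3 hd
    obtain ⟨w', hw'⟩ := Multiset.exists_cons_of_mem hg
    have hwe : w = f ::ₘ g ::ₘ w' := by rw [← hw', Multiset.cons_erase hf]
    obtain ⟨hgm, hg0, hgpos⟩ := hI.1 g (Multiset.mem_of_mem_erase hg)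
    have hd' : cdet w' = 1 := by
      rw [hwe, cdet_cons, cdet_cons, hfd, hgd, ← mul_assoc, show (-1 : F) * -1 = 1 by norm_num, one_mul] at hd
      exact hd
    have hI' : Inv w' := hI.mono (by rw [hwe]; exact (Multiset.le_cons_self _ _).trans (Multiset.le_cons_self _ _))
    have hrest : w' = 0 ∨ Closed w' 1 := by
      rcases Nat.lt_or_ge (w'.map natDegree).sum 3 with hlt | hge
      · left
        refine Multiset.eq_zero_of_forall_notMem fun x hx => ?_
        obtain ⟨t, rfl⟩ := Multiset.exists_cons_of_mem hx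
        have hxe : x ∈ w.erase f := by
          rw [hw']; exact Multiset.mem_cons_of_mem (Multiset.mem_cons_self _ _)
        obtain ⟨hxm, hx0, -⟩ := hI'.1 x (Multiset.mem_cons_self _ _)
        have hle := natDegree_le_of_dvd (hall x hxe) hxm.ne_zero
        simp only [Multiset.map_cons, Multiset.sum_cons] at hlt
        have hxf : x = f := eq_of_irreducible_dvd hfm hxm (by omega) (hall x hxe)
        have ht : t = 0 := by
          refine Multiset.eq_zero_of_forall_notMem fun y hy => ?_
          obtain ⟨t', rfl⟩ := Multiset.exists_cons_of_mem hy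
          have := (hI'.1 y (Multiset.mem_cons_of_mem (Multiset.mem_cons_self _ _))).2.2
          simp only [Multiset.map_cons, Multiset.sum_cons] at hlt
          omega
        rw [ht, hxf] at hd'
        rw [show (f ::ₘ (0 : Multiset F[X])) = {f} from rfl, hfd] at hd'
        exact ne_one h3 hd'
      · right
        refine ih w' ?_ hI' hge hd'
        rw [hwe] at hN; simp only [Multiset.card_cons] at hN; omega
    have hpair : Closed ({f, g} : Multiset F[X]) 1 := by
      by_cases hgf : g = f
      · subst hgf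
        obtain ⟨P, hP, hPd, hPs, -, hPF⟩ := pair_top h3 hfm hf2 hfi hfd (δ := 1) (Or.inl rfl)
        exact ⟨{P}, hP, hPd, hPs, hPF⟩
      obtain ⟨h', hh'⟩ := hall g hg
      have hh'm : h'.Monic := hfm.of_mul_monic_left (hh' ▸ hgm)
      have hh'd : cdet {h'} = 1 := by
        rw [hh', cdet_mul hfm hh'm, hfd] at hgd
        linear_combination -hgd
      have hh'pos : 0 < h'.natDegree := by
        rcases Nat.eq_zero_or_pos h'.natDegree with h0 | h0
        · exfalso; apply hgf
          rw [hh', eq_one_of_monic_natDegree_zero hh'm h0, mul_one]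
        · exact h0
      obtain ⟨U, δ, hδ, hU, hUd, hUc, hUF⟩ := bottom h3 hh'm hh'd hh'pos
      obtain ⟨P, hP, hPd, hPs, hPr, hPF⟩ := pair_top h3 hfm hf2 hfi hfd hδ
      have := F2.glue (w₁ := {f}) (w₂ := 0) ({(f, h')} : Multiset (F[X] × F[X]))
        (fun q hq => by rw [Multiset.mem_singleton.mp hq]; exact ⟨hfm, hh'm, hh'pos⟩)
        (by simpa using hPF) (by simpa using hUF)
        (fun q hq => by rw [Multiset.mem_singleton.mp hq]; exact hfm) (fun q hq => absurd hq (Multiset.notMem_zero q))
        (by rw [Multiset.prod_singleton]; exact hUc P hPr)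
      refine ⟨{P} + U, hP.add hU, ?_, hPs.add_right hU, ?_⟩
      · rw [cdet_add, hPd, hUd]
        rcases hδ with rfl | rfl <;> norm_num
      · rw [hh']
        simpa using this
    rcases hrest with h0 | hr
    · rw [hwe, h0]; exact hpair
    · have := hpair.add hr
      rw [hwe]
      simpa using this

end Three

end Calc

end H41
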