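import Cfsg.Agent.H41.CommCases
import Cfsg.Agent.H41.CommWitness

/-!
Closed classes over the field with two elements.
-/

set_option autoImplicit false

open Polynomial

namespace H41

namespace Calc

namespace Two

variable {F : Type*} [Field F] [Fintype F]

lemma charP_two (h2 : Fintype.card F = 2) : CharP F 2 :=
  haveI : Fact (Nat.Prime 2) := ⟨Nat.prime_two⟩
  charP_of_card_eq_prime h2

lemma two_eq (h2 : Fintype.card F = 2) : (2 : F[X]) = 0 := by
  haveI := charP_two h2
  rw [show (2 : F[X]) = C ((2 : ℕ) : F) from by rw [Nat.cast_ofNat, map_ofNat], CharP.cast_eq_zero, map_zero]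

lemma one_of_ne (h2 : Fintype.card F = 2) {x : F} (hx : x ≠ 0) : x = 1 := by
  have := FiniteField.pow_card_sub_one_eq_one x hx
  rwa [h2, pow_one] at this

lemma closed_of_f2 (h2 : Fintype.card F = 2) {w U : Multiset F[X]} (hU : Good U) (h : F2 w U U) : Closed w 1 :=
  ⟨U, hU, one_of_ne h2 hU.cdet_ne_zero,
    fun _ _ _ u hu => ⟨1, by simp, by rw [map_one, one_of_ne h2 hu]⟩, h⟩

/-- The linear factor. -/
noncomputable def L (F : Type*) [Field F] : F[X] := X - C 1

/-- The irreducible quadratic. -/
noncomputable def Q (F : Type*) [Field F] : F[X] := X ^ 2 + X + 1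

/-- An irreducible cubic. -/
noncomputable def Cu (F : Type*) [Field F] : F[X] := X ^ 3 + X + 1

omit [Fintype F] in
lemma L_spec : (L F).Monic ∧ (L F).natDegree = 1 ∧ (L F).coeff 0 ≠ 0 :=
  ⟨monic_X_sub_C 1, natDegree_X_sub_C 1, by simp [L]⟩

omit [Fintype F] in
lemma Q_spec : (Q F).Monic ∧ (Q F).natDegree = 2 ∧ (Q F).coeff 0 ≠ 0 := by
  refine ⟨?_, by unfold Q; compute_degree!, by simp [Q]⟩
  rw [Q, add_assoc]
  refine monic_X_pow_add (lt_of_le_of_lt (degree_add_le _ _) ?_)
  rw [degree_X, degree_one]; norm_num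

omit [Fintype F] in
lemma Cu_spec : (Cu F).Monic ∧ (Cu F).natDegree = 3 ∧ (Cu F).coeff 0 ≠ 0 := by
  refine ⟨?_, by unfold Cu; compute_degree!, by simp [Cu]⟩
  rw [Cu, add_assoc]
  refine monic_X_pow_add (lt_of_le_of_lt (degree_add_le _ _) ?_)
  rw [degree_X, degree_one]; norm_num

omit [Fintype F] in
lemma good_single {f : F[X]} (hf : f.Monic) (h0 : f.coeff 0 ≠ 0) : Good ({f} : Multiset F[X]) := fun g hg => by
  rw [Multiset.mem_singleton.mp hg]; exact ⟨hf, h0⟩

omit [Fintype F] in
lemma coprime_L {P : F[X]} (h : P.eval 1 ≠ 0) : IsCoprime (L F) P :=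
  (irreducible_X_sub_C (1 : F)).coprime_iff_not_dvd.mpr fun hd => h (dvd_iff_isRoot.mp hd)

lemma eval_Q (h2 : Fintype.card F = 2) : (Q F).eval 1 ≠ 0 := by
  have h := congrArg (eval (1 : F)) (two_eq h2)
  rw [eval_ofNat, eval_zero] at h
  simp only [Q, eval_add, eval_pow, eval_X, eval_one, one_pow]
  intro h'
  exact one_ne_zero (α := F) (by linear_combination h' - h)

lemma eval_Cu (h2 : Fintype.card F = 2) : (Cu F).eval 1 ≠ 0 := by
  have h := congrArg (eval (1 : F)) (two_eq h2)
  rw [eval_ofNat, eval_zero] at h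
  simp only [Cu, eval_add, eval_pow, eval_X, eval_one, one_pow]
  intro h'
  exact one_ne_zero (α := F) (by linear_combination h' - h)

lemma coe_Q (h2 : Fintype.card F = 2) (φ : ZMod 2 →+* F) :
    ofCoeffs φ (![1, 1] : Fin 2 → ZMod 2) = Q F ∧ ofCoeffs φ (![1, 0] : Fin 2 → ZMod 2) = L F * L F ∧
    ofCoeffs φ (![1, 1, 0] : Fin 3 → ZMod 2) = Cu F ∧ ofCoeffs φ (![1, 1, 1] : Fin 3 → ZMod 2) = L F ^ 3 := by
  have h := two_eq h2
  refine ⟨?_, ?_, ?_, ?_⟩
  · simp [ofCoeffs, Q, Fin.sum_univ_two]; ring
  · simp [ofCoeffs, L, Fin.sum_univ_two]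
    linear_combination (X : F[X]) * h
  · simp [ofCoeffs, Cu, Fin.sum_univ_three]; ring
  · simp [ofCoeffs, L, Fin.sum_univ_three]
    linear_combination (2 * X ^ 2 - X + 1 : F[X]) * h

lemma closed_Q (h2 : Fintype.card F = 2) : Closed ({Q F} : Multiset F[X]) 1 := by
  haveI := charP_two h2
  obtain ⟨hQ, hS, -, -⟩ := coe_Q h2 (ZMod.castHom (dvd_refl 2) F)
  have := q2_Q (ZMod.castHom (dvd_refl 2) F)
  rw [hQ, hS] at this
  exact closed_of_f2 h2 (good_single (L_spec.1.mul L_spec.1) (by simp [L_spec.2.2])) this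

omit [Fintype F] in
lemma replicate_one_of {U : Multiset F[X]} (hU : Good U) {n : ℕ} (hn : (U.map natDegree).sum = n) :
    F2 (Multiset.replicate n (L F)) U U := hn ▸ F2.replicate_one hU

lemma closed_pair (h2 : Fintype.card F = 2) : Closed (Multiset.replicate 2 (L F * L F)) 1 := by
  have hQ := good_single (F := F) Q_spec.1 Q_spec.2.2
  have hS := good_single (F := F) (L_spec.1.mul L_spec.1) (by simp [L_spec.2.2])
  refine closed_of_f2 h2 (hQ.add hS) ?_
  have h1 := replicate_one_of hQ (n := 2) (by simp [Q_spec.2.1])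
  have h3 := replicate_one_of hS (n := 2) (by simp [natDegree_mul L_spec.1.ne_zero L_spec.1.ne_zero, L_spec.2.1])
  have := F2.glue (w₁ := 0) (w₂ := 0) (Multiset.replicate 2 (L F, L F))
    (fun q hq => by rw [Multiset.eq_of_mem_replicate hq]; exact ⟨L_spec.1, L_spec.1, by simp [L_spec.2.1]⟩)
    (by simpa [Multiset.map_replicate] using h1) (by simpa [Multiset.map_replicate] using h3)
    (fun q hq => absurd hq (Multiset.notMem_zero q)) (fun q hq => absurd hq (Multiset.notMem_zero q))
    (by
      rw [Multiset.prod_singleton, Multiset.prod_singleton]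
      exact ((coprime_L (eval_Q h2)).mul_left (coprime_L (eval_Q h2))).symm)
  simpa [Multiset.map_replicate] using this

lemma closed_triple (h2 : Fintype.card F = 2) : Closed (Multiset.replicate 3 (L F * L F)) 1 := by
  have hC := good_single (F := F) Cu_spec.1 Cu_spec.2.2
  have hL : Good (Multiset.replicate 3 (L F)) := fun g hg => by
    rw [Multiset.eq_of_mem_replicate hg]; exact ⟨L_spec.1, L_spec.2.2⟩
  refine closed_of_f2 h2 (hL.add hC) ?_
  have h1 := replicate_one_of hL (n := 3) (by simp [Multiset.map_replicate, L_spec.2.1])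
  have h3 := replicate_one_of hC (n := 3) (by simp [Cu_spec.2.1])
  have := F2.glue (w₁ := 0) (w₂ := 0) (Multiset.replicate 3 (L F, L F))
    (fun q hq => by rw [Multiset.eq_of_mem_replicate hq]; exact ⟨L_spec.1, L_spec.1, by simp [L_spec.2.1]⟩)
    (by simpa [Multiset.map_replicate] using h1) (by simpa [Multiset.map_replicate] using h3)
    (fun q hq => absurd hq (Multiset.notMem_zero q)) (fun q hq => absurd hq (Multiset.notMem_zero q))
    (by
      rw [Multiset.prod_singleton]
      simp only [Multiset.prod_cons, Multiset.prod_singleton, Multiset.prod_replicate, pow_three]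
      exact (coprime_L (eval_Cu h2)).mul_left ((coprime_L (eval_Cu h2)).mul_left (coprime_L (eval_Cu h2))))
  simpa [Multiset.map_replicate] using this

lemma closed_with_one (h2 : Fintype.card F = 2) : Closed ({L F * L F, L F} : Multiset F[X]) 1 := by
  have hL := good_single (F := F) L_spec.1 L_spec.2.2
  have hQ := good_single (F := F) Q_spec.1 Q_spec.2.2
  refine closed_of_f2 h2 (hL.add hQ) ?_
  have h1 := replicate_one_of hL (n := 1) (by simp [L_spec.2.1])
  have h3 := replicate_one_of hQ (n := 2) (by simp [Q_spec.2.1])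
  have := F2.glue (w₁ := 0) (w₂ := {L F}) ({(L F, L F)} : Multiset (F[X] × F[X]))
    (fun q hq => by rw [Multiset.mem_singleton.mp hq]; exact ⟨L_spec.1, L_spec.1, by simp [L_spec.2.1]⟩)
    (by simpa using h1) (by simpa [Multiset.replicate_succ] using h3)
    (fun q hq => absurd hq (Multiset.notMem_zero q))
    (fun q hq => by rw [Multiset.mem_singleton.mp hq]; exact L_spec.1)
    (by rw [Multiset.prod_singleton, Multiset.prod_singleton]; exact coprime_L (eval_Q h2))
  have e : (L F ::ₘ {L F * L F} : Multiset F[X]) = L F * L F ::ₘ {L F} := Multiset.pair_comm _ _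
  simpa [e] using this

lemma closed_with_three (h2 : Fintype.card F = 2) : Closed ({L F * L F, L F ^ 3} : Multiset F[X]) 1 := by
  haveI := charP_two h2
  let φ := ZMod.castHom (dvd_refl 2) F
  obtain ⟨-, hS, -, hT⟩ := coe_Q h2 φ
  have := q2_J23 φ
  rw [hS, hT] at this
  refine closed_of_f2 h2 (good_single (ofCoeffs_monic _ _).1 ?_) this
  simp [ofCoeffs, Fin.sum_univ_five]

/-- The lower class for a long unipotent block. -/
lemma lower_class (h2 : Fintype.card F = 2) {r : ℕ} (hr : 3 ≤ r) :
    ∃ U : Multiset F[X], Good U ∧ IsCoprime (Q F) U.prod ∧ F2 {L F ^ r} U U := by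
  haveI := charP_two h2
  rcases eq_or_lt_of_le hr with hr3 | hr4
  · subst hr3
    obtain ⟨-, -, hC, hT⟩ := coe_Q h2 (ZMod.castHom (dvd_refl 2) F)
    have := q2_J3 (ZMod.castHom (dvd_refl 2) F)
    rw [hC, hT] at this
    refine ⟨{Cu F}, good_single Cu_spec.1 Cu_spec.2.2, ?_, this⟩
    rw [Multiset.prod_singleton]
    refine ⟨X ^ 2, X + 1, ?_⟩
    simp only [Q, Cu]
    linear_combination (X ^ 4 + X ^ 3 + X ^ 2 + X : F[X]) * two_eq h2
  obtain ⟨j, rfl⟩ : ∃ j, r = j + 1 := ⟨r - 1, by omega⟩
  have hQi : Irreducible (Q F) := by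
    rw [Q_spec.1.irreducible_iff_roots_eq_zero_of_degree_le_three (by rw [Q_spec.2.1]) (by rw [Q_spec.2.1]; omega)]
    refine Multiset.eq_zero_of_forall_notMem fun x hx => ?_
    have hx' := (mem_roots'.mp hx).2
    by_cases h0 : x = 0
    · subst h0; simp [Q, IsRoot] at hx'
    · obtain rfl := one_of_ne h2 h0
      exact eval_Q h2 hx'
  have hdeg : ∀ P : F[X], P.natDegree ≤ 2 → P.degree < ((j : ℕ) : WithBot ℕ) := fun P hP =>
    lt_of_le_of_lt degree_le_natDegree (WithBot.coe_lt_coe.mpr (lt_of_le_of_lt hP (by omega : 2 < j)))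
  have hd1 : (X + 1 : F[X]).natDegree ≤ 2 := by compute_degree!
  have hd2 : (X ^ 2 + 1 : F[X]).natDegree ≤ 2 := by compute_degree!
  obtain ⟨P, hP, hP0, hP1, hPQ⟩ : ∃ P : F[X], P.natDegree ≤ 2 ∧ P.coeff 0 = 1 ∧ P.eval 1 = 0 ∧
      ¬ Q F ∣ X ^ j + P := by
    by_cases hdvd : Q F ∣ X ^ j + (X + 1)
    · refine ⟨X ^ 2 + 1, hd2, by simp, ?_, fun h => ?_⟩
      · have h := congrArg (eval (1 : F)) (two_eq h2)
        rw [eval_ofNat, eval_zero] at h
        simp only [eval_add, eval_pow, eval_X, eval_one, one_pow]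
        linear_combination h
      · have h' := dvd_sub h hdvd
        rw [show (X ^ j + (X ^ 2 + 1)) - (X ^ j + (X + 1)) = X ^ 2 - X by ring] at h'
        have hm : (X ^ 2 - X : F[X]).Monic := monic_X_pow_sub (by rw [degree_X]; norm_num)
        have he := Polynomial.eq_of_monic_of_dvd_of_natDegree_le Q_spec.1 hm h' (by
          rw [Q_spec.2.1]; compute_degree!)
        have := congrArg (fun R : F[X] => R.coeff 0) he
        simp [Q] at this
    · refine ⟨X + 1, hd1, by simp, ?_, hdvd⟩
      have h := congrArg (eval (1 : F)) (two_eq h2)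
      rw [eval_ofNat, eval_zero] at h
      simp only [eval_add, eval_X, eval_one]
      linear_combination h
  set s := X ^ j + P
  have hs : s.Monic := monic_X_pow_add (hdeg P hP)
  have hsd : s.natDegree = j := natDegree_eq_of_degree_eq_some (by
    rw [degree_add_eq_left_of_degree_lt (by rw [degree_X_pow]; exact hdeg P hP), degree_X_pow])
  have hs0 : s.coeff 0 ≠ 0 := by
    simp [s, coeff_X_pow, hP0, show ¬ 0 = j by omega]
  have hs1 : s.eval 1 ≠ 0 := by simp [s, hP1]
  have hf : (L F ^ (j + 1)).Monic := L_spec.1.pow _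
  have hfd : (L F ^ (j + 1)).natDegree = j + 1 := by rw [L_spec.1.natDegree_pow, L_spec.2.1, mul_one]
  have h1 : ∀ a b : F, a ≠ 0 → b ≠ 0 → a = b := fun a b ha hb => (one_of_ne h2 ha).trans (one_of_ne h2 hb).symm
  have hF := F2.cyclic hf hs (by omega) (by omega) hs0 (one_ne_zero (α := F)) one_ne_zero hs1 hs1
    (h1 _ _ (by rw [coeff_zero_eq_eval_zero, eval_pow]; simp [L]) (by simp))
  refine ⟨{X - C 1, s}, fun g hg => ?_, ?_, hF⟩
  · simp only [Multiset.insert_eq_cons, Multiset.mem_cons, Multiset.mem_singleton] at hg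
    rcases hg with rfl | rfl
    exacts [⟨monic_X_sub_C 1, by simp⟩, ⟨hs, hs0⟩]
  · rw [Multiset.insert_eq_cons, Multiset.prod_cons, Multiset.prod_singleton]
    exact (coprime_L (eval_Q h2)).symm.mul_right (hQi.coprime_iff_not_dvd.mpr hPQ)

lemma closed_with_long (h2 : Fintype.card F = 2) {r : ℕ} (hr : 4 ≤ r) :
    Closed ({L F * L F, L F ^ r} : Multiset F[X]) 1 := by
  obtain ⟨r, rfl⟩ : ∃ r', r = r' + 1 := ⟨r - 1, by omega⟩
  obtain ⟨U, hU, hUQ, hUF⟩ := lower_class h2 (r := r) (by omega)
  have hL := good_single (F := F) L_spec.1 L_spec.2.2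
  have hQ := good_single (F := F) Q_spec.1 Q_spec.2.2
  refine closed_of_f2 h2 (hQ.add (hL.add hU)) ?_
  have h1 := replicate_one_of hQ (n := 2) (by simp [Q_spec.2.1])
  have h3 := (replicate_one_of hL (n := 1) (by simp [L_spec.2.1])).add hUF
  have := F2.glue (w₁ := 0) (w₂ := 0) ({(L F, L F), (L F, L F ^ r)} : Multiset (F[X] × F[X]))
    (fun q hq => by
      simp only [Multiset.insert_eq_cons, Multiset.mem_cons, Multiset.mem_singleton] at hq
      rcases hq with rfl | rfl
      · exact ⟨L_spec.1, L_spec.1, by simp [L_spec.2.1]⟩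
      · exact ⟨L_spec.1, L_spec.1.pow _, by rw [L_spec.1.natDegree_pow, L_spec.2.1]; omega⟩)
    (by simpa [Multiset.replicate_succ] using h1) (by simpa [Multiset.replicate_succ] using h3)
    (fun q hq => absurd hq (Multiset.notMem_zero q)) (fun q hq => absurd hq (Multiset.notMem_zero q))
    (by
      simp only [Multiset.prod_cons, Multiset.prod_singleton, Multiset.prod_add]
      exact (coprime_L (eval_Q h2)).symm.mul_right hUQ)
  simpa [pow_succ'] using this

lemma cdet_eq (h2 : Fintype.card F = 2) {w : Multiset F[X]} (h : Good w) : cdet w = 1 := one_of_ne h2 h.cdet_ne_zero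

lemma deg_two_cases (h2 : Fintype.card F = 2) {f : F[X]} (hm : f.Monic) (h0 : f.coeff 0 ≠ 0) (hd : f.natDegree = 2) :
    f = Q F ∨ f = L F * L F := by
  have he : f = X ^ 2 + C (f.coeff 1) * X + C (f.coeff 0) := by
    conv_lhs => rw [hm.as_sum, hd]
    simp [Finset.sum_range_succ]
    ring
  rw [one_of_ne h2 h0] at he
  by_cases h1 : f.coeff 1 = 0
  · right
    rw [he, h1]
    simp [L]
    linear_combination (X : F[X]) * two_eq h2
  · left
    rw [he, one_of_ne h2 h1]
    simp [Q]

lemma closed_noS (h2 : Fintype.card F = 2) (w : Multiset F[X]) (hw : w ≠ 0) (hE : Elem w)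
    (hS : L F * L F ∉ w) : Closed w 1 := by
  induction w using Multiset.induction with
  | empty => exact absurd rfl hw
  | cons f w ih =>
    have h1 : Closed ({f} : Multiset F[X]) 1 := by
      have hb : Blocks ({f} : Multiset F[X]) := (hE.inv.mono (Multiset.singleton_le.mpr (Multiset.mem_cons_self f w))).1
      obtain ⟨hm, h0, hd⟩ := hb f (Multiset.mem_singleton_self f)
      by_cases hd2 : f.natDegree = 2
      · rcases deg_two_cases h2 hm h0 hd2 with rfl | rfl
        · exact closed_Q h2
        · exact absurd (Multiset.mem_cons_self _ _) hS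
      · obtain ⟨δ, hδ, h⟩ := closed_linkable {f} (Multiset.singleton_ne_zero f) hb
          (fun g hg => by rw [Multiset.mem_singleton.mp hg]; exact Or.inl hd2) (cdet_eq h2 hb.good)
        rwa [one_of_ne h2 hδ] at h
    rcases eq_or_ne w 0 with rfl | hw'
    · exact h1
    have := h1.add (ih hw' (hE.mono (Multiset.le_cons_self w f)) fun h => hS (Multiset.mem_cons_of_mem h))
    simpa using this

/-- All classes over two elements, apart from the transvection of the plane. -/
theorem closed_two (h2 : Fintype.card F = 2) :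
    ∀ (N : ℕ) (w : Multiset F[X]), Multiset.card w ≤ N → w ≠ 0 → Elem w → w ≠ {L F * L F} → Closed w 1 := by
  classical
  intro N
  induction N with
  | zero => intro w hN hw _ _; exact absurd (Multiset.card_eq_zero.mp (Nat.le_zero.mp hN)) hw
  | succ N ih =>
    intro w hN hw hE hne
    by_cases hS : L F * L F ∈ w
    swap
    · exact closed_noS h2 w hw hE hS
    obtain ⟨w₁, rfl⟩ := Multiset.exists_cons_of_mem hS
    by_cases hS1 : L F * L F ∈ w₁
    · obtain ⟨w₂, rfl⟩ := Multiset.exists_cons_of_mem hS1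
      rcases eq_or_ne w₂ 0 with rfl | hw2
      · simpa [Multiset.replicate_succ] using closed_pair h2
      by_cases he : w₂ = {L F * L F}
      · subst he; simpa [Multiset.replicate_succ] using closed_triple h2
      · have h3 := (closed_pair h2).add (ih w₂ (by simp only [Multiset.card_cons] at hN; omega) hw2
          (hE.mono ((Multiset.le_cons_self _ _).trans (Multiset.le_cons_self _ _))) he)
        simpa [Multiset.replicate_succ] using h3
    have hw1 : w₁ ≠ 0 := fun h => hne (by rw [h]; rfl)
    obtain ⟨g, hg⟩ := Multiset.exists_mem_of_ne_zero hw1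
    obtain ⟨w₂, rfl⟩ := Multiset.exists_cons_of_mem hg
    have hb := hE.inv.1
    have hpair : Closed ({L F * L F, g} : Multiset F[X]) 1 := by
      have hb2 : Blocks ({L F * L F, g} : Multiset F[X]) :=
        (hE.inv.mono (Multiset.cons_le_cons _ (Multiset.cons_le_cons _ (Multiset.zero_le w₂)))).1
      obtain ⟨hgm, hg0, hgd⟩ := hb2 g (by simp)
      by_cases hc : IsCoprime (L F * L F) g
      · exact closed_merge hc hb2 (cdet_eq h2 hb2.good) (by
          rw [natDegree_mul L_spec.1.ne_zero L_spec.1.ne_zero, L_spec.2.1]; omega)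
          (fun x hx => absurd hx (Multiset.notMem_zero x)) one_ne_zero
      obtain ⟨p, e, hp, hpi, -, he, rfl⟩ := hE g (Multiset.mem_cons_of_mem (Multiset.mem_cons_self _ _))
      have hpL : p = L F := by
        by_contra hne'
        apply hc
        have h := (irreducible_X_sub_C (1 : F)).coprime_iff_not_dvd.mpr fun hd : L F ∣ p =>
          hne' (Polynomial.eq_of_monic_of_associated hp L_spec.1
            ((irreducible_X_sub_C (1 : F)).associated_of_dvd hpi hd).symm)
        exact (h.mul_left h).pow_right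
      subst hpL
      rcases Nat.lt_or_ge e 4 with h4 | h4
      · interval_cases e
        · simpa using closed_with_one h2
        · exact absurd (Multiset.mem_cons.mpr (Or.inl (pow_two (L F)).symm)) hS1
        · exact closed_with_three h2
      · exact closed_with_long h2 h4
    rcases eq_or_ne w₂ 0 with rfl | hw2
    · exact hpair
    have h3 := hpair.add (closed_noS h2 w₂ hw2 (hE.mono ((Multiset.le_cons_self _ _).trans (Multiset.le_cons_self _ _)))
      fun h => hS1 (Multiset.mem_cons_of_mem h))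
    simpa using h3

end Two

end Calc

end H41
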