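import Mathlib
import Cfsg.Agent.H37.Card

/-!
Actions of simple groups of order 2520 on the non-zero vectors of a space of dimension four over the field
with two elements.
-/

set_option autoImplicit false
set_option linter.style.haveILetI false

namespace H41

open MulAction

/-- The hypotheses: `H` is simple of order 2520 and acts on `V` fixing `0`; elements of order five fix only
`0` and elements of order seven fix exactly one further point. -/
structure FourTwoAction (H V : Type*) [Group H] [Finite H] [Zero V] [Finite V] [MulAction H V] : Prop where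
  simple : IsSimpleGroup H
  card_grp : Nat.card H = 2520
  card_set : Nat.card V = 16
  smul_zero : ∀ h : H, h • (0 : V) = 0
  five : ∀ g : H, orderOf g = 5 → ∀ v : V, g • v = v → v = 0
  seven : ∀ g : H, orderOf g = 7 → ∀ v w : V, g • v = v → g • w = w → v ≠ 0 → w ≠ 0 → v = w

namespace FourTwoAction

variable {H V : Type*} [Group H] [Finite H] [Zero V] [Finite V] [MulAction H V]

/-- The number of points of a set stable under an element of prime order, with no fixed point, is a
multiple of that prime. -/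
lemma dvd_ncard_of_no_fixed {p : ℕ} [Fact p.Prime] {g : H} (hg : orderOf g = p) {S : Set V}
    (hS : ∀ v ∈ S, g • v ∈ S) (hfix : ∀ v ∈ S, g • v ≠ v) : p ∣ S.ncard := by
  classical
  have : Fintype V := Fintype.ofFinite V
  let σ : Equiv.Perm V := MulAction.toPerm g
  have hσS : ∀ v, v ∈ S ↔ σ v ∈ S := by
    intro v
    refine ⟨hS v, fun h => ?_⟩
    have : ∀ k : ℕ, (g ^ k) • (σ v) ∈ S := by
      intro k
      induction k with
      | zero => simpa using h
      | succ k ih => rw [pow_succ', mul_smul]; exact hS _ ih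
    have h2 := this (p - 1)
    rw [MulAction.toPerm_apply, ← mul_smul, ← pow_succ, Nat.sub_add_cancel (Fact.out : p.Prime).one_le,
      ← hg, pow_orderOf_eq_one, one_smul] at h2
    exact h2
  let τ : Equiv.Perm S := σ.subtypePerm fun x => (hσS x).symm
  have hτ : τ ^ p = 1 := by
    ext x
    have : ∀ k : ℕ, (((τ ^ k) x : S) : V) = (g ^ k) • (x : V) := by
      intro k
      induction k with
      | zero => simp
      | succ k ih =>
        rw [pow_succ', pow_succ', Equiv.Perm.mul_apply, mul_smul, ← ih]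
        rfl
    rw [this, ← hg, pow_orderOf_eq_one, one_smul, Equiv.Perm.one_apply]
  have h0 : (τ.support)ᶜ.card = 0 := by
    rw [Finset.card_eq_zero, Finset.compl_eq_empty_iff, Finset.eq_univ_iff_forall]
    intro x
    rw [Equiv.Perm.mem_support]
    intro hx
    exact hfix x x.2 (congrArg Subtype.val hx)
  have h1 := Equiv.Perm.card_compl_support_modEq (n := 1) (by simpa using hτ)
  rw [h0] at h1
  rw [← Nat.card_coe_set_eq, Nat.card_eq_fintype_card]
  exact Nat.modEq_zero_iff_dvd.1 h1.symm

variable (A : FourTwoAction H V)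
include A

lemma exists_order (p : ℕ) (hp : p.Prime) (hd : p ∣ 2520) : ∃ g : H, orderOf g = p := by
  haveI := Fact.mk hp
  exact exists_prime_orderOf_dvd_card' p (by rw [A.card_grp]; exact hd)

lemma smul_ne_zero {h : H} {v : V} (hv : v ≠ 0) : h • v ≠ 0 := fun e =>
  hv ((MulAction.injective h) (e.trans (A.smul_zero h).symm))

lemma orbit_subset {v : V} (hv : v ≠ 0) : MulAction.orbit H v ⊆ ({0}ᶜ : Set V) := by
  rintro _ ⟨h, rfl⟩; exact A.smul_ne_zero hv

lemma five_dvd_orbit {v : V} (hv : v ≠ 0) : 5 ∣ (MulAction.orbit H v).ncard := by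
  obtain ⟨g, hg⟩ := A.exists_order 5 (by norm_num) (by norm_num)
  haveI : Fact (Nat.Prime 5) := ⟨by norm_num⟩
  exact dvd_ncard_of_no_fixed hg (fun w hw => MulAction.mem_orbit_of_mem_orbit g hw)
    fun w hw e => A.orbit_subset hv hw (A.five g hg w e)

lemma orbit_ne_five {v : V} (hv : v ≠ 0) : (MulAction.orbit H v).ncard ≠ 5 := by
  intro h5
  obtain ⟨g, hg⟩ := A.exists_order 5 (by norm_num) (by norm_num)
  let f := MulAction.toPermHom H (MulAction.orbit H v)
  haveI := A.simple
  have hne : f g ≠ 1 := by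
    intro e
    have h2 := Equiv.Perm.congr_fun e ⟨v, MulAction.mem_orbit_self v⟩
    exact hv (A.five g hg v (congrArg Subtype.val h2))
  have hinj : Function.Injective f := by
    rcases (MonoidHom.normal_ker f).eq_bot_or_eq_top with h | h
    · exact (MonoidHom.ker_eq_bot_iff f).1 h
    · exact absurd (MonoidHom.mem_ker.1 (h ▸ Subgroup.mem_top g : g ∈ f.ker)) hne
  have := Subgroup.card_dvd_of_injective f hinj
  rw [A.card_grp, Nat.card_perm, Nat.card_coe_set_eq, h5] at this
  norm_num [Nat.factorial] at this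

lemma orbit_eq {v : V} (hv : v ≠ 0) : MulAction.orbit H v = ({0}ᶜ : Set V) := by
  have hcompl : ({0}ᶜ : Set V).ncard = 15 := by
    rw [Set.ncard_compl, Set.ncard_singleton, A.card_set]
  have hle := Set.ncard_le_ncard (A.orbit_subset hv)
  obtain ⟨k, hk⟩ := A.five_dvd_orbit hv
  have h5 := A.orbit_ne_five hv
  have hpos : 0 < (MulAction.orbit H v).ncard :=
    (Set.ncard_pos).2 ⟨v, MulAction.mem_orbit_self v⟩
  by_contra hne
  obtain ⟨w, hw0, hw⟩ := Set.exists_of_ssubset ((A.orbit_subset hv).lt_of_ne hne)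
  obtain ⟨l, hl⟩ := A.five_dvd_orbit (v := w) hw0
  have h5' := A.orbit_ne_five (v := w) hw0
  have hposw : 0 < (MulAction.orbit H w).ncard :=
    (Set.ncard_pos).2 ⟨w, MulAction.mem_orbit_self w⟩
  have hdis : Disjoint (MulAction.orbit H v) (MulAction.orbit H w) := by
    rw [Set.disjoint_left]
    intro x hxv hxw
    rw [← MulAction.orbit_eq_iff.2 hxv, MulAction.orbit_eq_iff.2 hxw] at hw
    exact hw (MulAction.mem_orbit_self w)
  have := Set.ncard_le_ncard (Set.union_subset (A.orbit_subset hv) (A.orbit_subset (v := w) hw0))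
  rw [Set.ncard_union_eq hdis] at this
  omega

lemma exists_smul_eq_ft {v w : V} (hv : v ≠ 0) (hw : w ≠ 0) : ∃ h : H, h • v = w := by
  have : w ∈ MulAction.orbit H v := by rw [A.orbit_eq hv]; exact hw
  exact this

/-- The points moved to by the stabiliser. -/
lemma seven_dvd_suborbit {v w : V} (hv : v ≠ 0) (hw : w ≠ 0) (hne : w ≠ v) :
    7 ∣ (MulAction.orbit (MulAction.stabilizer H v) w).ncard := by
  haveI : Fact (Nat.Prime 7) := ⟨by norm_num⟩
  have hcard : Nat.card (MulAction.stabilizer H v) * 15 = 2520 := by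
    rw [← A.card_grp, ← (MulAction.stabilizer H v).card_mul_index, MulAction.index_stabilizer,
      A.orbit_eq hv, Set.ncard_compl, Set.ncard_singleton, A.card_set]
  obtain ⟨g, hg⟩ := exists_prime_orderOf_dvd_card' (G := MulAction.stabilizer H v) 7
    (show 7 ∣ Nat.card (MulAction.stabilizer H v) by omega)
  have hg' : orderOf (g : H) = 7 := by rw [Subgroup.orderOf_coe]; exact hg
  refine dvd_ncard_of_no_fixed hg' (fun x hx => MulAction.mem_orbit_of_mem_orbit g hx) fun x hx e => ?_
  obtain ⟨s, rfl⟩ := hx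
  have h1 := A.seven (g : H) hg' v ((s : H) • w) g.2 e hv (A.smul_ne_zero hw)
  exact hne (MulAction.injective (s : H) ((s.2 : (s : H) • v = v).trans h1)).symm

lemma suborbit_subset {v w : V} (hw : w ≠ 0) (hne : w ≠ v) :
    MulAction.orbit (MulAction.stabilizer H v) w ⊆ ({0, v}ᶜ : Set V) := by
  rintro _ ⟨s, rfl⟩
  simp only [Set.mem_compl_iff, Set.mem_insert_iff, Set.mem_singleton_iff, not_or]
  refine ⟨A.smul_ne_zero (h := (s : H)) hw, fun e => hne ?_⟩
  change (s : H) • w = v at e
  exact MulAction.injective (s : H) (e.trans (s.2 : (s : H) • v = v).symm)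

/-- A pair that some element swaps. -/
lemma exists_swapped {v : V} (hv : v ≠ 0) : ∃ x : V, x ≠ 0 ∧ x ≠ v ∧ ∃ s : H, s • v = x ∧ s • x = v := by
  obtain ⟨t, ht⟩ := A.exists_order 2 (by norm_num) (by norm_num)
  obtain ⟨u, hu⟩ : ∃ u : V, t • u ≠ u := by
    by_contra h
    push Not at h
    obtain ⟨g, hg⟩ := A.exists_order 5 (by norm_num) (by norm_num)
    haveI := A.simple
    rcases (MonoidHom.normal_ker (MulAction.toPermHom H V)).eq_bot_or_eq_top with hk | hk
    · have hmem : t ∈ (MulAction.toPermHom H V).ker := MonoidHom.mem_ker.2 (Equiv.ext h)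
      rw [hk, Subgroup.mem_bot] at hmem
      rw [hmem, orderOf_one] at ht
      omega
    · have hmem : g ∈ (MulAction.toPermHom H V).ker := hk ▸ Subgroup.mem_top g
      exact hv (A.five g hg v (Equiv.Perm.congr_fun (MonoidHom.mem_ker.1 hmem) v))
  have hu0 : u ≠ 0 := fun e => hu (by rw [e, A.smul_zero])
  obtain ⟨h, hh⟩ := A.exists_smul_eq_ft hv hu0
  refine ⟨h⁻¹ • t • u, A.smul_ne_zero (A.smul_ne_zero hu0), ?_, h⁻¹ * t * h, ?_, ?_⟩
  · exact fun e => hu ((inv_smul_eq_iff.1 e).trans hh)
  · rw [mul_smul, mul_smul, hh]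
  · have htt : t * t = 1 := by rw [← pow_two, ← ht, pow_orderOf_eq_one]
    rw [mul_smul, mul_smul, smul_inv_smul, smul_smul t, htt, one_smul, inv_smul_eq_iff, hh]

/-- The stabiliser of a point is transitive on the other non-zero points. -/
lemma suborbit_eq {v w : V} (hv : v ≠ 0) (hw : w ≠ 0) (hne : w ≠ v) :
    MulAction.orbit (MulAction.stabilizer H v) w = ({0, v}ᶜ : Set V) := by
  classical
  have : Fintype V := Fintype.ofFinite V
  have : Fintype H := Fintype.ofFinite H
  have h14 : ({0, v}ᶜ : Set V).ncard = 14 := by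
    rw [Set.ncard_compl, Set.ncard_pair (Ne.symm hv), A.card_set]
  have key : ∀ z : V, z ≠ 0 → z ≠ v →
      (MulAction.orbit (MulAction.stabilizer H v) z).ncard = 7 ∨
        MulAction.orbit (MulAction.stabilizer H v) z = ({0, v}ᶜ : Set V) := by
    intro z hz hzv
    obtain ⟨k, hk⟩ := A.seven_dvd_suborbit hv hz hzv
    have hle := Set.ncard_le_ncard (A.suborbit_subset hz hzv)
    have hpos : 0 < (MulAction.orbit (MulAction.stabilizer H v) z).ncard :=
      (Set.ncard_pos).2 ⟨z, MulAction.mem_orbit_self z⟩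
    rcases (show k = 1 ∨ k = 2 by omega) with rfl | rfl
    · exact Or.inl (by omega)
    · exact Or.inr (Set.eq_of_subset_of_ncard_le (A.suborbit_subset hz hzv) (by omega))
  by_contra hnot
  obtain ⟨x, hx0, hxv, s, hs1, hs2⟩ := A.exists_swapped hv
  rcases key x hx0 hxv with h7 | hall
  swap
  · have : w ∈ MulAction.orbit (MulAction.stabilizer H v) x := by rw [hall]; simp [hw, hne]
    rw [MulAction.orbit_eq_iff.2 this] at hnot
    exact hnot hall
  -- the graph of the pairs in the orbit of `(v, x)`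
  let G : SimpleGraph {a : V // a ≠ 0} :=
    { Adj := fun a b => a ≠ b ∧ ∃ h : H, h • v = a.1 ∧ h • x = b.1
      symm := ⟨fun a b ⟨hab, h, h1, h2⟩ => ⟨hab.symm, h * s, by rw [mul_smul, hs1, h2], by rw [mul_smul, hs2, h1]⟩⟩
      loopless := ⟨fun a ha => ha.1 rfl⟩ }
  have hdeg : ∀ a, G.degree a = 7 := by
    intro a
    obtain ⟨h, hh⟩ := A.exists_smul_eq_ft hv a.2
    rw [← SimpleGraph.card_neighborSet_eq_degree, ← Nat.card_eq_fintype_card, ← h7, ← Nat.card_coe_set_eq]
    refine Nat.card_congr ((Equiv.ofBijective (fun z => (⟨⟨h • z.1, A.smul_ne_zero ?_⟩, ?_, ?_⟩ :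
      G.neighborSet a)) ⟨?_, ?_⟩).symm)
    · intro e
      exact (A.suborbit_subset hx0 hxv z.2) (by simp [e])
    · intro e
      have e2 : a.1 = h • z.1 := congrArg Subtype.val e
      rw [← hh] at e2
      exact (A.suborbit_subset hx0 hxv z.2) (by simp [← MulAction.injective h e2])
    · obtain ⟨st, hst⟩ := z.2
      exact ⟨h * (st : H), by rw [mul_smul, (st.2 : (st : H) • v = v), hh],
        by rw [mul_smul]; exact congrArg (h • ·) hst⟩
    · intro z z' e
      have := congrArg (fun b : G.neighborSet a => b.1.1) e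
      exact Subtype.ext (MulAction.injective h this)
    · rintro ⟨b, hab, g, hg1, hg2⟩
      have hst : h⁻¹ * g ∈ MulAction.stabilizer H v := by
        rw [MulAction.mem_stabilizer_iff, mul_smul, hg1, ← hh, inv_smul_smul]
      refine ⟨⟨_, ⟨⟨h⁻¹ * g, hst⟩, rfl⟩⟩, Subtype.ext (Subtype.ext ?_)⟩
      change h • ((h⁻¹ * g) • x) = b.1
      rw [mul_smul, smul_inv_smul, hg2]
  have hsum := G.sum_degrees_eq_twice_card_edges
  rw [Finset.sum_congr rfl fun a _ => hdeg a, Finset.sum_const, Finset.card_univ, smul_eq_mul,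
    Fintype.card_subtype_compl, Fintype.card_subtype_eq, ← Nat.card_eq_fintype_card, A.card_set] at hsum
  omega

theorem two_transitive {v w v' w' : V} (hv : v ≠ 0) (hw : w ≠ 0) (hvw : v ≠ w) (hv' : v' ≠ 0) (hw' : w' ≠ 0)
    (hvw' : v' ≠ w') : ∃ h : H, h • v = v' ∧ h • w = w' := by
  obtain ⟨h, hh⟩ := A.exists_smul_eq_ft hv hv'
  have h0 : h • w ≠ 0 := A.smul_ne_zero hw
  have h1 : h • w ≠ v' := fun e => hvw (MulAction.injective h (hh.trans e.symm))
  have : w' ∈ MulAction.orbit (MulAction.stabilizer H v') (h • w) := by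
    rw [A.suborbit_eq hv' h0 h1]; simp [hw', Ne.symm hvw']
  obtain ⟨s, hs⟩ := this
  exact ⟨(s : H) * h, by rw [mul_smul, hh]; exact s.2, by rw [mul_smul]; exact hs⟩

end FourTwoAction

end H41
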