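import Cfsg.Agent.H41.PSL11Data

/-!
The subgroups of `PSL_2(11)` isomorphic to `A_5`.
-/

set_option autoImplicit false
set_option linter.style.haveILetI false

namespace H41

open Matrix
open scoped MatrixGroups

variable {F : Type*} [Field F]

local notation "GF" => Matrix.ProjectiveSpecialLinearGroup (Fin 2) F

namespace Q11

variable (e : ZMod 11 ≃+* F)

/-- A quadruple of determinant one as an element of `SL_2`. -/
def slOf (x : Q11) (h : x.det = 1) : SL(2, ZMod 11) := ⟨x.toM, by rw [det_toM, h]⟩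

lemma coe_slOf (x : Q11) (h : x.det = 1) :
    ((slOf x h : SL(2, ZMod 11)) : Matrix (Fin 2) (Fin 2) (ZMod 11)) = x.toM := rfl

/-- The element of `PSL_2` given by a quadruple. -/
noncomputable def el (x : Q11) : GF :=
  if h : x.det = 1 then
    QuotientGroup.mk' _ (Matrix.SpecialLinearGroup.map (e : ZMod 11 →+* F) (slOf x h))
  else 1

lemma toM_mul (x y : Q11) : (mul x y).toM = x.toM * y.toM := by
  simp [toM, mul, Matrix.mul_fin_two]

lemma toM_neg (x : Q11) : (neg x).toM = -x.toM := by
  simp [toM, neg]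

lemma toM_one : one.toM = 1 := by
  simp [toM, one, Matrix.one_fin_two]

lemma toM_injective : Function.Injective toM := by
  rintro ⟨a, b, c, d⟩ ⟨a', b', c', d'⟩ h
  have h00 := congrFun (congrFun h 0) 0
  have h01 := congrFun (congrFun h 0) 1
  have h10 := congrFun (congrFun h 1) 0
  have h11 := congrFun (congrFun h 1) 1
  simp [toM] at h00 h01 h10 h11
  simp [h00, h01, h10, h11]

lemma el_mul {x y : Q11} (hx : x.det = 1) (hy : y.det = 1) : el e (mul x y) = el e x * el e y := by
  rw [el, el, el, dif_pos (by rw [det_mul, hx, hy, one_mul]), dif_pos hx, dif_pos hy, ← map_mul, ← map_mul]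
  congr 2
  exact Subtype.ext (toM_mul x y)

lemma el_one : el e one = 1 := by
  rw [el, dif_pos (by decide)]
  have : slOf one (by decide) = 1 := Subtype.ext toM_one
  rw [this, map_one, map_one]

lemma el_adj {x : Q11} (hx : x.det = 1) : el e (adj x) = (el e x)⁻¹ := by
  refine eq_inv_of_mul_eq_one_left ?_
  rw [← el_mul e (by rw [det_adj, hx]) hx, ← el_one e]
  congr 1
  obtain ⟨a, b, c, d⟩ := x
  simp only [det] at hx
  simp only [mul, adj, one, Q11.mk.injEq]
  exact ⟨by linear_combination hx, by ring, by ring, by linear_combination hx⟩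

lemma el_conj {g x : Q11} (hg : g.det = 1) (hx : x.det = 1) :
    el e (conj g x) = el e g * el e x * (el e g)⁻¹ := by
  rw [conj, el_mul e (by rw [det_mul, hg, hx, one_mul]) (by rw [det_adj, hg]), el_mul e hg hx, el_adj e hg]

lemma el_eq_iff {x y : Q11} (hx : x.det = 1) (hy : y.det = 1) : el e x = el e y ↔ y = x ∨ y = neg x := by
  haveI : Fact (Nat.Prime 11) := ⟨by norm_num⟩
  have hone : ∀ z : SL(2, ZMod 11), QuotientGroup.mk' (Subgroup.center SL(2, F))
      (Matrix.SpecialLinearGroup.map (e : ZMod 11 →+* F) z) = 1 ↔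
      (z : Matrix (Fin 2) (Fin 2) (ZMod 11)) = 1 ∨ (z : Matrix (Fin 2) (Fin 2) (ZMod 11)) = -1 := by
    intro z
    rw [QuotientGroup.mk'_apply, QuotientGroup.eq_one_iff, Matrix.SpecialLinearGroup.mem_center_iff]
    have hmap : ∀ c : ZMod 11, ((z : Matrix (Fin 2) (Fin 2) (ZMod 11)) = Matrix.scalar (Fin 2) c ↔
        ((Matrix.SpecialLinearGroup.map (e : ZMod 11 →+* F) z : SL(2, F)) : Matrix (Fin 2) (Fin 2) F) =
          Matrix.scalar (Fin 2) (e c)) := by
      intro c
      rw [Matrix.SpecialLinearGroup.map_apply_coe]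
      rw [show Matrix.scalar (Fin 2) (e c) = (e : ZMod 11 →+* F).mapMatrix (Matrix.scalar (Fin 2) c) by
        ext i j; by_cases h : i = j <;> simp [h]]
      exact ((Matrix.map_injective (e : ZMod 11 →+* F).injective).eq_iff).symm
    constructor
    · rintro ⟨r, hr, hz⟩
      obtain ⟨c, rfl⟩ := e.surjective r
      rw [eq_comm, ← hmap c] at hz
      rw [Fintype.card_fin, ← map_pow, ← map_one e, e.injective.eq_iff] at hr
      rcases sq_eq_one_iff.1 hr with rfl | rfl
      · left; rw [hz, map_one]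
      · right; rw [hz, map_neg, map_one]
    · rintro (h | h)
      · exact ⟨e 1, by simp, ((hmap 1).1 (by rw [h, map_one])).symm⟩
      · exact ⟨e (-1), by simp, ((hmap (-1)).1 (by rw [h, map_neg, map_one])).symm⟩
  rw [el, el, dif_pos hx, dif_pos hy, ← inv_mul_eq_one, ← map_inv, ← map_inv, ← map_mul, ← map_mul, hone]
  set X : SL(2, ZMod 11) := slOf x hx
  set Y : SL(2, ZMod 11) := slOf y hy
  have hY : ∀ M : Matrix (Fin 2) (Fin 2) (ZMod 11), ((X⁻¹ * Y : SL(2, ZMod 11)) : Matrix (Fin 2) (Fin 2) (ZMod 11)) = M ↔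
      y.toM = x.toM * M := by
    intro M
    constructor
    · intro h
      have e1 : ((X * (X⁻¹ * Y) : SL(2, ZMod 11)) : Matrix (Fin 2) (Fin 2) (ZMod 11)) = y.toM := by
        rw [mul_inv_cancel_left]; rfl
      rw [← e1, Matrix.SpecialLinearGroup.coe_mul, h]; rfl
    · intro h
      rw [Matrix.SpecialLinearGroup.coe_mul, show (Y : Matrix (Fin 2) (Fin 2) (ZMod 11)) = y.toM from rfl, h, ← Matrix.mul_assoc,
        show x.toM = (X : Matrix (Fin 2) (Fin 2) (ZMod 11)) from rfl, ← Matrix.SpecialLinearGroup.coe_mul,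
        inv_mul_cancel, Matrix.SpecialLinearGroup.coe_one, Matrix.one_mul]
  rw [hY, hY, Matrix.mul_one, Matrix.mul_neg, Matrix.mul_one, ← toM_neg, toM_injective.eq_iff, toM_injective.eq_iff]

lemma el_surjective (g : GF) : ∃ x : Q11, x.det = 1 ∧ el e x = g := by
  obtain ⟨s, rfl⟩ := QuotientGroup.mk'_surjective _ g
  set z : SL(2, ZMod 11) := Matrix.SpecialLinearGroup.map (e.symm : F →+* ZMod 11) s with hz
  refine ⟨⟨z 0 0, z 0 1, z 1 0, z 1 1⟩, ?_, ?_⟩
  · have := z.2; rw [Matrix.det_fin_two] at this; exact this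
  · rw [el, dif_pos (by have := z.2; rw [Matrix.det_fin_two] at this; exact this)]
    congr 1
    apply Subtype.ext
    ext i j
    change e ((toM ⟨z 0 0, z 0 1, z 1 0, z 1 1⟩) i j) = _
    fin_cases i <;> fin_cases j <;> simp [toM, hz]

lemma memQ_iff {L : List Q11} (hL : ∀ y ∈ L, y.det = 1) {x : Q11} (hx : x.det = 1) :
    memQ L x = true ↔ ∃ y ∈ L, el e y = el e x := by
  simp only [memQ, List.any_eq_true, Bool.or_eq_true, decide_eq_true_eq]
  refine exists_congr fun y => and_congr_right fun hy => ?_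
  rw [el_eq_iff e (hL y hy) hx]
  constructor
  · rintro (rfl | rfl)
    · exact Or.inl rfl
    · right; cases x; simp [neg]
  · rintro (rfl | rfl)
    · exact Or.inl rfl
    · right; cases y; simp [neg]

lemma det_of_closed {L : List Q11} (hc : closedList L = true) : ∀ y ∈ L, y.det = 1 := by
  intro y hy
  simp only [closedList, List.all_eq_true, Bool.and_eq_true, decide_eq_true_eq] at hc
  exact (hc y hy).1.1

/-- The subgroup given by a closed list. -/
noncomputable def sub (L : List Q11) (hc : closedList L = true) (h1 : memQ L one = true) : Subgroup GF where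
  carrier := {g | ∃ x ∈ L, el e x = g}
  one_mem' := by
    obtain ⟨y, hy, he⟩ := (memQ_iff e (det_of_closed hc) (by decide)).1 h1
    exact ⟨y, hy, he.trans (el_one e)⟩
  mul_mem' := by
    rintro _ _ ⟨x, hx, rfl⟩ ⟨y, hy, rfl⟩
    have hdx := det_of_closed hc x hx
    have hdy := det_of_closed hc y hy
    have h : memQ L (mul x y) = true := by
      simp only [closedList, List.all_eq_true, Bool.and_eq_true] at hc
      exact (hc x hx).2 y hy
    obtain ⟨z, hz, he⟩ := (memQ_iff e (det_of_closed hc) (by rw [det_mul, hdx, hdy, one_mul])).1 h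
    exact ⟨z, hz, he.trans (el_mul e hdx hdy)⟩
  inv_mem' := by
    rintro _ ⟨x, hx, rfl⟩
    have hdx := det_of_closed hc x hx
    have h : memQ L (adj x) = true := by
      simp only [closedList, List.all_eq_true, Bool.and_eq_true] at hc
      exact (hc x hx).1.2
    obtain ⟨z, hz, he⟩ := (memQ_iff e (det_of_closed hc) (by rw [det_adj, hdx])).1 h
    exact ⟨z, hz, he.trans (el_adj e hdx)⟩

lemma mem_sub {L : List Q11} (hc : closedList L = true) (h1 : memQ L one = true) {x : Q11} (hx : x.det = 1) :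
    el e x ∈ sub e L hc h1 ↔ memQ L x = true := (memQ_iff e (det_of_closed hc) hx).symm

lemma sign_nodup_inj : ∀ {L : List Q11}, (∀ y ∈ L, y.det = 1) → signNodup L = true → (L.map (el e)).Nodup
  | [], _, _ => by simp
  | x :: l, hd, hn => by
    simp only [signNodup, Bool.and_eq_true, Bool.not_eq_true'] at hn
    rw [List.map_cons, List.nodup_cons]
    refine ⟨?_, sign_nodup_inj (fun y hy => hd y (List.mem_cons_of_mem _ hy)) hn.2⟩
    intro hmem
    obtain ⟨y, hy, he⟩ := List.mem_map.1 hmem
    have h := (memQ_iff e (fun y hy => hd y (List.mem_cons_of_mem _ hy)) (hd x List.mem_cons_self)).2 ⟨y, hy, he⟩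
    rw [hn.1] at h
    exact Bool.false_ne_true h

lemma card_sub {L : List Q11} (hc : closedList L = true) (h1 : memQ L one = true) (hn : signNodup L = true) :
    Nat.card (sub e L hc h1) = L.length := by
  classical
  have hnd := sign_nodup_inj e (det_of_closed hc) hn
  have hset : ((sub e L hc h1 : Subgroup GF) : Set GF) = ((L.map (el e)).toFinset : Set GF) := by
    ext g
    simp only [SetLike.mem_coe, List.coe_toFinset, Set.mem_ofPred_eq, List.mem_map]
    rfl
  rw [← SetLike.coe_sort_coe, Nat.card_coe_set_eq, hset, Set.ncard_coe_finset, List.toFinset_card_of_nodup hnd,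
    List.length_map]

theorem sub_iso_A5 {L K : List Q11} (hc : closedList L = true) (h1 : memQ L one = true) (hn : signNodup L = true)
    (hKc : closedList K = true) (hK1 : memQ K one = true) (hKn : signNodup K = true) (hL : L.length = 60)
    (hK : K.length = 12)
    (hcore : ∀ x ∈ K, x = one ∨ x = neg one ∨ L.any (fun h => !memQ K (conj h x)) = true)
    (hsub : K.all (memQ L) = true) :
    Nonempty (sub e L hc h1 ≃* alternatingGroup (Fin 5)) := by
  classical
  have hcL := card_sub e hc h1 hn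
  have hcK := card_sub e hKc hK1 hKn
  rw [hL] at hcL
  rw [hK] at hcK
  haveI : Finite (sub e L hc h1) := Nat.finite_of_card_ne_zero (by rw [hcL]; norm_num)
  have hle : sub e K hKc hK1 ≤ sub e L hc h1 := by
    rintro _ ⟨x, hx, rfl⟩
    exact (mem_sub e hc h1 (det_of_closed hKc x hx)).2 (List.all_eq_true.1 hsub x hx)
  set A := (sub e K hKc hK1).subgroupOf (sub e L hc h1)
  refine H39.nonempty_mulEquiv_alternating_fin (H := A) ?_ ?_ (by norm_num) (by rw [hcL]; decide)
  · rw [eq_bot_iff]
    intro g hg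
    have hgA : (g : GF) ∈ sub e K hKc hK1 := A.normalCore_le hg
    obtain ⟨x, hx, hxg⟩ := hgA
    have hdx := det_of_closed hKc x hx
    rw [Subgroup.mem_bot]
    apply Subtype.ext
    rcases hcore x hx with rfl | rfl | hh
    · exact hxg ▸ el_one e
    · rw [← hxg, Subgroup.coe_one, ← el_one e]
      exact (el_eq_iff e hdx (by decide)).2 (Or.inr (by decide))
    · exfalso
      obtain ⟨h, hh, hcn⟩ := List.any_eq_true.1 hh
      have hdh := det_of_closed hc h hh
      rw [Bool.not_eq_true'] at hcn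
      have hmem : el e h * (g : GF) * (el e h)⁻¹ ∈ sub e K hKc hK1 := hg ⟨el e h, h, hh, rfl⟩
      rw [← hxg, ← el_conj e hdh hdx,
        mem_sub e hKc hK1 (by rw [conj, det_mul, det_mul, det_adj, hdh, hdx]; decide), hcn] at hmem
      exact Bool.false_ne_true hmem
  · have h := A.card_mul_index
    rw [hcL, Nat.card_congr (Subgroup.subgroupOfEquivOfLe hle).toEquiv, hcK] at h
    omega

end Q11

/-- The first subgroup isomorphic to `A_5`. -/
noncomputable def icoOne (e : ZMod 11 ≃+* F) : Subgroup GF :=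
  Q11.sub e Q11.listOne Q11.closed_lists.1 Q11.closed_lists.2.2.2.2.1

/-- The second subgroup isomorphic to `A_5`. -/
noncomputable def icoTwo (e : ZMod 11 ≃+* F) : Subgroup GF :=
  Q11.sub e Q11.listTwo Q11.closed_lists.2.1 Q11.closed_lists.2.2.2.2.2.1

variable (e : ZMod 11 ≃+* F)

theorem icoOne_iso : Nonempty (icoOne e ≃* alternatingGroup (Fin 5)) :=
  Q11.sub_iso_A5 e _ _ Q11.nodup_lists.1 Q11.closed_lists.2.2.1 Q11.closed_lists.2.2.2.2.2.2.1 Q11.nodup_lists.2.2.1
    Q11.lengths.1 Q11.lengths.2.2.1 Q11.four_cores.1 Q11.four_cores.2.2.1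

theorem icoTwo_iso : Nonempty (icoTwo e ≃* alternatingGroup (Fin 5)) :=
  Q11.sub_iso_A5 e _ _ Q11.nodup_lists.2.1 Q11.closed_lists.2.2.2.1 Q11.closed_lists.2.2.2.2.2.2.2 Q11.nodup_lists.2.2.2
    Q11.lengths.2.1 Q11.lengths.2.2.2 Q11.four_cores.2.1 Q11.four_cores.2.2.2

theorem card_icoOne : Nat.card (icoOne e) = 60 := (Q11.card_sub e _ _ Q11.nodup_lists.1).trans Q11.lengths.1

theorem card_icoTwo : Nat.card (icoTwo e) = 60 := (Q11.card_sub e _ _ Q11.nodup_lists.2.1).trans Q11.lengths.2.1

end H41
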