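import Cfsg.Agent.H41.PSL11
import Cfsg.Agent.H37.Card

/-!
Conjugacy of the subgroups of `PSL_2(11)` isomorphic to `A_5`.
-/

set_option autoImplicit false
set_option linter.style.haveILetI false

namespace H41

open Matrix Q11
open scoped MatrixGroups Pointwise

variable {F : Type*} [Field F] [Fintype F]

local notation "GF" => Matrix.ProjectiveSpecialLinearGroup (Fin 2) F

variable (hF : Fintype.card F = 11)
include hF

lemma card_psl11 : Nat.card GF = 660 := by
  have h := H37.card_PSL_fin (F := F) 2 (by norm_num)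
  simp only [Nat.card_eq_fintype_card (α := F), hF, Fin.prod_univ_two] at h
  norm_num at h
  omega

lemma simple_psl11 : IsSimpleGroup GF :=
  Matrix.ProjectiveSpecialLinearGroup.rank_two_simple (by rw [Nat.card_eq_fintype_card, hF]; norm_num)

/-- A ring isomorphism with `ZMod 11`. -/
noncomputable def ringEquivEleven : ZMod 11 ≃+* F := ZMod.ringEquivOfPrime F (by norm_num) hF

lemma orderOf_elY (e : ZMod 11 ≃+* F) : orderOf (el e elY) = 3 := by
  haveI : Fact (Nat.Prime 3) := ⟨by norm_num⟩
  obtain ⟨-, -, hd, hne, h3, -, -⟩ := elY_mem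
  have hone : ∀ y ∈ [one], y.det = 1 := by decide
  refine orderOf_eq_prime ?_ fun h => ?_
  · obtain ⟨y, hy, he⟩ := (memQ_iff e hone (by rw [Q11.det_mul, Q11.det_mul, hd, one_mul, one_mul])).1 h3
    rw [List.mem_singleton] at hy
    subst hy
    rw [el_one, el_mul e (by rw [Q11.det_mul, hd, one_mul]) hd, el_mul e hd hd] at he
    rw [pow_succ, pow_two, ← he]
  · have := (memQ_iff e hone hd).2 ⟨one, List.mem_singleton_self _, by rw [el_one, h]⟩
    rw [hne] at this
    exact Bool.false_ne_true this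

/-- Every subgroup isomorphic to `A_5` is conjugate to one of the two. -/
theorem ico_conj (e : ZMod 11 ≃+* F) (L : Subgroup GF) (hL : Nonempty (L ≃* alternatingGroup (Fin 5))) :
    ∃ g : GF, MulAut.conj g • L = icoOne e ∨ MulAut.conj g • L = icoTwo e := by
  classical
  obtain ⟨φ⟩ := hL
  let a : alternatingGroup (Fin 5) := ⟨Equiv.swap 0 1 * Equiv.swap 2 3, Equiv.Perm.mem_alternatingGroup.mpr (by decide)⟩
  let b : alternatingGroup (Fin 5) := ⟨Equiv.swap 0 2 * Equiv.swap 2 4, Equiv.Perm.mem_alternatingGroup.mpr (by decide)⟩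
  have hab : a * a = 1 ∧ a ≠ 1 ∧ b ^ 3 = 1 ∧ b ≠ 1 ∧ (a * b) ^ 5 = 1 ∧ a * b ≠ 1 := by decide
  have hgen : Subgroup.closure ({a, b} : Set (alternatingGroup (Fin 5))) = ⊤ := by
    set K := Subgroup.closure ({a, b} : Set (alternatingGroup (Fin 5)))
    have ha : a ∈ K := Subgroup.subset_closure (Set.mem_insert _ _)
    have hb : b ∈ K := Subgroup.subset_closure (Set.mem_insert_of_mem _ rfl)
    haveI : Fact (Nat.Prime 2) := ⟨by norm_num⟩
    haveI : Fact (Nat.Prime 3) := ⟨by norm_num⟩
    haveI : Fact (Nat.Prime 5) := ⟨by norm_num⟩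
    have d2 : 2 ∣ Nat.card K := by
      have h := Subgroup.orderOf_dvd_natCard _ ha
      rwa [orderOf_eq_prime (by rw [pow_two]; exact hab.1) hab.2.1] at h
    have d3 : 3 ∣ Nat.card K := by
      have h := Subgroup.orderOf_dvd_natCard _ hb
      rwa [orderOf_eq_prime hab.2.2.1 hab.2.2.2.1] at h
    have d5 : 5 ∣ Nat.card K := by
      have h := Subgroup.orderOf_dvd_natCard _ (K.mul_mem ha hb)
      rwa [orderOf_eq_prime hab.2.2.2.2.1 hab.2.2.2.2.2] at h
    have hA : Nat.card (alternatingGroup (Fin 5)) = 60 := by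
      rw [nat_card_alternatingGroup, Nat.card_eq_fintype_card, Fintype.card_fin]; decide
    have hi := K.card_mul_index
    rw [hA] at hi
    have h30 : 30 ∣ Nat.card K :=
      Nat.Coprime.mul_dvd_of_dvd_of_dvd (m := 6) (n := 5) (by norm_num) (Nat.Coprime.mul_dvd_of_dvd_of_dvd (m := 2) (n := 3) (by norm_num) d2 d3) d5
    obtain ⟨m, hm⟩ := h30
    rw [hm] at hi
    rcases (show K.index = 1 ∨ K.index = 2 by
      have : m * K.index = 2 := by linarith
      have := Nat.le_of_dvd two_pos ⟨m, by rw [← this, mul_comm]⟩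
      have : K.index ≠ 0 := Subgroup.index_ne_zero_of_finite
      omega) with h | h
    · exact Subgroup.index_eq_one.1 h
    · rcases (Subgroup.normal_of_index_eq_two h).eq_bot_or_eq_top with hb' | ht
      · exact absurd (Subgroup.mem_bot.1 (hb' ▸ ha : a ∈ (⊥ : Subgroup _))) hab.2.1
      · exact ht
  set x : GF := ((φ.symm a : L) : GF) with hx
  set y : GF := ((φ.symm b : L) : GF) with hy
  have hxL : x ∈ L := (φ.symm a).2
  have hyL : y ∈ L := (φ.symm b).2
  have hLgen : L ≤ Subgroup.closure {x, y} := by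
    intro z hz
    have h : φ ⟨z, hz⟩ ∈ Subgroup.closure ({a, b} : Set (alternatingGroup (Fin 5))) := by rw [hgen]; trivial
    have h2 := Subgroup.mem_map_of_mem (L.subtype.comp φ.symm.toMonoidHom) h
    rw [MonoidHom.map_closure, Set.image_pair] at h2
    simpa [x, y] using h2
  have ex : x * x = 1 := by rw [hx, ← Subgroup.coe_mul, ← map_mul, hab.1, map_one, Subgroup.coe_one]
  have ex1 : x ≠ 1 := fun h => hab.2.1 (φ.symm.injective (Subtype.ext (by rw [← hx, h, map_one, Subgroup.coe_one])))
  have exy : (x * y) ^ 5 = 1 := by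
    rw [hx, hy, ← Subgroup.coe_mul, ← map_mul, ← Subgroup.coe_pow, ← map_pow, hab.2.2.2.2.1, map_one, Subgroup.coe_one]
  haveI : Fact (Nat.Prime 3) := ⟨by norm_num⟩
  have ey : orderOf y = 3 := by
    rw [hy, Subgroup.orderOf_coe, MulEquiv.orderOf_eq]
    exact orderOf_eq_prime hab.2.2.1 hab.2.2.2.1
  -- move `y` to `elY` or its inverse
  have hG := card_psl11 hF
  have h3 : 3 ^ (Nat.card GF).factorization 3 = 3 := by
    rw [hG, show Nat.factorization 660 3 = 1 by
      rw [show 660 = 3 * 220 by norm_num, Nat.factorization_mul (by norm_num) (by norm_num), Finsupp.add_apply,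
        Nat.Prime.factorization_self (by norm_num), Nat.factorization_eq_zero_of_not_dvd (by norm_num)]]
    norm_num
  let P : Sylow 3 GF := Sylow.ofCard (Subgroup.zpowers y) (by rw [h3, Nat.card_zpowers, ey])
  let Q : Sylow 3 GF := Sylow.ofCard (Subgroup.zpowers (el e elY)) (by rw [h3, Nat.card_zpowers, orderOf_elY hF e])
  obtain ⟨g, hg⟩ := MulAction.exists_smul_eq GF P Q
  have hgy : g * y * g⁻¹ ∈ Subgroup.zpowers (el e elY) := by
    have h : MulAut.conj g • y ∈ ((g • P : Sylow 3 GF) : Subgroup GF) := by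
      rw [Sylow.coe_subgroup_smul]
      exact Subgroup.smul_mem_pointwise_smul y (MulAut.conj g) _ (Subgroup.mem_zpowers y)
    rw [hg] at h
    exact h
  obtain ⟨-, -, hdY, -, -, -, -⟩ := elY_mem
  have hdY' : elY'.det = 1 := by rw [elY', Q11.det_adj, hdY]
  have hy' : g * y * g⁻¹ = el e elY ∨ g * y * g⁻¹ = el e elY' := by
    obtain ⟨k, hk⟩ := Subgroup.mem_zpowers_iff.1 hgy
    rw [← zpow_mod_orderOf, orderOf_elY hF e] at hk
    have h2 := Int.emod_nonneg k (show ((3 : ℕ) : ℤ) ≠ 0 by norm_num)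
    have h4 := Int.emod_lt_of_pos k (show (0 : ℤ) < (3 : ℕ) by norm_num)
    rcases (show k % ((3 : ℕ) : ℤ) = 0 ∨ k % ((3 : ℕ) : ℤ) = 1 ∨ k % ((3 : ℕ) : ℤ) = 2 by omega) with h | h | h <;> rw [h] at hk
    · rw [zpow_zero] at hk
      have : y = 1 := by
        have := congrArg (fun z => g⁻¹ * z * g) hk
        simpa [mul_assoc] using this.symm
      rw [this, orderOf_one] at ey
      norm_num at ey
    · left; rw [← hk, zpow_one]
    · right
      rw [← hk, show (2 : ℤ) = ((2 : ℕ) : ℤ) from rfl, zpow_natCast, elY', el_adj e hdY]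
      refine eq_inv_of_mul_eq_one_left ?_
      rw [← pow_succ, show (2 : ℕ) + 1 = 3 from rfl]
      conv_lhs => arg 2; rw [← orderOf_elY hF e]
      exact pow_orderOf_eq_one _
  obtain ⟨q, hq, hqx⟩ := el_surjective e (g * x * g⁻¹)
  have hone : ∀ z ∈ [one], z.det = 1 := by decide
  have hq2 : memQ [one] (mul q q) = true := (memQ_iff e hone (by rw [Q11.det_mul, hq, one_mul])).2
    ⟨one, List.mem_singleton_self _, by
      rw [el_one, el_mul e hq hq, hqx, show g * x * g⁻¹ * (g * x * g⁻¹) = g * (x * x) * g⁻¹ by group, ex, mul_one,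
        mul_inv_cancel]⟩
  have hq1 : memQ [one] q = false := by
    by_contra h
    rw [Bool.not_eq_false] at h
    obtain ⟨z, hz, he⟩ := (memQ_iff e hone hq).1 h
    rw [List.mem_singleton] at hz
    subst hz
    rw [el_one, hqx] at he
    exact ex1 (by have := congrArg (fun z => g⁻¹ * z * g) he; simpa [mul_assoc] using this.symm)
  have hp5 : ∀ z : Q11, z.det = 1 → el e z = g * (x * y) * g⁻¹ → memQ [one] (pow5 z) = true := by
    intro z hz he
    have hdet : (pow5 z).det = 1 := by simp only [pow5, Q11.det_mul, hz, one_mul]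
    refine (memQ_iff e hone hdet).2 ⟨one, List.mem_singleton_self _, ?_⟩
    rw [el_one, pow5, el_mul e (by simp only [Q11.det_mul, hz, one_mul]) hz, el_mul e (by simp only [Q11.det_mul, hz, one_mul]) hz,
      el_mul e (by simp only [Q11.det_mul, hz, one_mul]) hz, el_mul e hz hz, he]
    calc (1 : GF) = g * (x * y) ^ 5 * g⁻¹ := by rw [exy, mul_one, mul_inv_cancel]
      _ = _ := by simp only [pow_succ, pow_zero, one_mul]; group
  obtain ⟨qa, qb, qc, qd⟩ := q
  rcases pairs_covered qa qb qc qd hq with h | h | ⟨h, h'⟩ | h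
  · rw [hq2] at h; simp at h
  · rw [hq1] at h; simp at h
  · exfalso
    rcases hy' with hy' | hy'
    · have := hp5 (Q11.mul ⟨qa, qb, qc, qd⟩ elY) (by rw [Q11.det_mul, hq, hdY, one_mul])
        (by rw [el_mul e hq hdY, hqx, ← hy']; group)
      rw [this] at h; simp at h
    · have := hp5 (Q11.mul ⟨qa, qb, qc, qd⟩ elY') (by rw [Q11.det_mul, hq, hdY', one_mul])
        (by rw [el_mul e hq hdY', hqx, ← hy']; group)
      rw [this] at h'; simp at h'
  · obtain ⟨c, hc, hcq⟩ := List.any_eq_true.1 h
    obtain ⟨hdc, hcY⟩ := centY_ok c hc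
    refine ⟨el e c * g, ?_⟩
    have hYfix : el e c * el e elY * (el e c)⁻¹ = el e elY := by
      obtain ⟨z, hz, he⟩ := (memQ_iff e (L := [elY]) (by simp [hdY])
        (by rw [Q11.conj, Q11.det_mul, Q11.det_mul, Q11.det_adj, hdc, hdY]; decide)).1 hcY
      rw [List.mem_singleton] at hz
      subst hz
      rw [← el_conj e hdc hdY, ← he]
    have hYfix' : el e c * el e elY' * (el e c)⁻¹ = el e elY' := by
      rw [elY', el_adj e hdY]
      conv_rhs => rw [← hYfix]
      group
    have key : ∀ (M : List Q11) (hMc : closedList M = true) (hM1 : memQ M one = true),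
        Nat.card (sub e M hMc hM1) = 60 → memQ M elY = true → memQ M (Q11.conj c ⟨qa, qb, qc, qd⟩) = true →
        MulAut.conj (el e c * g) • L = sub e M hMc hM1 := by
      intro M hMc hM1 hcard hMY hMq
      have hY : el e elY ∈ sub e M hMc hM1 := (mem_sub e hMc hM1 hdY).2 hMY
      have hY' : el e elY' ∈ sub e M hMc hM1 := by rw [elY', el_adj e hdY]; exact inv_mem hY
      refine Subgroup.eq_of_le_of_card_ge ?_ ?_
      · refine (Subgroup.pointwise_smul_le_pointwise_smul_iff.2 hLgen).trans ?_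
        change Subgroup.map (MulAut.conj (el e c * g)).toMonoidHom (Subgroup.closure {x, y}) ≤ _
        rw [MonoidHom.map_closure, Subgroup.closure_le, Set.image_pair]
        rintro z (rfl | rfl)
        · change el e c * g * x * (el e c * g)⁻¹ ∈ sub e M hMc hM1
          have h' := (mem_sub e hMc hM1 (by rw [Q11.conj, Q11.det_mul, Q11.det_mul, Q11.det_adj, hdc, hq]; decide)).2 hMq
          rw [el_conj e hdc hq, hqx] at h'
          convert h' using 1
          group
        · change el e c * g * y * (el e c * g)⁻¹ ∈ sub e M hMc hM1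
          rw [show el e c * g * y * (el e c * g)⁻¹ = el e c * (g * y * g⁻¹) * (el e c)⁻¹ by group]
          rcases hy' with h' | h' <;> rw [h']
          · rw [hYfix]; exact hY
          · rw [hYfix']; exact hY'
      · change _ ≤ Nat.card ↥(L.map (MulAut.conj (el e c * g)).toMonoidHom)
        rw [hcard, Nat.card_congr (Subgroup.equivMapOfInjective L _
          (MulEquiv.injective (MulAut.conj (el e c * g)))).symm.toEquiv,
          Nat.card_congr φ.toEquiv, nat_card_alternatingGroup, Nat.card_eq_fintype_card, Fintype.card_fin]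
        decide
    rw [Bool.or_eq_true] at hcq
    rcases hcq with h1 | h2
    · exact Or.inl (key _ _ _ (card_icoOne e) elY_mem.1 h1)
    · exact Or.inr (key _ _ _ (card_icoTwo e) elY_mem.2.1 h2)

theorem ico_not_conj (e : ZMod 11 ≃+* F) (g : GF) : MulAut.conj g • icoOne e ≠ icoTwo e := by
  intro h
  obtain ⟨q, hq, rfl⟩ := el_surjective e g
  obtain ⟨a, b, c, d⟩ := q
  obtain ⟨x, hx, hn⟩ := List.any_eq_true.1 (not_conj_lists a b c d hq)
  have hdx := det_of_closed closed_lists.1 x hx
  have hmem : el e ⟨a, b, c, d⟩ * el e x * (el e ⟨a, b, c, d⟩)⁻¹ ∈ icoTwo e := by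
    rw [← h]
    exact Subgroup.smul_mem_pointwise_smul (el e x) (MulAut.conj (el e ⟨a, b, c, d⟩)) _ ⟨x, hx, rfl⟩
  rw [← el_conj e hq hdx, icoTwo, mem_sub e _ _ (by rw [Q11.conj, Q11.det_mul, Q11.det_mul, Q11.det_adj, hq, hdx]; decide)] at hmem
  rw [Bool.not_eq_true'] at hn
  rw [hn] at hmem
  exact Bool.false_ne_true hmem

theorem normalizer_ico {H : Subgroup GF} (hH : Nat.card H = 60) :
    (Subgroup.normalizer (H : Set GF)).index = 11 := by
  haveI := simple_psl11 hF
  have hG := card_psl11 hF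
  have h1 := H.card_mul_index
  rw [hH, hG] at h1
  have hidx : H.index = 11 := by omega
  have hle : H ≤ Subgroup.normalizer (H : Set GF) := Subgroup.le_normalizer
  have hd := Subgroup.index_dvd_of_le hle
  rw [hidx, Nat.dvd_prime (by norm_num)] at hd
  rcases hd with h | h
  · exfalso
    have hn : H.Normal := Subgroup.normalizer_eq_top_iff.1 (Subgroup.index_eq_one.1 h)
    rcases hn.eq_bot_or_eq_top with hb | ht
    · rw [hb, Subgroup.card_bot] at hH; omega
    · rw [ht, Subgroup.card_top, hG] at hH; omega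
  · exact h

end H41
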