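import Mathlib
import Cfsg.Agent.H39.SmallIdent

/-!
Explicit computations in `PSL_2(11)`: its subgroups isomorphic to `A_5`.
-/

set_option autoImplicit false
set_option linter.style.haveILetI false

namespace H41

open Matrix

/-- `2 × 2` matrices over the field with eleven elements, by entries. -/
structure Q11 where
  a : ZMod 11
  b : ZMod 11
  c : ZMod 11
  d : ZMod 11
deriving DecidableEq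

namespace Q11

def mul (x y : Q11) : Q11 :=
  ⟨x.a * y.a + x.b * y.c, x.a * y.b + x.b * y.d, x.c * y.a + x.d * y.c, x.c * y.b + x.d * y.d⟩

def neg (x : Q11) : Q11 := ⟨-x.a, -x.b, -x.c, -x.d⟩

def adj (x : Q11) : Q11 := ⟨x.d, -x.b, -x.c, x.a⟩

def det (x : Q11) : ZMod 11 := x.a * x.d - x.b * x.c

def one : Q11 := ⟨1, 0, 0, 1⟩

/-- Membership up to sign. -/
def memQ (L : List Q11) (x : Q11) : Bool := L.any fun y => decide (y = x) || decide (y = neg x)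

def conj (g x : Q11) : Q11 := mul (mul g x) (adj g)

lemma det_mul (x y : Q11) : det (mul x y) = det x * det y := by simp only [det, mul]; ring

lemma det_neg (x : Q11) : det (neg x) = det x := by simp only [det, neg]; ring

lemma det_adj (x : Q11) : det (adj x) = det x := by simp only [det, adj]; ring

def toM (x : Q11) : Matrix (Fin 2) (Fin 2) (ZMod 11) := !![x.a, x.b; x.c, x.d]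

lemma det_toM (x : Q11) : (toM x).det = det x := by simp [toM, det, Matrix.det_fin_two]

/-- The first copy of `A_5`. -/
def listOne : List Q11 :=
  [⟨0, 1, 10, 10⟩, ⟨0, 2, 5, 0⟩, ⟨0, 3, 7, 3⟩, ⟨0, 4, 8, 1⟩, ⟨0, 5, 2, 8⟩, ⟨1, 0, 0, 1⟩,
   ⟨1, 1, 10, 0⟩, ⟨1, 2, 1, 3⟩, ⟨1, 3, 9, 6⟩, ⟨1, 4, 6, 3⟩, ⟨1, 5, 4, 10⟩, ⟨1, 6, 5, 9⟩,
   ⟨1, 7, 3, 0⟩, ⟨1, 8, 8, 10⟩, ⟨1, 9, 7, 9⟩, ⟨1, 10, 2, 10⟩, ⟨2, 0, 6, 6⟩, ⟨2, 1, 3, 2⟩,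
   ⟨2, 2, 0, 6⟩, ⟨2, 3, 2, 9⟩, ⟨2, 4, 1, 8⟩, ⟨2, 5, 10, 9⟩, ⟨2, 6, 5, 10⟩, ⟨2, 7, 4, 9⟩,
   ⟨2, 8, 9, 9⟩, ⟨2, 9, 7, 10⟩, ⟨2, 10, 8, 2⟩, ⟨3, 0, 7, 4⟩, ⟨3, 1, 9, 7⟩, ⟨3, 2, 6, 8⟩,
   ⟨3, 3, 3, 7⟩, ⟨3, 4, 1, 9⟩, ⟨3, 5, 2, 0⟩, ⟨3, 6, 0, 4⟩, ⟨3, 7, 5, 1⟩, ⟨3, 8, 4, 0⟩,
   ⟨3, 9, 10, 1⟩, ⟨3, 10, 8, 5⟩, ⟨4, 0, 4, 3⟩, ⟨4, 1, 9, 8⟩, ⟨4, 2, 8, 7⟩, ⟨4, 3, 3, 8⟩,
   ⟨4, 4, 1, 4⟩, ⟨4, 5, 0, 3⟩, ⟨4, 6, 2, 6⟩, ⟨4, 7, 10, 4⟩, ⟨4, 8, 7, 6⟩, ⟨4, 9, 5, 6⟩,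
   ⟨4, 10, 6, 7⟩, ⟨5, 0, 6, 9⟩, ⟨5, 1, 3, 3⟩, ⟨5, 2, 0, 9⟩, ⟨5, 3, 9, 10⟩, ⟨5, 4, 10, 6⟩,
   ⟨5, 5, 8, 6⟩, ⟨5, 6, 2, 7⟩, ⟨5, 7, 1, 6⟩, ⟨5, 8, 7, 7⟩, ⟨5, 9, 5, 7⟩, ⟨5, 10, 4, 6⟩]

/-- The second copy of `A_5`. -/
def listTwo : List Q11 :=
  [⟨0, 1, 10, 10⟩, ⟨0, 2, 5, 4⟩, ⟨0, 3, 7, 4⟩, ⟨0, 4, 8, 0⟩, ⟨0, 5, 2, 1⟩, ⟨1, 0, 0, 1⟩,
   ⟨1, 1, 10, 0⟩, ⟨1, 2, 4, 9⟩, ⟨1, 3, 2, 7⟩, ⟨1, 4, 3, 2⟩, ⟨1, 5, 1, 6⟩, ⟨1, 6, 9, 0⟩,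
   ⟨1, 7, 6, 10⟩, ⟨1, 8, 8, 10⟩, ⟨1, 9, 7, 9⟩, ⟨1, 10, 5, 7⟩, ⟨2, 0, 10, 6⟩, ⟨2, 1, 9, 5⟩,
   ⟨2, 2, 4, 10⟩, ⟨2, 3, 2, 9⟩, ⟨2, 4, 1, 8⟩, ⟨2, 5, 3, 8⟩, ⟨2, 6, 0, 6⟩, ⟨2, 7, 8, 1⟩,
   ⟨2, 8, 6, 8⟩, ⟨2, 9, 7, 10⟩, ⟨2, 10, 5, 9⟩, ⟨3, 0, 8, 4⟩, ⟨3, 1, 9, 7⟩, ⟨3, 2, 7, 5⟩,
   ⟨3, 3, 4, 8⟩, ⟨3, 4, 1, 9⟩, ⟨3, 5, 3, 9⟩, ⟨3, 6, 2, 8⟩, ⟨3, 7, 0, 4⟩, ⟨3, 8, 6, 9⟩,
   ⟨3, 9, 5, 8⟩, ⟨3, 10, 10, 8⟩, ⟨4, 0, 3, 3⟩, ⟨4, 1, 9, 8⟩, ⟨4, 2, 8, 7⟩, ⟨4, 3, 2, 10⟩,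
   ⟨4, 4, 0, 3⟩, ⟨4, 5, 1, 7⟩, ⟨4, 6, 10, 7⟩, ⟨4, 7, 7, 7⟩, ⟨4, 8, 4, 0⟩, ⟨4, 9, 6, 0⟩,
   ⟨4, 10, 5, 10⟩, ⟨5, 0, 10, 9⟩, ⟨5, 1, 7, 6⟩, ⟨5, 2, 9, 6⟩, ⟨5, 3, 8, 5⟩, ⟨5, 4, 6, 5⟩,
   ⟨5, 5, 1, 10⟩, ⟨5, 6, 0, 9⟩, ⟨5, 7, 5, 5⟩, ⟨5, 8, 3, 5⟩, ⟨5, 9, 4, 3⟩, ⟨5, 10, 2, 2⟩]

/-- A tetrahedral subgroup of the first copy. -/
def fourOne : List Q11 :=
  [⟨0, 1, 10, 10⟩, ⟨1, 0, 0, 1⟩, ⟨1, 1, 10, 0⟩, ⟨1, 6, 5, 9⟩, ⟨2, 6, 5, 10⟩, ⟨2, 7, 4, 9⟩,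
   ⟨4, 6, 2, 6⟩, ⟨4, 9, 5, 6⟩, ⟨5, 6, 2, 7⟩, ⟨5, 7, 1, 6⟩, ⟨5, 9, 5, 7⟩, ⟨5, 10, 4, 6⟩]

/-- A tetrahedral subgroup of the second copy. -/
def fourTwo : List Q11 :=
  [⟨0, 1, 10, 10⟩, ⟨1, 0, 0, 1⟩, ⟨1, 1, 10, 0⟩, ⟨2, 5, 3, 8⟩, ⟨2, 8, 6, 8⟩, ⟨3, 5, 3, 9⟩,
   ⟨3, 6, 2, 8⟩, ⟨3, 8, 6, 9⟩, ⟨3, 9, 5, 8⟩, ⟨5, 2, 9, 6⟩, ⟨5, 3, 8, 5⟩, ⟨5, 8, 3, 5⟩]

/-- Left multipliers covering the complement of the first copy. -/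
def tenList : List Q11 :=
  [⟨0, 1, 10, 10⟩, ⟨0, 2, 5, 0⟩, ⟨0, 3, 7, 3⟩, ⟨0, 4, 8, 1⟩, ⟨0, 5, 2, 8⟩, ⟨1, 0, 0, 1⟩,
   ⟨1, 1, 10, 0⟩, ⟨1, 2, 1, 3⟩, ⟨1, 9, 7, 9⟩, ⟨2, 7, 4, 9⟩]

/-- The centraliser of the element of order three. -/
def centY : List Q11 :=
  [⟨0, 1, 10, 10⟩, ⟨1, 0, 0, 1⟩, ⟨1, 1, 10, 0⟩, ⟨2, 4, 7, 9⟩, ⟨2, 9, 2, 4⟩, ⟨4, 2, 9, 2⟩]

def g0 : Q11 := ⟨0, 1, 10, 0⟩

def elY : Q11 := ⟨0, 10, 1, 1⟩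

def elY' : Q11 := adj elY

/-- Closed lists. -/
def closedList (L : List Q11) : Bool :=
  L.all fun x => decide (det x = 1) && memQ L (adj x) && L.all (fun y => memQ L (mul x y))

lemma closed_lists : closedList listOne = true ∧ closedList listTwo = true ∧ closedList fourOne = true ∧
    closedList fourTwo = true ∧ memQ listOne one = true ∧ memQ listTwo one = true ∧ memQ fourOne one = true ∧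
    memQ fourTwo one = true := by decide +kernel

/-- No two entries agree up to sign. -/
def signNodup : List Q11 → Bool
  | [] => true
  | x :: l => !memQ l x && signNodup l

lemma nodup_lists : signNodup listOne = true ∧ signNodup listTwo = true ∧ signNodup fourOne = true ∧
    signNodup fourTwo = true := by decide +kernel

/-- The tetrahedral subgroups have trivial cores. -/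
lemma four_cores :
    (∀ x ∈ fourOne, x = one ∨ x = neg one ∨ listOne.any (fun h => !memQ fourOne (conj h x)) = true) ∧
    (∀ x ∈ fourTwo, x = one ∨ x = neg one ∨ listTwo.any (fun h => !memQ fourTwo (conj h x)) = true) ∧
    (fourOne.all (memQ listOne) = true) ∧ (fourTwo.all (memQ listTwo) = true) := by decide +kernel

/-- Every point outside the first copy is reached. -/
lemma cover_ten : ∀ a b c d : ZMod 11, det ⟨a, b, c, d⟩ = 1 → memQ listOne ⟨a, b, c, d⟩ = true ∨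
    tenList.any (fun h => memQ listOne (mul (adj (mul h g0)) ⟨a, b, c, d⟩)) = true := by decide +kernel

lemma ten_mem : ∀ h ∈ tenList, memQ listOne h = true := by decide +kernel

/-- Generating pairs of type `(2, 3, 5)` land in a conjugate of one of the two copies. -/
def pow5 (x : Q11) : Q11 := mul (mul (mul (mul x x) x) x) x

lemma pairs_covered : ∀ a b c d : ZMod 11, det ⟨a, b, c, d⟩ = 1 →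
    memQ [one] (mul ⟨a, b, c, d⟩ ⟨a, b, c, d⟩) = false ∨ memQ [one] ⟨a, b, c, d⟩ = true ∨
    (memQ [one] (pow5 (mul ⟨a, b, c, d⟩ elY)) = false ∧ memQ [one] (pow5 (mul ⟨a, b, c, d⟩ elY')) = false) ∨
    centY.any (fun g => memQ listOne (conj g ⟨a, b, c, d⟩) || memQ listTwo (conj g ⟨a, b, c, d⟩)) = true := by
  decide +kernel

lemma centY_ok : ∀ g ∈ centY, det g = 1 ∧ memQ [elY] (conj g elY) = true := by decide +kernel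

lemma elY_mem : memQ listOne elY = true ∧ memQ listTwo elY = true ∧ det elY = 1 ∧
    memQ [one] elY = false ∧ memQ [one] (mul (mul elY elY) elY) = true ∧ det g0 = 1 ∧ memQ listOne g0 = false := by
  decide +kernel

/-- The copies are not conjugate. -/
lemma not_conj_lists : ∀ a b c d : ZMod 11, det ⟨a, b, c, d⟩ = 1 →
    listOne.any (fun x => !memQ listTwo (conj ⟨a, b, c, d⟩ x)) = true := by decide +kernel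

lemma lengths : listOne.length = 60 ∧ listTwo.length = 60 ∧ fourOne.length = 12 ∧ fourTwo.length = 12 := by
  decide +kernel

end Q11

end H41
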