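import Mathlib
import Cfsg.Agent.H40.TwoByTwo
import Cfsg.Agent.H40.GL2Classes
import Cfsg.Agent.H41.PSLOrd

/-! Products of two conjugates in `SL 2 F`. -/

set_option autoImplicit false

open Matrix

namespace H41

variable {F : Type*} [Field F] [Fintype F]

local notation "SL2" => Matrix.SpecialLinearGroup (Fin 2) F

omit [Fintype F] in
lemma scalar_of_isScalar2 {A : Matrix (Fin 2) (Fin 2) F} (h : H40.IsScalar2 A) :
    A = Matrix.scalar (Fin 2) (A 0 0) := by
  ext i j
  fin_cases i <;> fin_cases j <;> simp [h.1, h.2.1, h.2.2]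

omit [Fintype F] in
lemma isScalar2_scalar (c : F) : H40.IsScalar2 (Matrix.scalar (Fin 2) c) := by
  simp [H40.IsScalar2]

omit [Fintype F] in
lemma pslTwo_eq_one_iff (A : SL2) :
    (QuotientGroup.mk A : Matrix.ProjectiveSpecialLinearGroup (Fin 2) F) = 1 ↔ H40.IsScalar2 A.val := by
  rw [pslMk_eq_one_iff]
  exact ⟨fun ⟨c, hc⟩ => hc ▸ isScalar2_scalar c, fun h => ⟨_, scalar_of_isScalar2 h⟩⟩

/-- A non-scalar element with a solution of the trace equation is a product of two conjugates. -/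
theorem sl2_prod_two_conj (X G : SL2) (hX : ¬ H40.IsScalar2 X.val)
    (hD : X.val.trace ^ 2 ≠ 4) (hG : ¬ H40.IsScalar2 G.val) (a b : F)
    (hab : a ^ 2 - G.val.trace * a * b + b ^ 2 - X.val.trace * a + X.val.trace * b + 1 = 0) :
    ∃ U V : SL2, G = (U * X * U⁻¹) * (V * X * V⁻¹) := by
  obtain ⟨t, ht⟩ : ∃ t, t = X.val.trace := ⟨_, rfl⟩
  obtain ⟨s, hs⟩ : ∃ s, s = G.val.trace := ⟨_, rfl⟩
  rw [← ht, ← hs] at hab
  obtain ⟨P, hP, hPG⟩ := H40.exists_cyclic hG
  have hu : IsUnit P.det := isUnit_iff_ne_zero.2 hP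
  rw [G.2, ← hs] at hPG
  set Y₀ : Matrix (Fin 2) (Fin 2) F := !![a, b; t + b - a * s, t - a] with hY₀
  set Z₀ : Matrix (Fin 2) (Fin 2) F := !![t - a, -b; -(t + b - a * s), a] * H40.comp2 s 1 with hZ₀
  have hYd : Y₀.det = 1 := by rw [hY₀, det_fin_two_of]; linear_combination -hab
  have hZd : Z₀.det = 1 := by
    rw [hZ₀, det_mul, det_fin_two_of, H40.det_comp2]; linear_combination -hab
  have hYt : Y₀.trace = t := by rw [hY₀, trace_fin_two_of]; ring
  have hZt : Z₀.trace = t := by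
    rw [hZ₀, trace_fin_two]
    simp [H40.comp2, Matrix.mul_apply, Fin.sum_univ_two]
  have hYZ : Y₀ * Z₀ = H40.comp2 s 1 := by
    rw [hZ₀, ← Matrix.mul_assoc]
    have : Y₀ * !![t - a, -b; -(t + b - a * s), a] = 1 := by
      ext i j
      fin_cases i <;> fin_cases j <;> simp [hY₀, Matrix.mul_apply, Fin.sum_univ_two] <;>
        first | linear_combination -hab | ring
    rw [this, Matrix.one_mul]
  have hns : ∀ W₀ : Matrix (Fin 2) (Fin 2) F, W₀.det = 1 → W₀.trace = t →
      ¬ H40.IsScalar2 (P * W₀ * P⁻¹) := by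
    intro W₀ hd htr hsc
    have h1 := scalar_of_isScalar2 hsc
    generalize (P * W₀ * P⁻¹) 0 0 = c at h1
    have h2 : W₀ = Matrix.scalar (Fin 2) c := by
      calc W₀ = P⁻¹ * (P * W₀ * P⁻¹) * P := by
            rw [Matrix.mul_assoc P, ← Matrix.mul_assoc P⁻¹ P, nonsing_inv_mul P hu, Matrix.one_mul,
              Matrix.mul_assoc, nonsing_inv_mul P hu, Matrix.mul_one]
        _ = P⁻¹ * Matrix.scalar (Fin 2) c * P := by rw [h1]
        _ = Matrix.scalar (Fin 2) c := by
            rw [Matrix.mul_assoc, (Matrix.scalar_commute c (fun _ => Commute.all _ _) P).eq,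
              ← Matrix.mul_assoc, nonsing_inv_mul P hu, Matrix.one_mul]
    subst h2
    rw [Matrix.scalar_apply, det_diagonal, Fin.prod_univ_two] at hd
    rw [Matrix.scalar_apply, trace_diagonal, Fin.sum_univ_two] at htr
    apply hD
    rw [← ht, ← htr]
    linear_combination (4 : F) * hd
  have hmk : ∀ W₀ : Matrix (Fin 2) (Fin 2) F, W₀.det = 1 → W₀.trace = t →
      ∃ U : SL2, (U * X * U⁻¹).val = P * W₀ * P⁻¹ := by
    intro W₀ hd htr
    let W : SL2 := ⟨P * W₀ * P⁻¹, by
      rw [det_mul_right_comm, mul_nonsing_inv P hu, one_mul, hd]⟩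
    have hc : IsConj X W := by
      refine H40.isConj_SL2_of_trace hX (hns W₀ hd htr) ?_ (Or.inl hD)
      show X.val.trace = (P * W₀ * P⁻¹).trace
      rw [trace_mul_comm, ← Matrix.mul_assoc, nonsing_inv_mul P hu, Matrix.one_mul, htr, ht]
    obtain ⟨U, hU⟩ := isConj_iff.mp hc
    exact ⟨U, by rw [hU]⟩
  obtain ⟨U, hU⟩ := hmk Y₀ hYd hYt
  obtain ⟨V, hV⟩ := hmk Z₀ hZd hZt
  refine ⟨U, V, Subtype.ext ?_⟩
  rw [Matrix.SpecialLinearGroup.coe_mul, hU, hV]
  calc G.val = G.val * P * P⁻¹ := (mul_nonsing_inv_cancel_right _ _ hu).symm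
    _ = P * (Y₀ * Z₀) * P⁻¹ := by rw [hPG, hYZ]
    _ = _ := by
      simp only [Matrix.mul_assoc, nonsing_inv_mul_cancel_left _ _ hu]

omit [Fintype F] in
lemma sl2_sq_trace (A : SL2) : A.val * A.val = A.val.trace • A.val - 1 := by
  have hd := A.2
  rw [det_fin_two] at hd
  ext i j
  fin_cases i <;> fin_cases j <;>
    simp [Matrix.mul_apply, Fin.sum_univ_two, trace_fin_two] <;>
    first | linear_combination -hd | ring

omit [Fintype F] in
/-- An element of order above two whose order is prime to `p` is regular semisimple. -/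
lemma trace_facts (p : ℕ) [Fact p.Prime] [CharP F p] (A : SL2)
    (hord : 2 < orderOf (QuotientGroup.mk A : Matrix.ProjectiveSpecialLinearGroup (Fin 2) F))
    (hp : p = 2 ∨ ¬ p ∣ orderOf (QuotientGroup.mk A : Matrix.ProjectiveSpecialLinearGroup (Fin 2) F)) :
    ¬ H40.IsScalar2 A.val ∧ A.val.trace ≠ 0 ∧ A.val.trace ^ 2 ≠ 4 := by
  have hpp : p.Prime := Fact.out
  have h0 : A.val.trace ≠ 0 := by
    intro h
    have : orderOf (QuotientGroup.mk A : Matrix.ProjectiveSpecialLinearGroup (Fin 2) F) ∣ 2 := by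
      apply orderOf_dvd_of_pow_eq_one
      rw [← QuotientGroup.mk_pow, pslMk_eq_one_iff]
      refine ⟨-1, ?_⟩
      rw [Matrix.SpecialLinearGroup.coe_pow, pow_two, sl2_sq_trace, h, zero_smul, zero_sub, map_neg, map_one]
    have := Nat.le_of_dvd two_pos this
    omega
  refine ⟨fun h => ?_, h0, fun h => ?_⟩
  · rw [(pslTwo_eq_one_iff A).mpr h, orderOf_one] at hord
    omega
  · rcases hp with rfl | hp
    · apply h0
      have h4 : (4 : F) = 0 := by
        rw [show (4 : F) = 2 * 2 by norm_num, CharTwo.two_eq_zero, zero_mul]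
      rw [h4] at h
      exact sq_eq_zero_iff.mp h
    have hdvd : orderOf (QuotientGroup.mk A : Matrix.ProjectiveSpecialLinearGroup (Fin 2) F) ∣ p := by
      obtain ⟨ε, hε, hε2⟩ : ∃ ε : F, ε ^ 2 = 1 ∧ A.val.trace = ε + ε := by
        have : (A.val.trace - 2) * (A.val.trace + 2) = 0 := by linear_combination h
        rcases mul_eq_zero.mp this with h' | h'
        · exact ⟨1, one_pow 2, by linear_combination h'⟩
        · exact ⟨-1, neg_one_sq, by linear_combination h'⟩
      apply orderOf_dvd_of_pow_eq_one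
      rw [← QuotientGroup.mk_pow, pslMk_eq_one_iff]
      refine ⟨ε ^ p, ?_⟩
      have hc := Matrix.scalar_commute ε (fun r' => Commute.all _ _) A.val
      have hz : (A.val - Matrix.scalar (Fin 2) ε) ^ 2 = 0 := by
        rw [pow_two, sub_mul, mul_sub, mul_sub, sl2_sq_trace, hε2, ← hc.eq, ← map_mul, ← pow_two, hε,
          map_one, add_smul, Matrix.scalar_apply, ← Matrix.smul_eq_diagonal_mul]
        abel
      have hzp := pow_eq_zero_of_le hpp.two_le hz
      rw [sub_pow_char_of_commute p hc.symm, sub_eq_zero, ← map_pow] at hzp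
      rw [Matrix.SpecialLinearGroup.coe_pow, hzp]
    rcases (Nat.dvd_prime hpp).mp hdvd with h1 | h1
    · omega
    · exact hp (h1 ▸ dvd_rfl)

omit [Fintype F] in
/-- The passage to `PSL`. -/
lemma psl2_prod_two_conj_of (X G : SL2)
    (h : ∃ U V : SL2, G = (U * X * U⁻¹) * (V * X * V⁻¹)) :
    ∃ u v : Matrix.ProjectiveSpecialLinearGroup (Fin 2) F,
      (QuotientGroup.mk G : Matrix.ProjectiveSpecialLinearGroup (Fin 2) F) =
        (u * QuotientGroup.mk X * u⁻¹) * (v * QuotientGroup.mk X * v⁻¹) := by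
  obtain ⟨U, V, rfl⟩ := h
  exact ⟨QuotientGroup.mk U, QuotientGroup.mk V, rfl⟩

end H41
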