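import Mathlib
import Cfsg.Agent.H41.PSLOrd

/-! Spectra of direct powers of `PSL n q`. -/

set_option autoImplicit false

namespace H41

variable {n : ℕ} {F : Type*} [Field F] [Fintype F]

local notation "L" => Matrix.ProjectiveSpecialLinearGroup (Fin n) F

lemma lcm_gcd_split {o P N : ℕ} (hcop : Nat.Coprime P N) (h : o ∣ P * N) :
    o = Nat.lcm (Nat.gcd o N) (Nat.gcd o P) := by
  have hc : Nat.Coprime (Nat.gcd o N) (Nat.gcd o P) :=
    Nat.Coprime.coprime_dvd_left (Nat.gcd_dvd_right _ _)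
      (Nat.Coprime.coprime_dvd_right (Nat.gcd_dvd_right _ _) hcop.symm)
  rw [hc.lcm_eq_mul, ← Nat.Coprime.gcd_mul o hcop.symm, mul_comm N P, Nat.gcd_eq_left h]

lemma singerOrd_dvd_qsum (q n : ℕ) : singerOrd q n ∣ qsum q n :=
  Nat.div_dvd_of_dvd (Nat.gcd_dvd_left _ _)

lemma coprime_pow_singerOrd (p q n J : ℕ) (hp : p.Prime) (hpq : p ∣ q) (hn : 0 < n) :
    Nat.Coprime (p ^ J) (singerOrd q n) :=
  ((coprime_prime_qsum p q n hp hpq hn).coprime_dvd_right (singerOrd_dvd_qsum q n)).pow_left J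

theorem exists_psl_pPower (p : ℕ) [Fact p.Prime] [CharP F p] (i : ℕ) (k : ℕ) (hk : k ≤ n)
    (hk0 : 0 < k) (hi : i = 0 ∨ p ^ (i - 1) < k) :
    ∃ A : Matrix.SpecialLinearGroup (Fin n) F,
      orderOf (QuotientGroup.mk A : L) = p ^ i ∧ (k < n → HasIdem A.val) := by
  classical
  obtain ⟨A, hA, hAc⟩ := exists_unipotent (F := F) p n k i hk hi
  have ho : orderOf A = p ^ i := by rw [← slOrderOf_val, hA]
  refine ⟨A, ?_, fun hkn => ?_⟩
  · rw [pslMk_orderOf_of_pPower p A i (by rw [← ho, pow_orderOf_eq_one]), ho]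
  · refine ⟨Matrix.diagonal (fun j : Fin n => if n ≤ j.val + k then 1 else 0), ?_, ?_, ?_, ?_⟩
    · rw [Matrix.diagonal_mul_diagonal]
      congr 1; funext j; split_ifs <;> simp
    · intro h
      have := congrFun (congrFun h ⟨n - 1, by omega⟩) ⟨n - 1, by omega⟩
      simp [show n ≤ n - 1 + k by omega] at this
    · intro h
      have := congrFun (congrFun h ⟨0, by omega⟩) ⟨0, by omega⟩
      simp at this
      omega
    · exact hAc _ (fun r s hr hs => by simp [hr, hs])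

lemma exists_psl_prime (r : ℕ) (hr : r.Prime) (hrq : r ∣ Fintype.card F - 1) (hrn : ¬ r ∣ n)
    (hn : 2 ≤ n) : ∃ t : L, orderOf t = r := by
  classical
  have hid : HasIdem (1 : Matrix.SpecialLinearGroup (Fin n) F).val := by
    refine ⟨Matrix.diagonal (fun j : Fin n => if j.val = 0 then 1 else 0), ?_, ?_, ?_, ?_⟩
    · rw [Matrix.diagonal_mul_diagonal]
      congr 1; funext j; split_ifs <;> simp
    · intro h
      have := congrFun (congrFun h ⟨0, by omega⟩) ⟨0, by omega⟩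
      simp at this
    · intro h
      have := congrFun (congrFun h ⟨1, by omega⟩) ⟨1, by omega⟩
      simp at this
    · exact Commute.one_left _
  obtain ⟨x, hx⟩ := psl_dec_extend 1 hid r hr hrq hrn
  exact ⟨x, by rw [hx]; simp⟩

/-- Each element is either extendable by `r`, or has order dividing `p^J * singerOrd`. -/
lemma extend_or_dvd (p : ℕ) [Fact p.Prime] [CharP F p] (r : ℕ) (hr : r.Prime)
    (hrq : r ∣ Fintype.card F - 1) (hrn : ¬ r ∣ n) (hn : 0 < n) (x : L) :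
    (∃ y : L, orderOf y = Nat.lcm (orderOf x) r) ∨
      orderOf x ∣ p ^ Nat.clog p n * singerOrd (Fintype.card F) n := by
  obtain ⟨A, rfl⟩ := QuotientGroup.mk_surjective x
  by_cases hA : HasIdem A.val
  · exact Or.inl (psl_dec_extend A hA r hr hrq hrn)
  · exact Or.inr (orderOf_dvd_of_not_hasIdem p A hn hA _
      (Nat.le_pow_clog (Fact.out : p.Prime).one_lt n))

theorem three_extend (p : ℕ) [Fact p.Prime] [CharP F p] (r : ℕ) (hr : r.Prime)
    (hrq : r ∣ Fintype.card F - 1) (hrn : ¬ r ∣ n) (hn : 2 ≤ n) (x y z : L) :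
    ∃ x' y' z' : L, Nat.lcm (orderOf x') (Nat.lcm (orderOf y') (orderOf z')) =
      Nat.lcm (Nat.lcm (orderOf x) (Nat.lcm (orderOf y) (orderOf z))) r := by
  have hp : p.Prime := Fact.out
  have hn0 : 0 < n := by omega
  rcases extend_or_dvd p r hr hrq hrn hn0 x with ⟨w, hw⟩ | hx
  · exact ⟨w, y, z, by rw [hw]; simp only [Nat.lcm_assoc, Nat.lcm_comm, lcm_left_comm_nat]⟩
  rcases extend_or_dvd p r hr hrq hrn hn0 y with ⟨w, hw⟩ | hy
  · exact ⟨x, w, z, by rw [hw]; simp only [Nat.lcm_assoc, Nat.lcm_comm, lcm_left_comm_nat]⟩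
  rcases extend_or_dvd p r hr hrq hrn hn0 z with ⟨w, hw⟩ | hz
  · exact ⟨x, y, w, by rw [hw]; simp only [Nat.lcm_assoc]⟩
  have hpq : p ∣ Fintype.card F := by
    obtain ⟨e, he⟩ := FiniteField.card F p
    rw [he.2]
    exact dvd_pow_self p e.pos.ne'
  set P := p ^ Nat.clog p n with hP
  set N := singerOrd (Fintype.card F) n with hN
  have hcop : Nat.Coprime P N := coprime_pow_singerOrd p _ n _ hp hpq hn0
  obtain ⟨a, ha⟩ := exists_orderOf_dvd_singerOrd (F := F) hn0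
    (Nat.lcm ((orderOf x).gcd N) (Nat.lcm ((orderOf y).gcd N) ((orderOf z).gcd N)))
    (Nat.lcm_dvd (Nat.gcd_dvd_right _ _) (Nat.lcm_dvd (Nat.gcd_dvd_right _ _) (Nat.gcd_dvd_right _ _)))
  obtain ⟨i, hi, hPi⟩ := (Nat.dvd_prime_pow hp).mp
    (show Nat.lcm ((orderOf x).gcd P) (Nat.lcm ((orderOf y).gcd P) ((orderOf z).gcd P)) ∣ P from
      Nat.lcm_dvd (Nat.gcd_dvd_right _ _) (Nat.lcm_dvd (Nat.gcd_dvd_right _ _) (Nat.gcd_dvd_right _ _)))
  obtain ⟨B, hB, -⟩ := exists_psl_pPower (F := F) p i n le_rfl (by omega) (by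
    rcases Nat.eq_zero_or_pos i with h | h
    · exact Or.inl h
    · exact Or.inr (Nat.pow_lt_of_lt_clog (by omega)))
  obtain ⟨t, ht⟩ := exists_psl_prime (F := F) r hr hrq hrn hn
  refine ⟨a, QuotientGroup.mk B, t, ?_⟩
  rw [ha, hB, ← hPi, ht]
  conv_rhs => rw [lcm_gcd_split hcop hx, lcm_gcd_split hcop hy, lcm_gcd_split hcop hz]
  simp only [Nat.lcm_assoc, Nat.lcm_comm, lcm_left_comm_nat]

theorem two_extend (p : ℕ) [Fact p.Prime] [CharP F p] (r : ℕ) (hr : r.Prime)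
    (hrq : r ∣ Fintype.card F - 1) (hrn : ¬ r ∣ n) (hn : 2 ≤ n) (hpow : ¬ ∃ j : ℕ, n - 1 = p ^ j)
    (x y : L) :
    ∃ x' y' : L, Nat.lcm (orderOf x') (orderOf y') =
      Nat.lcm (Nat.lcm (orderOf x) (orderOf y)) r := by
  have hp : p.Prime := Fact.out
  have hn0 : 0 < n := by omega
  rcases extend_or_dvd p r hr hrq hrn hn0 x with ⟨w, hw⟩ | hx
  · exact ⟨w, y, by rw [hw]; simp only [Nat.lcm_assoc, Nat.lcm_comm, lcm_left_comm_nat]⟩
  rcases extend_or_dvd p r hr hrq hrn hn0 y with ⟨w, hw⟩ | hy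
  · exact ⟨x, w, by rw [hw]; simp only [Nat.lcm_assoc]⟩
  have hpq : p ∣ Fintype.card F := by
    obtain ⟨e, he⟩ := FiniteField.card F p
    rw [he.2]
    exact dvd_pow_self p e.pos.ne'
  set P := p ^ Nat.clog p n with hP
  set N := singerOrd (Fintype.card F) n with hN
  have hcop : Nat.Coprime P N := coprime_pow_singerOrd p _ n _ hp hpq hn0
  obtain ⟨a, ha⟩ := exists_orderOf_dvd_singerOrd (F := F) hn0
    (Nat.lcm ((orderOf x).gcd N) ((orderOf y).gcd N))
    (Nat.lcm_dvd (Nat.gcd_dvd_right _ _) (Nat.gcd_dvd_right _ _))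
  obtain ⟨i, hi, hPi⟩ := (Nat.dvd_prime_pow hp).mp
    (show Nat.lcm ((orderOf x).gcd P) ((orderOf y).gcd P) ∣ P from
      Nat.lcm_dvd (Nat.gcd_dvd_right _ _) (Nat.gcd_dvd_right _ _))
  obtain ⟨B, hB, hBid⟩ := exists_psl_pPower (F := F) (n := n) p i (n - 1) (by omega) (by omega) (by
    rcases Nat.eq_zero_or_pos i with h | h
    · exact Or.inl h
    · have h1 := Nat.pow_lt_of_lt_clog (b := p) (x := n) (y := i - 1) (by omega)
      exact Or.inr (lt_of_le_of_ne (by omega) (fun h2 => hpow ⟨i - 1, h2.symm⟩)))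
  obtain ⟨u, hu⟩ := psl_dec_extend B (hBid (by omega)) r hr hrq hrn
  refine ⟨a, u, ?_⟩
  rw [ha, hu, hB, ← hPi]
  conv_rhs => rw [lcm_gcd_split hcop hx, lcm_gcd_split hcop hy]
  simp only [Nat.lcm_assoc, Nat.lcm_comm, lcm_left_comm_nat]

end H41
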