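import Mathlib

/-!
A non-scalar invertible matrix is similar to a product of a lower and an upper triangular matrix with
prescribed diagonals.
-/

set_option autoImplicit false

namespace H41

open Matrix

variable {K : Type*} [Field K] {n : ℕ}

/-- Border a matrix by a corner, a first row and a first column. -/
def border (a : K) (r c : Fin n → K) (M : Matrix (Fin n) (Fin n) K) : Matrix (Fin (n + 1)) (Fin (n + 1)) K :=
  Matrix.of (Fin.cons (Fin.cons a r) fun i => Fin.cons (c i) (M i))

section
variable (a : K) (r c : Fin n → K) (M : Matrix (Fin n) (Fin n) K) (i j : Fin n)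

@[simp] lemma border_zero_zero : border a r c M 0 0 = a := rfl
@[simp] lemma border_zero_succ : border a r c M 0 j.succ = r j := rfl
@[simp] lemma border_succ_zero : border a r c M i.succ 0 = c i := rfl
@[simp] lemma border_succ_succ : border a r c M i.succ j.succ = M i j := rfl

end

lemma eq_border (g : Matrix (Fin (n + 1)) (Fin (n + 1)) K) :
    g = border (g 0 0) (fun j => g 0 j.succ) (fun i => g i.succ 0) (g.submatrix Fin.succ Fin.succ) := by
  ext i j
  cases i using Fin.cases <;> cases j using Fin.cases <;> rfl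

lemma border_mul (a a' : K) (r r' c c' : Fin n → K) (M M' : Matrix (Fin n) (Fin n) K) :
    border a r c M * border a' r' c' M' =
      border (a * a' + r ⬝ᵥ c') (a • r' + r ᵥ* M') (a' • c + M *ᵥ c') (vecMulVec c r' + M * M') := by
  ext i j
  rw [Matrix.mul_apply, Fin.sum_univ_succ]
  cases i using Fin.cases <;> cases j using Fin.cases <;>
    simp [dotProduct, Matrix.vecMul, Matrix.mulVec, Matrix.mul_apply, Matrix.vecMulVec_apply, mul_comm]

lemma border_one : border (1 : K) 0 0 (1 : Matrix (Fin n) (Fin n) K) = 1 := by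
  ext i j
  cases i using Fin.cases <;> cases j using Fin.cases <;>
    simp [Matrix.one_apply, Fin.ext_iff]

lemma det_border_zero_col (a : K) (r : Fin n → K) (M : Matrix (Fin n) (Fin n) K) :
    (border a r 0 M).det = a * M.det := by
  rw [Matrix.det_succ_column_zero, Fin.sum_univ_succ]
  have hs : (border a r 0 M).submatrix Fin.succ Fin.succ = M := rfl
  simp [Fin.succAbove_zero, hs]

lemma det_border_zero_row (a : K) (c : Fin n → K) (M : Matrix (Fin n) (Fin n) K) :
    (border a 0 c M).det = a * M.det := by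
  rw [Matrix.det_succ_row_zero, Fin.sum_univ_succ]
  have hs : (border a 0 c M).submatrix Fin.succ Fin.succ = M := rfl
  simp [Fin.succAbove_zero, hs]

/-- Lower triangular with given diagonal. -/
def IsLowerWith (β : Fin n → K) (L : Matrix (Fin n) (Fin n) K) : Prop :=
  (∀ i j, i < j → L i j = 0) ∧ ∀ i, L i i = β i

/-- Upper triangular with given diagonal. -/
def IsUpperWith (γ : Fin n → K) (U : Matrix (Fin n) (Fin n) K) : Prop :=
  (∀ i j, j < i → U i j = 0) ∧ ∀ i, U i i = γ i

lemma isLowerWith_border {β : Fin (n + 1) → K} {c : Fin n → K} {L : Matrix (Fin n) (Fin n) K}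
    (h : IsLowerWith (fun i => β i.succ) L) : IsLowerWith β (border (β 0) 0 c L) := by
  constructor
  · intro i j hij
    cases i using Fin.cases with
    | zero =>
      cases j using Fin.cases with
      | zero => exact absurd hij (lt_irrefl _)
      | succ j => simp
    | succ i =>
      cases j using Fin.cases with
      | zero => exact absurd hij (Fin.not_lt_zero _)
      | succ j => simpa using h.1 i j (Fin.succ_lt_succ_iff.1 hij)
  · intro i
    cases i using Fin.cases with
    | zero => simp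
    | succ i => simpa using h.2 i

lemma isUpperWith_border {γ : Fin (n + 1) → K} {r : Fin n → K} {U : Matrix (Fin n) (Fin n) K}
    (h : IsUpperWith (fun i => γ i.succ) U) : IsUpperWith γ (border (γ 0) r 0 U) := by
  constructor
  · intro i j hij
    cases i using Fin.cases with
    | zero => exact absurd hij (Fin.not_lt_zero _)
    | succ i =>
      cases j using Fin.cases with
      | zero => simp
      | succ j => simpa using h.1 i j (Fin.succ_lt_succ_iff.1 hij)
  · intro i
    cases i using Fin.cases with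
    | zero => simp
    | succ i => simpa using h.2 i

/-- A non-scalar matrix maps some vector out of its line. -/
lemma exists_linearIndependent_apply {g : Matrix (Fin n) (Fin n) K} (hg : ∀ c : K, g ≠ c • 1) :
    ∃ v : Fin n → K, LinearIndependent K ![v, g *ᵥ v] := by
  by_contra h
  push Not at h
  have h1 : ∀ v : Fin n → K, v ≠ 0 → ∃ c : K, c • v = g *ᵥ v := by
    intro v hv
    by_contra hc
    push Not at hc
    exact h v (LinearIndependent.pair_iff' hv |>.2 hc)
  have hdiag : ∀ j, ∃ d : K, d • (Pi.single j 1 : Fin n → K) = g *ᵥ Pi.single j 1 :=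
    fun j => h1 _ (Pi.single_ne_zero_iff.2 one_ne_zero)
  choose d hd using hdiag
  have hent : ∀ i j, g i j = d j * (if i = j then 1 else 0) := by
    intro i j
    have := congrFun (hd j) i
    simp [Matrix.mulVec_single, Pi.single_apply] at this
    rw [← this]; split_ifs <;> simp
  have heq : ∀ i j, d i = d j := by
    intro i j
    by_cases hij : i = j
    · rw [hij]
    obtain ⟨c, hc⟩ := h1 (Pi.single i 1 + Pi.single j 1) (by
      intro h0
      have := congrFun h0 i
      simp [Ne.symm hij] at this)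
    rw [Matrix.mulVec_add, ← hd i, ← hd j] at hc
    have ei := congrFun hc i
    have ej := congrFun hc j
    simp [hij, Ne.symm hij] at ei ej
    rw [← ei, ← ej]
  rcases isEmpty_or_nonempty (Fin n) with he | ⟨⟨i₀⟩⟩
  · exact hg 0 (Matrix.ext fun i => he.elim i)
  · refine hg (d i₀) (Matrix.ext fun i j => ?_)
    rw [hent, heq j i₀, Matrix.smul_apply, Matrix.one_apply, smul_eq_mul]

/-- First reduction: the first column may be normalised. -/
lemma exists_conj_first_column {g : Matrix (Fin (n + 2)) (Fin (n + 2)) K} (hg : ∀ c : K, g ≠ c • 1) (b : K) :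
    ∃ P : Matrix (Fin (n + 2)) (Fin (n + 2)) K, IsUnit P.det ∧
      ∀ i, (P⁻¹ * g * P) i 0 = if i = 0 then b else if i = 1 then 1 else 0 := by
  classical
  obtain ⟨v, hv⟩ := exists_linearIndependent_apply hg
  have hw : LinearIndependent K ![v, g *ᵥ v - b • v] := by
    rw [LinearIndependent.pair_iff] at hv ⊢
    intro s t hst
    have := hv (s - t * b) t (by rw [← hst, sub_smul, smul_sub, mul_smul]; abel)
    obtain ⟨h1, rfl⟩ := this
    simpa using h1
  set w := g *ᵥ v - b • v with hwdef
  let B := Module.Basis.sumExtend hw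
  haveI : Fintype (Module.Basis.sumExtendIndex hw) :=
    @Fintype.sumRight (Fin 2) _ (FiniteDimensional.fintypeBasisIndex B)
  have hcard : Fintype.card (Module.Basis.sumExtendIndex hw) = n := by
    have := Module.finrank_eq_card_basis B
    rw [Module.finrank_fin_fun, Fintype.card_sum, Fintype.card_fin] at this
    omega
  let σ : Fin 2 ⊕ Module.Basis.sumExtendIndex hw ≃ Fin (n + 2) :=
    ((Equiv.sumCongr (Equiv.refl _) (Fintype.equivFinOfCardEq hcard)).trans finSumFinEquiv).trans
      (finCongr (Nat.add_comm 2 n))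
  let B' := B.reindex σ
  let P : Matrix (Fin (n + 2)) (Fin (n + 2)) K := Matrix.of fun i j => B' j i
  have h0 : B' 0 = v := by
    have : σ.symm 0 = Sum.inl 0 := by rw [Equiv.symm_apply_eq]; exact Fin.ext (by simp [σ])
    simp [B', this, B, Module.Basis.sumExtend]; rfl
  have h1 : B' 1 = w := by
    have : σ.symm 1 = Sum.inl 1 := by rw [Equiv.symm_apply_eq]; exact Fin.ext (by simp [σ])
    simp [B', this, B, Module.Basis.sumExtend]; rfl
  have hP : IsUnit P.det := by
    rw [← Matrix.isUnit_iff_isUnit_det, ← Matrix.linearIndependent_cols_iff_isUnit]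
    exact B'.linearIndependent
  refine ⟨P, hP, fun i => ?_⟩
  let u : Fin (n + 2) → K := fun i => if i = 0 then b else if i = 1 then 1 else 0
  have hu : P *ᵥ u = g *ᵥ v := by
    have hu' : u = b • Pi.single 0 1 + Pi.single 1 1 := by
      funext i
      by_cases hi : i = 0
      · simp [u, hi]
      · by_cases hi1 : i = 1 <;> simp [u, hi, hi1]
    rw [hu', Matrix.mulVec_add, Matrix.mulVec_smul, Matrix.mulVec_single_one, Matrix.mulVec_single_one]
    change b • B' 0 + B' 1 = _
    rw [h0, h1, hwdef]; abel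
  have hcol : (fun i => (P⁻¹ * g * P) i 0) = P⁻¹ *ᵥ (g *ᵥ v) := by
    funext i
    rw [Matrix.mulVec_mulVec, ← h0]
    rfl
  change (fun i => (P⁻¹ * g * P) i 0) i = u i
  rw [hcol, ← hu, Matrix.mulVec_mulVec, Matrix.nonsing_inv_mul _ hP, Matrix.one_mulVec]

/-- The Schur complement step: non-scalar complements can always be reached. -/
lemma exists_good_border {g : Matrix (Fin (n + 2)) (Fin (n + 2)) K} (hg : ∀ c : K, g ≠ c • 1) (hdet : g.det ≠ 0)
    (b : K) (hb : b ≠ 0) :
    ∃ P : Matrix (Fin (n + 2)) (Fin (n + 2)) K, IsUnit P.det ∧ ∃ r c M,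
      g * P = P * border b r c M ∧ (n = 0 ∨ ∀ μ : K, M - b⁻¹ • vecMulVec c r ≠ μ • 1) := by
  classical
  obtain ⟨P, hP, hcol⟩ := exists_conj_first_column hg b
  set h := P⁻¹ * g * P with hh
  have hgP : g * P = P * h := by
    rw [hh, Matrix.mul_assoc P⁻¹, ← Matrix.mul_assoc P, Matrix.mul_nonsing_inv _ hP, Matrix.one_mul]
  have hform : h = border b (fun j => h 0 j.succ) (fun i => h i.succ 0) (h.submatrix Fin.succ Fin.succ) := by
    conv_lhs => rw [eq_border h, hcol 0]
    simp
  set r := fun j : Fin (n + 1) => h 0 j.succ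
  set M := h.submatrix Fin.succ Fin.succ
  set c := fun i : Fin (n + 1) => h i.succ 0 with hc
  have hc0 : c = Pi.single 0 1 := by
    funext i
    rw [hc]
    dsimp only
    rw [hcol, if_neg (Fin.succ_ne_zero i)]
    cases i using Fin.cases with
    | zero => simp
    | succ i => rw [if_neg (show (i.succ.succ : Fin (n + 2)) ≠ 1 by simp [Fin.ext_iff]), Pi.single_eq_of_ne (Fin.succ_ne_zero i)]
  by_cases hgood : n = 0 ∨ ∀ μ : K, M - b⁻¹ • vecMulVec c r ≠ μ • 1
  · exact ⟨P, hP, r, c, M, by rw [hgP, ← hform], hgood⟩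
  push Not at hgood
  obtain ⟨hn, μ, hμ⟩ := hgood
  obtain ⟨m, rfl⟩ : ∃ m, n = m + 1 := ⟨n - 1, by omega⟩
  have hμ0 : μ ≠ 0 := by
    intro h0
    rw [h0, zero_smul] at hμ
    apply hdet
    have hfac : h = border 1 0 (b⁻¹ • c) (1 : Matrix _ _ K) * border b r 0 (M - b⁻¹ • vecMulVec c r) := by
      rw [border_mul, hform]
      congr 1
      · simp
      · simp
      · simp [smul_smul, hb]
      · rw [Matrix.one_mul, Matrix.smul_vecMulVec, add_sub_cancel]
    have hd : (g * P).det = (P * h).det := congrArg Matrix.det hgP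
    rw [Matrix.det_mul, Matrix.det_mul, hfac, Matrix.det_mul, det_border_zero_col, hμ,
      Matrix.det_zero] at hd
    simpa [hP.ne_zero] using hd
  let s : Fin (m + 1 + 1) → K := Pi.single 1 1
  let S := border (1 : K) s 0 (1 : Matrix (Fin (m + 1 + 1)) (Fin (m + 1 + 1)) K)
  have hS : IsUnit S.det := by rw [det_border_zero_col]; simp
  have hsc : s ⬝ᵥ c = 0 := by simp [s, hc0]
  let r₁ : Fin (m + 1 + 1) → K := b • s + r - s ᵥ* (vecMulVec c s + M)
  let M₁ := vecMulVec c s + M
  have key : h * S = S * border b r₁ c M₁ := by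
    conv_lhs => rw [hform]
    rw [border_mul, border_mul, hsc]
    congr 1
    · simp
    · rw [Matrix.vecMul_one, one_smul]
      simp only [r₁, M₁]
      abel
    · simp [Matrix.mulVec_zero, Matrix.one_mulVec]
    · simp [M₁]
  refine ⟨P * S, by rw [Matrix.det_mul]; exact hP.mul hS, r₁, c, M₁, ?_, Or.inr fun ν hν => ?_⟩
  · rw [← Matrix.mul_assoc, hgP, Matrix.mul_assoc, key, Matrix.mul_assoc]
  have hM : M = μ • 1 + b⁻¹ • vecMulVec c r := (sub_eq_iff_eq_add.1 hμ)
  have e := congrFun (congrFun hν 0) 1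
  simp [M₁, r₁, hM, hc0, s, Matrix.vecMulVec_apply, Matrix.vecMul, dotProduct, Matrix.one_apply,
    Pi.single_apply, mul_add, Finset.sum_add_distrib, Fin.ext_iff] at e
  have h2 : b⁻¹ * μ = 0 := by
    linear_combination e + (1 : K) * (mul_inv_cancel₀ hb)
  exact mul_ne_zero (inv_ne_zero hb) hμ0 h2

/-- **Triangular factorisation** with prescribed diagonals. -/
theorem exists_tri_factor : ∀ (n : ℕ) (g : Matrix (Fin n) (Fin n) K), (n ≤ 1 ∨ ∀ c : K, g ≠ c • 1) →
    ∀ β γ : Fin n → K, (∀ i, β i ≠ 0) → (∀ i, γ i ≠ 0) → (∏ i, β i) * (∏ i, γ i) = g.det →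
    ∃ P : Matrix (Fin n) (Fin n) K, IsUnit P.det ∧
      ∃ L U, IsLowerWith β L ∧ IsUpperWith γ U ∧ g * P = P * (L * U) := by
  intro n
  induction n with
  | zero =>
    intro g _ β γ _ _ _
    exact ⟨1, by simp, 1, 1, ⟨fun i => i.elim0, fun i => i.elim0⟩, ⟨fun i => i.elim0, fun i => i.elim0⟩,
      Subsingleton.elim _ _⟩
  | succ n ih =>
    intro g hg β γ hβ hγ hdet
    rcases n with _ | n
    · refine ⟨1, by simp, Matrix.diagonal β, Matrix.diagonal γ, ⟨fun i j h => ?_, fun i => by simp⟩,
        ⟨fun i j h => ?_, fun i => by simp⟩, ?_⟩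
      · exact absurd h (by rw [Subsingleton.elim (α := Fin 1) i j]; exact lt_irrefl _)
      · exact absurd h (by rw [Subsingleton.elim (α := Fin 1) i j]; exact lt_irrefl _)
      · ext i j
        obtain rfl := Subsingleton.elim (α := Fin 1) i 0
        obtain rfl := Subsingleton.elim (α := Fin 1) j 0
        simp [Matrix.det_fin_one] at hdet ⊢
        exact hdet.symm
    · have hg' := hg.resolve_left (by omega)
      have hdet0 : g.det ≠ 0 := by
        rw [← hdet]
        exact mul_ne_zero (Finset.prod_ne_zero_iff.2 fun i _ => hβ i) (Finset.prod_ne_zero_iff.2 fun i _ => hγ i)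
      set b := β 0 * γ 0 with hbdef
      have hb : b ≠ 0 := mul_ne_zero (hβ 0) (hγ 0)
      obtain ⟨P, hP, r, c, M, hgP, hM⟩ := exists_good_border hg' hdet0 b hb
      set N := M - b⁻¹ • vecMulVec c r with hN
      have hfac : border b r c M = border 1 0 (b⁻¹ • c) 1 * border b r 0 N := by
        rw [border_mul]
        congr 1
        · simp
        · simp
        · simp [smul_smul, hb]
        · rw [Matrix.one_mul, Matrix.smul_vecMulVec, hN, add_sub_cancel]
      have hdN : (∏ i : Fin (n + 1), β i.succ) * (∏ i : Fin (n + 1), γ i.succ) = N.det := by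
        have hd : (g * P).det = (P * border b r c M).det := congrArg Matrix.det hgP
        rw [Matrix.det_mul, Matrix.det_mul, hfac, Matrix.det_mul, det_border_zero_row, det_border_zero_col,
          Matrix.det_one, mul_one, one_mul, ← hdet, mul_comm P.det] at hd
        have hd' := mul_right_cancel₀ hP.ne_zero hd
        rw [Fin.prod_univ_succ, Fin.prod_univ_succ (f := γ), hbdef] at hd'
        refine mul_left_cancel₀ hb ?_
        rw [hbdef]
        linear_combination hd'
      obtain ⟨Q, hQ, L, U, hL, hU, hNQ⟩ :=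
        ih N (by rcases hM with h | h; exacts [Or.inl (by omega), Or.inr h]) _ _ (fun i => hβ i.succ) (fun i => hγ i.succ) hdN
      refine ⟨P * border 1 0 0 Q, ?_, border (β 0) 0 ((γ 0)⁻¹ • (Q⁻¹ *ᵥ c)) L,
        border (γ 0) ((β 0)⁻¹ • (r ᵥ* Q)) 0 U, isLowerWith_border hL, isUpperWith_border hU, ?_⟩
      · rw [Matrix.det_mul, det_border_zero_col, one_mul]
        exact hP.mul hQ
      · rw [← Matrix.mul_assoc, hgP, Matrix.mul_assoc, Matrix.mul_assoc]
        congr 1
        rw [border_mul, border_mul, border_mul]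
        congr 1
        · simp [hbdef]
        · simp [smul_smul, hβ 0]
        · simp [smul_smul, hγ 0, Matrix.mulVec_smul, Matrix.mulVec_mulVec, Matrix.mul_nonsing_inv _ hQ]
        · have hMQ : M * Q = N * Q + b⁻¹ • vecMulVec c r * Q := by
            rw [← Matrix.add_mul, hN, sub_add_cancel]
          have hcQ : Q *ᵥ (Q⁻¹ *ᵥ c) = c := by
            rw [Matrix.mulVec_mulVec, Matrix.mul_nonsing_inv _ hQ, Matrix.one_mulVec]
          simp only [Matrix.vecMulVec_zero, Matrix.zero_vecMulVec, zero_add, Matrix.mul_add, hMQ, hNQ,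
            Matrix.smul_vecMulVec, Matrix.vecMulVec_smul, Matrix.mul_smul, Matrix.mul_vecMulVec, hcQ,
            Matrix.smul_mul, Matrix.vecMulVec_mul, smul_smul, hbdef, mul_inv]
          exact add_comm _ _

end H41

namespace H41

open Matrix

variable {K : Type*} [Field K] {n : ℕ}

lemma det_eq_prod_of_isLowerWith {β : Fin n → K} {L : Matrix (Fin n) (Fin n) K} (h : IsLowerWith β L) :
    L.det = ∏ i, β i := by
  rw [Matrix.det_of_lowerTriangular L fun i j hij => h.1 i j hij]
  exact Finset.prod_congr rfl fun i _ => h.2 i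

lemma det_eq_prod_of_isUpperWith {γ : Fin n → K} {U : Matrix (Fin n) (Fin n) K} (h : IsUpperWith γ U) :
    U.det = ∏ i, γ i := by
  rw [Matrix.det_of_upperTriangular fun i j hij => h.1 i j hij]
  exact Finset.prod_congr rfl fun i _ => h.2 i

/-- A matrix with `n` distinct eigenvalues is similar to the diagonal matrix. -/
lemma exists_conj_diagonal {β : Fin n → K} (hβ : Function.Injective β) (M : Matrix (Fin n) (Fin n) K)
    (h : ∀ i, (M - β i • 1).det = 0) :
    ∃ P : Matrix (Fin n) (Fin n) K, IsUnit P.det ∧ M * P = P * Matrix.diagonal β := by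
  have hev : ∀ i, ∃ v : Fin n → K, v ≠ 0 ∧ M *ᵥ v = β i • v := by
    intro i
    obtain ⟨v, hv, hv'⟩ := Matrix.exists_mulVec_eq_zero_iff.2 (h i)
    refine ⟨v, hv, ?_⟩
    rwa [Matrix.sub_mulVec, Matrix.smul_mulVec, Matrix.one_mulVec, sub_eq_zero] at hv'
  choose v hv hMv using hev
  have hli : LinearIndependent K v :=
    Module.End.eigenvectors_linearIndependent' (Matrix.toLin' M) β hβ v fun i =>
      ⟨Module.End.mem_eigenspace_iff.2 (by rw [Matrix.toLin'_apply, hMv]), hv i⟩
  refine ⟨Matrix.of fun i j => v j i, ?_, ?_⟩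
  · rw [← Matrix.isUnit_iff_isUnit_det, ← Matrix.linearIndependent_cols_iff_isUnit]
    exact hli
  · ext i j
    rw [Matrix.mul_diagonal]
    have := congrFun (hMv j) i
    simpa [Matrix.mulVec, dotProduct, Matrix.mul_apply, mul_comm] using this

lemma conj_diagonal_of_isLowerWith {β : Fin n → K} (hβ : Function.Injective β) {L : Matrix (Fin n) (Fin n) K}
    (h : IsLowerWith β L) : ∃ P : Matrix (Fin n) (Fin n) K, IsUnit P.det ∧ L * P = P * Matrix.diagonal β := by
  refine exists_conj_diagonal hβ L fun i => ?_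
  have hL : IsLowerWith (fun j => β j - β i) (L - β i • 1) :=
    ⟨fun a b hab => by simp [h.1 a b hab, hab.ne], fun a => by simp [h.2 a]⟩
  rw [det_eq_prod_of_isLowerWith hL]
  exact Finset.prod_eq_zero (Finset.mem_univ i) (sub_self _)

lemma conj_diagonal_of_isUpperWith {β : Fin n → K} (hβ : Function.Injective β) {U : Matrix (Fin n) (Fin n) K}
    (h : IsUpperWith β U) : ∃ P : Matrix (Fin n) (Fin n) K, IsUnit P.det ∧ U * P = P * Matrix.diagonal β := by
  refine exists_conj_diagonal hβ U fun i => ?_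
  have hU : IsUpperWith (fun j => β j - β i) (U - β i • 1) :=
    ⟨fun a b hab => by simp [h.1 a b hab, hab.ne'], fun a => by simp [h.2 a]⟩
  rw [det_eq_prod_of_isUpperWith hU]
  exact Finset.prod_eq_zero (Finset.mem_univ i) (sub_self _)

/-- Similarity by an element of determinant one, given a diagonalisable target. -/
lemma exists_sl_conj_diagonal {β : Fin (n + 1) → K} {A : Matrix.SpecialLinearGroup (Fin (n + 1)) K}
    {D : Matrix.SpecialLinearGroup (Fin (n + 1)) K}
    (hD : (D : Matrix (Fin (n + 1)) (Fin (n + 1)) K) = Matrix.diagonal β)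
    {P : Matrix (Fin (n + 1)) (Fin (n + 1)) K} (hP : IsUnit P.det)
    (h : (A : Matrix (Fin (n + 1)) (Fin (n + 1)) K) * P = P * Matrix.diagonal β) :
    ∃ u : Matrix.SpecialLinearGroup (Fin (n + 1)) K, A = u * D * u⁻¹ := by
  classical
  let d : Fin (n + 1) → K := fun i => if i = 0 then P.det⁻¹ else 1
  let u : Matrix.SpecialLinearGroup (Fin (n + 1)) K :=
    ⟨P * Matrix.diagonal d, by
      rw [Matrix.det_mul, Matrix.det_diagonal]
      simp [d, Finset.prod_ite_eq', mul_inv_cancel₀ hP.ne_zero]⟩
  refine ⟨u, ?_⟩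
  rw [eq_mul_inv_iff_mul_eq]
  apply Subtype.ext
  rw [Matrix.SpecialLinearGroup.coe_mul, Matrix.SpecialLinearGroup.coe_mul, hD]
  change (A : Matrix _ _ K) * (P * Matrix.diagonal d) = P * Matrix.diagonal d * Matrix.diagonal β
  rw [← Matrix.mul_assoc, h, Matrix.mul_assoc, Matrix.mul_assoc, Matrix.diagonal_mul_diagonal,
    Matrix.diagonal_mul_diagonal]
  congr 2
  funext i
  exact mul_comm _ _

/-- Every non-scalar element of the special linear group is a product of two conjugates of a diagonal
element with distinct eigenvalues. -/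
theorem exists_two_conj_diagonal {β : Fin (n + 1) → K} (hβ : Function.Injective β) (hβ0 : ∀ i, β i ≠ 0)
    (D g : Matrix.SpecialLinearGroup (Fin (n + 1)) K)
    (hD : (D : Matrix (Fin (n + 1)) (Fin (n + 1)) K) = Matrix.diagonal β)
    (hg : ∀ c : K, (g : Matrix (Fin (n + 1)) (Fin (n + 1)) K) ≠ c • 1) :
    ∃ u v : Matrix.SpecialLinearGroup (Fin (n + 1)) K, g = u * D * u⁻¹ * (v * D * v⁻¹) := by
  have hprod : ∏ i, β i = 1 := by rw [← Matrix.det_diagonal, ← hD]; exact D.2
  obtain ⟨P, hP, L, U, hL, hU, hgP⟩ := exists_tri_factor (n + 1) (g : Matrix _ _ K) (Or.inr hg) β β hβ0 hβ0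
    (by rw [hprod, one_mul]; exact g.2.symm)
  obtain ⟨R, hR, hLR⟩ := conj_diagonal_of_isLowerWith hβ hL
  obtain ⟨S, hS, hUS⟩ := conj_diagonal_of_isUpperWith hβ hU
  let a : Matrix.SpecialLinearGroup (Fin (n + 1)) K :=
    ⟨P * L * P⁻¹, by rw [Matrix.det_conj ((Matrix.isUnit_iff_isUnit_det P).2 hP), det_eq_prod_of_isLowerWith hL, hprod]⟩
  let b : Matrix.SpecialLinearGroup (Fin (n + 1)) K :=
    ⟨P * U * P⁻¹, by rw [Matrix.det_conj ((Matrix.isUnit_iff_isUnit_det P).2 hP), det_eq_prod_of_isUpperWith hU, hprod]⟩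
  have hab : g = a * b := by
    apply Subtype.ext
    change (g : Matrix _ _ K) = P * L * P⁻¹ * (P * U * P⁻¹)
    rw [← Matrix.mul_assoc, ← Matrix.mul_assoc, Matrix.mul_assoc (P * L) P⁻¹, Matrix.nonsing_inv_mul _ hP,
      Matrix.mul_one, Matrix.mul_assoc P L U, ← hgP, Matrix.mul_assoc, Matrix.mul_nonsing_inv _ hP, Matrix.mul_one]
  obtain ⟨u, hu⟩ := exists_sl_conj_diagonal hD (A := a) (P := P * R) (by rw [Matrix.det_mul]; exact hP.mul hR)
    (by
      change P * L * P⁻¹ * (P * R) = _
      rw [← Matrix.mul_assoc, Matrix.mul_assoc (P * L) P⁻¹, Matrix.nonsing_inv_mul _ hP, Matrix.mul_one,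
        Matrix.mul_assoc, hLR, Matrix.mul_assoc])
  obtain ⟨v, hv⟩ := exists_sl_conj_diagonal hD (A := b) (P := P * S) (by rw [Matrix.det_mul]; exact hP.mul hS)
    (by
      change P * U * P⁻¹ * (P * S) = _
      rw [← Matrix.mul_assoc, Matrix.mul_assoc (P * U) P⁻¹, Matrix.nonsing_inv_mul _ hP, Matrix.mul_one,
        Matrix.mul_assoc, hUS, Matrix.mul_assoc])
  exact ⟨u, v, by rw [hab, hu, hv]⟩

end H41
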