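import Mathlib
import Cfsg.Agent.H41.TriFactor

/-!
In `SL_3(3)` every non-scalar element is a product of two conjugates of an element of order thirteen.
-/

set_option autoImplicit false
set_option linter.style.haveILetI false

namespace H41

/-- `3 × 3` matrices over the field with three elements, by entries. -/
structure T33 where
  a : ZMod 3
  b : ZMod 3
  c : ZMod 3
  d : ZMod 3
  e : ZMod 3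
  f : ZMod 3
  g : ZMod 3
  h : ZMod 3
  i : ZMod 3
deriving DecidableEq

namespace T33

def one : T33 := ⟨1, 0, 0, 0, 1, 0, 0, 0, 1⟩

def mul (x y : T33) : T33 :=
  ⟨x.a * y.a + x.b * y.d + x.c * y.g, x.a * y.b + x.b * y.e + x.c * y.h, x.a * y.c + x.b * y.f + x.c * y.i,
   x.d * y.a + x.e * y.d + x.f * y.g, x.d * y.b + x.e * y.e + x.f * y.h, x.d * y.c + x.e * y.f + x.f * y.i,
   x.g * y.a + x.h * y.d + x.i * y.g, x.g * y.b + x.h * y.e + x.i * y.h, x.g * y.c + x.h * y.f + x.i * y.i⟩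

/-- The matrix of a tuple. -/
def toM (x : T33) : Matrix (Fin 3) (Fin 3) (ZMod 3) := !![x.a, x.b, x.c; x.d, x.e, x.f; x.g, x.h, x.i]

lemma toM_mul (x y : T33) : toM (mul x y) = toM x * toM y := by
  ext i j
  fin_cases i <;> fin_cases j <;> simp [toM, mul, Matrix.mul_apply, Fin.sum_univ_three]

lemma toM_one : toM one = 1 := by decide

/-- Membership test for the class: characteristic polynomial `X³ + 2 X - 1` with first vector cyclic. -/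
def test (x : T33) : Bool :=
  decide (x.a + x.e + x.i = 0) &&
    decide (x.a * x.e - x.b * x.d + x.a * x.i - x.c * x.g + x.e * x.i - x.f * x.h = 2) &&
    decide (x.a * (x.e * x.i - x.f * x.h) - x.b * (x.d * x.i - x.f * x.g) + x.c * (x.d * x.h - x.e * x.g) = 1) &&
    decide (x.d * (x.g * x.a + x.h * x.d + x.i * x.g) - x.g * (x.d * x.a + x.e * x.d + x.f * x.g) ≠ 0)

/-- The product of a unit lower and a unit upper triangular matrix. -/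
def lu (l m n u v w : ZMod 3) : T33 := mul ⟨1, 0, 0, l, 1, 0, m, n, 1⟩ ⟨1, u, v, 0, 1, w, 0, 0, 1⟩

/-- Pairs of a class element and its inverse. -/
def witnesses : List (T33 × T33) :=
  [
   (⟨0, 0, 1, 1, 0, 1, 0, 1, 0⟩, ⟨2, 1, 0, 0, 0, 1, 1, 0, 0⟩),
   (⟨0, 0, 2, 1, 0, 0, 2, 2, 0⟩, ⟨0, 1, 0, 0, 2, 2, 2, 0, 0⟩),
   (⟨2, 1, 1, 1, 2, 0, 0, 1, 2⟩, ⟨1, 2, 1, 1, 1, 1, 1, 1, 0⟩),
   (⟨0, 1, 1, 2, 2, 2, 1, 0, 1⟩, ⟨2, 2, 0, 0, 2, 2, 1, 1, 1⟩),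
   (⟨0, 2, 0, 2, 1, 2, 0, 1, 2⟩, ⟨0, 2, 1, 2, 0, 0, 2, 0, 2⟩),
   (⟨0, 2, 2, 2, 2, 0, 1, 0, 1⟩, ⟨2, 1, 2, 1, 1, 1, 1, 2, 2⟩),
   (⟨1, 0, 1, 0, 0, 2, 1, 1, 2⟩, ⟨1, 1, 0, 2, 1, 1, 0, 2, 0⟩),
   (⟨0, 1, 0, 0, 0, 2, 2, 2, 0⟩, ⟨2, 0, 2, 1, 0, 0, 0, 2, 0⟩),
   (⟨2, 2, 0, 2, 2, 2, 1, 0, 2⟩, ⟨1, 2, 1, 1, 1, 2, 1, 2, 0⟩),
   (⟨2, 0, 1, 2, 1, 0, 0, 2, 0⟩, ⟨0, 2, 2, 0, 0, 2, 1, 2, 2⟩),
   (⟨2, 1, 0, 0, 1, 1, 1, 0, 0⟩, ⟨0, 0, 1, 1, 0, 1, 2, 1, 2⟩),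
   (⟨2, 0, 1, 1, 1, 0, 0, 1, 0⟩, ⟨0, 1, 2, 0, 0, 1, 1, 1, 2⟩),
   (⟨0, 1, 0, 0, 1, 2, 2, 0, 2⟩, ⟨2, 1, 2, 1, 0, 0, 1, 2, 0⟩),
   (⟨1, 2, 2, 0, 2, 2, 2, 1, 0⟩, ⟨1, 2, 0, 1, 2, 1, 2, 0, 2⟩),
   (⟨2, 1, 0, 0, 0, 2, 2, 0, 1⟩, ⟨0, 2, 2, 1, 2, 2, 0, 2, 0⟩),
   (⟨1, 0, 2, 2, 2, 1, 2, 2, 0⟩, ⟨1, 1, 2, 2, 2, 0, 0, 1, 2⟩),
   (⟨2, 2, 2, 2, 1, 1, 0, 2, 0⟩, ⟨1, 1, 0, 0, 0, 2, 1, 2, 1⟩),
   (⟨0, 1, 1, 0, 0, 1, 1, 0, 0⟩, ⟨0, 0, 1, 1, 2, 0, 0, 1, 0⟩),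
   (⟨1, 1, 0, 0, 0, 1, 1, 0, 2⟩, ⟨0, 1, 1, 1, 2, 2, 0, 1, 0⟩),
   (⟨2, 1, 0, 1, 1, 1, 2, 2, 0⟩, ⟨1, 0, 1, 2, 0, 1, 0, 1, 1⟩),
   (⟨0, 0, 1, 2, 2, 0, 0, 2, 1⟩, ⟨2, 2, 1, 1, 0, 2, 1, 0, 0⟩),
   (⟨2, 1, 1, 2, 0, 1, 0, 1, 1⟩, ⟨2, 0, 1, 1, 2, 0, 2, 1, 1⟩),
   (⟨0, 0, 2, 2, 0, 2, 1, 1, 0⟩, ⟨1, 2, 0, 2, 1, 1, 2, 0, 0⟩),
   (⟨1, 2, 1, 0, 0, 2, 2, 2, 2⟩, ⟨2, 1, 1, 1, 0, 1, 0, 2, 0⟩),
   (⟨0, 1, 2, 2, 1, 0, 2, 0, 2⟩, ⟨2, 1, 1, 2, 2, 1, 1, 2, 1⟩),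
   (⟨1, 1, 1, 2, 0, 2, 1, 0, 2⟩, ⟨0, 1, 2, 1, 1, 0, 0, 1, 1⟩),
   (⟨0, 0, 1, 2, 1, 0, 0, 2, 2⟩, ⟨2, 2, 2, 2, 0, 2, 1, 0, 0⟩),
   (⟨1, 1, 2, 2, 0, 0, 2, 2, 2⟩, ⟨0, 2, 0, 2, 1, 1, 1, 0, 1⟩),
   (⟨2, 2, 1, 1, 2, 2, 0, 1, 2⟩, ⟨2, 0, 2, 1, 1, 0, 1, 1, 2⟩),
   (⟨2, 1, 2, 2, 0, 0, 2, 0, 1⟩, ⟨0, 2, 0, 1, 1, 1, 0, 2, 1⟩),
   (⟨0, 2, 2, 1, 1, 0, 2, 0, 2⟩, ⟨2, 2, 1, 1, 2, 2, 1, 1, 1⟩),
   (⟨0, 1, 1, 1, 0, 0, 0, 1, 0⟩, ⟨0, 1, 0, 0, 0, 1, 1, 0, 2⟩),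
   (⟨0, 1, 1, 2, 2, 0, 1, 1, 1⟩, ⟨2, 0, 1, 1, 2, 2, 0, 1, 1⟩),
   (⟨1, 1, 0, 0, 2, 2, 2, 0, 0⟩, ⟨0, 0, 2, 1, 0, 1, 2, 2, 2⟩),
   (⟨0, 1, 0, 0, 2, 1, 1, 0, 1⟩, ⟨2, 2, 1, 1, 0, 0, 1, 1, 0⟩),
   (⟨0, 2, 0, 0, 1, 1, 2, 0, 2⟩, ⟨2, 2, 2, 2, 0, 0, 1, 1, 0⟩),
   (⟨0, 0, 1, 2, 0, 2, 0, 2, 0⟩, ⟨2, 2, 0, 0, 0, 2, 1, 0, 0⟩),
   (⟨0, 2, 0, 0, 1, 2, 1, 0, 2⟩, ⟨2, 2, 1, 2, 0, 0, 2, 2, 0⟩),
   (⟨0, 0, 1, 1, 0, 2, 2, 1, 0⟩, ⟨1, 1, 0, 1, 1, 1, 1, 0, 0⟩)]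

lemma witnesses_ok : ∀ w ∈ witnesses, test w.1 = true ∧ mul w.1 w.2 = one := by decide +kernel

lemma lu_cover : ∀ l m n u v w : ZMod 3, lu l m n u v w = one ∨
    witnesses.any (fun p => test (mul p.2 (lu l m n u v w))) = true := by decide +kernel

/-- The chosen element of order thirteen. -/
def base : Matrix (Fin 3) (Fin 3) (ZMod 3) := !![0, 0, 1; 1, 0, 1; 0, 1, 0]

lemma test_conj {x : T33} (h : test x = true) :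
    ∃ P : Matrix (Fin 3) (Fin 3) (ZMod 3), IsUnit P.det ∧ toM x * P = P * base := by
  obtain ⟨a, b, c, d, e, f, g, h', i⟩ := x
  simp only [test, Bool.and_eq_true, decide_eq_true_eq] at h
  obtain ⟨⟨⟨h1, h2⟩, h3⟩, h4⟩ := h
  refine ⟨!![1, a, a * a + b * d + c * g; 0, d, d * a + e * d + f * g; 0, g, g * a + h' * d + i * g], ?_, ?_⟩
  · rw [isUnit_iff_ne_zero, Matrix.det_fin_three]
    intro h0
    apply h4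
    simp at h0
    linear_combination h0
  · have e3 : (3 : ZMod 3) = 0 := rfl
    ext p q
    fin_cases p <;> fin_cases q <;> simp [toM, base, Matrix.mul_apply, Fin.sum_univ_three]
    · linear_combination (a * a + b * d + c * g) * h1 - a * h2 + h3 - a * e3
    · linear_combination (d * a + e * d + f * g) * h1 - d * h2 - d * e3
    · linear_combination (g * a + h' * d + i * g) * h1 - g * h2 - g * e3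

end T33

open Matrix in
/-- Every non-scalar element is a product of two conjugates of `base`. -/
theorem sl33_two_conj (D x : Matrix.SpecialLinearGroup (Fin 3) (ZMod 3))
    (hD : (D : Matrix (Fin 3) (Fin 3) (ZMod 3)) = T33.base)
    (hx : ∀ c : ZMod 3, (x : Matrix (Fin 3) (Fin 3) (ZMod 3)) ≠ c • 1) :
    ∃ u v : Matrix.SpecialLinearGroup (Fin 3) (ZMod 3), x = u * D * u⁻¹ * (v * D * v⁻¹) := by
  obtain ⟨P, hP, L, U, hL, hU, hxP⟩ := exists_tri_factor 3 (x : Matrix _ _ (ZMod 3)) (Or.inr hx) (fun _ => 1)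
    (fun _ => 1) (fun _ => one_ne_zero) (fun _ => one_ne_zero) (by rw [x.2]; simp)
  have hLU : L * U = T33.toM (T33.lu (L 1 0) (L 2 0) (L 2 1) (U 0 1) (U 0 2) (U 1 2)) := by
    rw [T33.lu, T33.toM_mul]
    congr 1
    · ext i j
      fin_cases i <;> fin_cases j <;> simp [T33.toM, hL.2] <;> exact hL.1 _ _ (by decide)
    · ext i j
      fin_cases i <;> fin_cases j <;> simp [T33.toM, hU.2] <;> exact hU.1 _ _ (by decide)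
  rcases T33.lu_cover (L 1 0) (L 2 0) (L 2 1) (U 0 1) (U 0 2) (U 1 2) with h | h
  · exfalso
    refine hx 1 ?_
    rw [h, T33.toM_one] at hLU
    rw [hLU, Matrix.mul_one] at hxP
    calc (x : Matrix _ _ (ZMod 3)) = (x : Matrix _ _ (ZMod 3)) * P * P⁻¹ := by
          rw [Matrix.mul_assoc, Matrix.mul_nonsing_inv _ hP, Matrix.mul_one]
      _ = _ := by rw [hxP, Matrix.mul_nonsing_inv _ hP, one_smul]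
  obtain ⟨p, hp, hp'⟩ := List.any_eq_true.1 h
  obtain ⟨hy, hyz⟩ := T33.witnesses_ok p hp
  obtain ⟨R, hR, hyR⟩ := T33.test_conj hy
  obtain ⟨S, hS, hzS⟩ := T33.test_conj hp'
  have hunit : ∀ Q : Matrix (Fin 3) (Fin 3) (ZMod 3), IsUnit Q.det →
      ∃ u : Matrix.SpecialLinearGroup (Fin 3) (ZMod 3), ∃ c : ZMod 3, c ≠ 0 ∧
        (u : Matrix (Fin 3) (Fin 3) (ZMod 3)) = c • Q := by
    intro Q hQ
    refine ⟨⟨Q.det • Q, ?_⟩, Q.det, hQ.ne_zero, rfl⟩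
    rw [Matrix.det_smul]
    have hd : ∀ d : ZMod 3, d ≠ 0 → d ^ Fintype.card (Fin 3) * d = 1 := by decide
    exact hd _ hQ.ne_zero
  have conj : ∀ A Q : Matrix (Fin 3) (Fin 3) (ZMod 3), IsUnit Q.det → A * Q = Q * T33.base →
      ∃ u : Matrix.SpecialLinearGroup (Fin 3) (ZMod 3),
        A = ((u * D * u⁻¹ : Matrix.SpecialLinearGroup (Fin 3) (ZMod 3)) : Matrix (Fin 3) (Fin 3) (ZMod 3)) := by
    intro A Q hQ hA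
    obtain ⟨u, c, hc, hu⟩ := hunit Q hQ
    refine ⟨u, ?_⟩
    have h1 : ((u * D * u⁻¹ : Matrix.SpecialLinearGroup (Fin 3) (ZMod 3)) : Matrix (Fin 3) (Fin 3) (ZMod 3)) * u
        = u * T33.base := by
      rw [← Matrix.SpecialLinearGroup.coe_mul, inv_mul_cancel_right, Matrix.SpecialLinearGroup.coe_mul, hD]
    have hu' : IsUnit (u : Matrix (Fin 3) (Fin 3) (ZMod 3)).det := by rw [u.2]; exact isUnit_one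
    have h2 : A * (u : Matrix (Fin 3) (Fin 3) (ZMod 3))
        = ((u * D * u⁻¹ : Matrix.SpecialLinearGroup (Fin 3) (ZMod 3)) : Matrix (Fin 3) (Fin 3) (ZMod 3)) * u := by
      rw [h1, hu, Matrix.mul_smul, hA, Matrix.smul_mul]
    have := congrArg (· * (u : Matrix (Fin 3) (Fin 3) (ZMod 3))⁻¹) h2
    simpa [Matrix.mul_assoc, Matrix.mul_nonsing_inv _ hu'] using this
  obtain ⟨u, hu⟩ := conj (P * T33.toM p.1 * P⁻¹) (P * R) (by rw [Matrix.det_mul]; exact hP.mul hR) (by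
    rw [← Matrix.mul_assoc, Matrix.mul_assoc (P * T33.toM p.1) P⁻¹, Matrix.nonsing_inv_mul _ hP, Matrix.mul_one,
      Matrix.mul_assoc, hyR, Matrix.mul_assoc])
  obtain ⟨v, hv⟩ := conj (P * T33.toM (T33.mul p.2 (T33.lu (L 1 0) (L 2 0) (L 2 1) (U 0 1) (U 0 2) (U 1 2))) * P⁻¹)
    (P * S) (by rw [Matrix.det_mul]; exact hP.mul hS) (by
    rw [← Matrix.mul_assoc, Matrix.mul_assoc (P * T33.toM _) P⁻¹, Matrix.nonsing_inv_mul _ hP, Matrix.mul_one,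
      Matrix.mul_assoc, hzS, Matrix.mul_assoc])
  refine ⟨u, v, ?_⟩
  apply Subtype.ext
  rw [Matrix.SpecialLinearGroup.coe_mul, ← hu, ← hv, T33.toM_mul, ← hLU]
  rw [← Matrix.mul_assoc (P * T33.toM p.1 * P⁻¹), ← Matrix.mul_assoc (P * T33.toM p.1 * P⁻¹) P,
    Matrix.mul_assoc (P * T33.toM p.1) P⁻¹, Matrix.nonsing_inv_mul _ hP, Matrix.mul_one,
    ← Matrix.mul_assoc, Matrix.mul_assoc P (T33.toM p.1), ← T33.toM_mul, hyz, T33.toM_one, Matrix.mul_one,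
    ← hxP, Matrix.mul_assoc, Matrix.mul_nonsing_inv _ hP, Matrix.mul_one]

end H41
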