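import Mathlib
import Cfsg.Agent.H41.SLBounds

/-! Numerical bounds on class numbers of `SL n q` and `PSL n q`. -/

set_option autoImplicit false

open Polynomial

namespace H41

variable {F : Type*} [Field F] [Fintype F]

local notation "q" => Fintype.card F
local notation "kSL" n => Nat.card (ConjClasses (Matrix.SpecialLinearGroup (Fin n) F))
local notation "kPSL" n => Nat.card (ConjClasses (Matrix.ProjectiveSpecialLinearGroup (Fin n) F))

lemma main_bound (k B : ℕ)
    (h : topCount F k + (q - 1) * lowCount F k ≤ (q - 1) * B) (a : F) (ha : a ≠ 0) :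
    zCount F (k + 1) 1 a ≤ B := by
  have hq : 0 < q - 1 := by have := Fintype.one_lt_card (α := F); omega
  refine Nat.le_of_mul_le_mul_left ((zCount_split k 1 one_pos a ha).trans (le_trans ?_ h)) hq
  rw [Nat.gcd_one_right, one_mul]
  exact Nat.add_le_add_left (Nat.mul_le_mul_left _ (lowDet_le_low k 1 a)) _

lemma bound_two (o e : ℕ) (ho : 0 < o) (he : 0 < e) (hd : o * e ∣ 2) (a : F) (ha : a ≠ 0) :
    zCount F (2 / (o * e)) e a ≤ if o * e = 1 then q + Nat.gcd (q - 1) 2 else e := by
  rcases (Nat.dvd_prime Nat.prime_two).mp hd with h | h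
  · rw [h, if_pos rfl, Nat.div_one]
    obtain ⟨rfl, rfl⟩ := mul_eq_one.mp h
    refine (zCount_two 1 one_pos a ha).trans ?_
    rw [Nat.gcd_one_right, one_mul, mul_one]
  · rw [h, if_neg (by omega)]
    exact (zCount_one e he a ha).trans (Nat.gcd_le_right _ he)

lemma bound_three (o e : ℕ) (ho : 0 < o) (he : 0 < e) (hd : o * e ∣ 3) (a : F) (ha : a ≠ 0) :
    zCount F (3 / (o * e)) e a ≤ if o * e = 1 then q ^ 2 + q - 1 + Nat.gcd (q - 1) 3 else e := by
  rcases (Nat.dvd_prime Nat.prime_three).mp hd with h | h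
  · rw [h, if_pos rfl, Nat.div_one]
    obtain ⟨rfl, rfl⟩ := mul_eq_one.mp h
    have hq : 1 < q := Fintype.one_lt_card
    refine Nat.le_of_mul_le_mul_left ((zCount_split 2 1 one_pos a ha).trans ?_) (by omega : 0 < q - 1)
    rw [Nat.gcd_one_right, one_mul, mul_add]
    refine Nat.add_le_add ?_ (Nat.mul_le_mul_left _ (by simpa using lowDet_three (F := F) 1 one_pos a ha))
    have h1 := top_add_low (F := F) 2
    have h2 := lowCount_three_ge (F := F)
    have h3 := (seqCount_small (F := F)).2.2.1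
    obtain ⟨t, ht⟩ : ∃ t, q = t + 2 := ⟨q - 2, by omega⟩
    rw [ht] at h2 h3 ⊢
    rw [show (t + 2) ^ 2 + (t + 2) - 1 = (t + 2) ^ 2 + (t + 1) by omega, show t + 2 - 1 = t + 1 by omega] at *
    have h2' : ((t : ℤ) + 1) ≤ (lowCount F 2 : ℤ) := by exact_mod_cast h2
    have h1' : (topCount F 2 : ℤ) + lowCount F 2 = seqCount F 3 3 := by exact_mod_cast h1
    rw [h3] at h1'
    push_cast at h1'
    zify
    nlinarith
  · rw [h, if_neg (by omega)]
    exact (zCount_one e he a ha).trans (Nat.gcd_le_right _ he)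

lemma bound_four (o e : ℕ) (ho : 0 < o) (he : 0 < e) (hd : o * e ∣ 4) (a : F) (ha : a ≠ 0) :
    zCount F (4 / (o * e)) e a ≤
      if o * e = 1 then q ^ 3 + 2 * q ^ 2 - 2 else if o * e = 2 then e * q + 2 * e else e := by
  have hmem : o * e ∈ Nat.divisors 4 := Nat.mem_divisors.mpr ⟨hd, by norm_num⟩
  have h4 : o * e = 1 ∨ o * e = 2 ∨ o * e = 4 := by
    have hle := Nat.le_of_dvd (by norm_num) hd
    interval_cases hoe : o * e <;> simp_all
  rcases h4 with h | h | h
  · rw [h, if_pos rfl, Nat.div_one]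
    obtain ⟨rfl, rfl⟩ := mul_eq_one.mp h
    refine main_bound 3 _ ?_ a ha
    have hq : 1 < q := Fintype.one_lt_card
    have h1 := top_add_low (F := F) 3
    have h2 := lowCount_four_le (F := F)
    have h3 := (seqCount_small (F := F)).2.2.2
    obtain ⟨t, ht⟩ : ∃ t, q = t + 2 := ⟨q - 2, by omega⟩
    rw [ht] at h2 h3 ⊢
    rw [show (t + 2) ^ 3 + 2 * (t + 2) ^ 2 - 2 = (t + 2) ^ 3 + 2 * (t + 2) ^ 2 - 2 from rfl, show t + 2 - 1 = t + 1 by omega] at *
    have hge : 2 ≤ (t + 2) ^ 3 + 2 * (t + 2) ^ 2 := by nlinarith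
    have h2' : (lowCount F 3 : ℤ) ≤ ((t : ℤ) + 1) * ((t : ℤ) + 2) + ((t : ℤ) + 1) := by exact_mod_cast h2
    have h1' : (topCount F 3 : ℤ) + lowCount F 3 = seqCount F 4 4 := by exact_mod_cast h1
    rw [h3] at h1'
    push_cast at h1'
    zify [hge]
    nlinarith
  · rw [h, if_neg (by omega), if_pos rfl]
    refine (zCount_two e he a ha).trans ?_
    have a1 : Nat.gcd (q - 1) e ≤ e := Nat.gcd_le_right _ he
    have a2 : Nat.gcd (q - 1) (2 * e) ≤ 2 * e := Nat.gcd_le_right _ (by omega)
    gcongr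
  · rw [h, if_neg (by omega), if_neg (by omega)]
    exact (zCount_one e he a ha).trans (Nat.gcd_le_right _ he)

/-- The bound for the main term when `n ≥ 5`. -/
noncomputable def mainTerm (F : Type*) [Fintype F] (n : ℕ) : ℕ :=
  (Fintype.card F ^ n + (Fintype.card F - 2) *
    (Fintype.card F ^ (n - 2) + 2 * Fintype.card F ^ (n / 2))) / (Fintype.card F - 1)

lemma bound_large (n : ℕ) (hn : 5 ≤ n) (o e : ℕ) (ho : 0 < o) (he : 0 < e) (_hd : o * e ∣ n) (a : F)
    (ha : a ≠ 0) :
    zCount F (n / (o * e)) e a ≤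
      if o * e = 1 then mainTerm F n else if o * e = 2 then q ^ (n / 2) else q ^ (n / 3) := by
  have hq : 1 < q := Fintype.one_lt_card
  by_cases h1 : o * e = 1
  · rw [h1, if_pos rfl, Nat.div_one]
    obtain ⟨rfl, rfl⟩ := mul_eq_one.mp h1
    obtain ⟨k, rfl⟩ : ∃ k, n = k + 1 := ⟨n - 1, by omega⟩
    rw [mainTerm, Nat.le_div_iff_mul_le (by omega : 0 < q - 1), mul_comm]
    refine (zCount_split k 1 one_pos a ha).trans ?_
    rw [Nat.gcd_one_right, one_mul]
    refine (Nat.add_le_add_left (Nat.mul_le_mul_left _ (lowDet_le_low k 1 a)) _).trans ?_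
    have hl := lowCount_general (F := F) k (by omega)
    have hs := seqCount_le_pow (F := F) (k + 1)
    have ht := top_add_low (F := F) k
    rw [show k + 1 - 2 = k - 1 by omega]
    obtain ⟨t, htq⟩ : ∃ t, q = t + 2 := ⟨q - 2, by omega⟩
    rw [htq] at hl hs ⊢
    rw [show t + 2 - 1 = t + 1 by omega, show t + 2 - 2 = t by omega]
    have hl' : lowCount F k ≤ (t + 2) ^ (k - 1) + 2 * (t + 2) ^ ((k + 1) / 2) := by exact_mod_cast hl
    have hl'' := Nat.mul_le_mul_left t hl'
    calc topCount F k + (t + 1) * lowCount F k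
        = (topCount F k + lowCount F k) + t * lowCount F k := by ring
      _ ≤ _ := by rw [ht]; exact Nat.add_le_add hs hl''
  · rw [if_neg h1]
    have hoe : 0 < o * e := Nat.mul_pos ho he
    split_ifs with h2
    · rw [h2]; exact zCount_le_pow _ _ _
    · refine (zCount_le_pow _ _ _).trans (Nat.pow_le_pow_right (by omega) ?_)
      exact Nat.div_le_div_left (by omega) (by omega)

lemma sum_ite_le (D : Finset ℕ) (c : ℕ) (X : ℕ) :
    ∑ e ∈ D, e.totient * (if e = c then X else 0) ≤ c.totient * X := by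
  simp only [mul_ite, mul_zero, Finset.sum_ite_eq']
  split_ifs <;> simp

lemma sl_sum_large (n d : ℕ) :
    ∑ e ∈ d.divisors, e.totient *
        (if 1 * e = 1 then mainTerm F n else if 1 * e = 2 then q ^ (n / 2) else q ^ (n / 3)) ≤
      mainTerm F n + q ^ (n / 2) + d * q ^ (n / 3) := by
  calc _ ≤ ∑ e ∈ d.divisors, e.totient * ((if e = 1 then mainTerm F n else 0) +
        (if e = 2 then q ^ (n / 2) else 0) + q ^ (n / 3)) := by
        refine Finset.sum_le_sum fun e _ => Nat.mul_le_mul_left _ ?_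
        rw [one_mul]; split_ifs <;> omega
    _ ≤ _ := by
        simp only [mul_add, Finset.sum_add_distrib]
        rw [← Finset.sum_mul, Nat.sum_totient]
        refine Nat.add_le_add_right (Nat.add_le_add ?_ ?_) _
        · exact (sum_ite_le d.divisors 1 _).trans (by simp)
        · exact (sum_ite_le d.divisors 2 _).trans (by simp [Nat.totient_two])

lemma psl_sum_large (n d : ℕ) :
    ∑ o ∈ d.divisors, o.totient * ∑ e ∈ d.divisors, e.totient *
        (if o * e ∣ n then
          (if o * e = 1 then mainTerm F n else if o * e = 2 then q ^ (n / 2) else q ^ (n / 3))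
          else 0) ≤
      mainTerm F n + 2 * q ^ (n / 2) + d * (d * q ^ (n / 3)) := by
  have inner : ∀ o, ∑ e ∈ d.divisors, e.totient * (if o * e ∣ n then
      (if o * e = 1 then mainTerm F n else if o * e = 2 then q ^ (n / 2) else q ^ (n / 3)) else 0) ≤
      (if o = 1 then mainTerm F n + q ^ (n / 2) else 0) + (if o = 2 then q ^ (n / 2) else 0) +
        d * q ^ (n / 3) := by
    intro o
    calc _ ≤ ∑ e ∈ d.divisors, e.totient * ((if e = 1 then (if o = 1 then mainTerm F n else 0) +
          (if o = 2 then q ^ (n / 2) else 0) else 0) +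
          (if e = 2 then (if o = 1 then q ^ (n / 2) else 0) else 0) + q ^ (n / 3)) := by
          refine Finset.sum_le_sum fun e _ => Nat.mul_le_mul_left _ ?_
          by_cases h1 : o * e = 1
          · obtain ⟨rfl, rfl⟩ := mul_eq_one.mp h1
            simp only [one_mul, one_dvd, if_true]
            omega
          by_cases h2 : o * e = 2
          · rcases (Nat.dvd_prime Nat.prime_two).mp (Dvd.intro_left o h2) with he | he
            · subst he
              rw [mul_one] at h2; subst h2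
              simp only [mul_one, if_true, if_false, OfNat.ofNat_ne_one]
              split_ifs <;> omega
            · subst he
              have : o = 1 := by omega
              subst this
              simp only [one_mul, if_true, if_false, OfNat.ofNat_ne_one]
              split_ifs <;> omega
          · rw [if_neg h1, if_neg h2]
            split_ifs <;> omega
      _ ≤ _ := by
          simp only [mul_add, Finset.sum_add_distrib]
          rw [← Finset.sum_mul, Nat.sum_totient]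
          refine Nat.add_le_add_right ?_ _
          refine (Nat.add_le_add (sum_ite_le _ 1 _) (sum_ite_le _ 2 _)).trans ?_
          simp only [Nat.totient_one, Nat.totient_two, one_mul]
          split_ifs <;> omega
  refine (Finset.sum_le_sum fun o _ => Nat.mul_le_mul_left _ (inner o)).trans ?_
  simp only [mul_add, Finset.sum_add_distrib]
  rw [← Finset.sum_mul, Nat.sum_totient]
  refine Nat.add_le_add_right ((Nat.add_le_add (sum_ite_le _ 1 _) (sum_ite_le _ 2 _)).trans ?_) _
  simp only [Nat.totient_one, Nat.totient_two]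
  omega

lemma numeric_large (n d : ℕ) (hn : 5 ≤ n) (hq : 3 ≤ q) (hd : d ≤ q - 1) :
    mainTerm F n + q ^ (n / 2) + d * q ^ (n / 3) ≤ q ^ (n - 1) + 3 * q ^ (n - 2) ∧
    mainTerm F n + 2 * q ^ (n / 2) + d * (d * q ^ (n / 3)) ≤ q ^ (n - 1) + 5 * q ^ (n - 2) := by
  obtain ⟨t, ht⟩ : ∃ t, q = t + 3 := ⟨q - 3, by omega⟩
  obtain ⟨j, rfl⟩ : ∃ j, n = j + 5 := ⟨n - 5, by omega⟩
  have hM : (q - 1) * mainTerm F (j + 5) ≤ q ^ (j + 5) + (q - 2) * (q ^ (j + 3) + 2 * q ^ ((j + 5) / 2)) :=
    Nat.mul_div_le _ _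
  have hh : q ^ ((j + 5) / 2) ≤ q ^ (j + 2) := Nat.pow_le_pow_right (by omega) (by omega)
  have htt : q ^ ((j + 5) / 3) ≤ q ^ (j + 1) := Nat.pow_le_pow_right (by omega) (by omega)
  rw [show j + 5 - 1 = j + 4 by omega, show j + 5 - 2 = j + 3 by omega]
  generalize mainTerm F (j + 5) = M at hM
  generalize q ^ ((j + 5) / 2) = H at hM hh
  generalize q ^ ((j + 5) / 3) = T at htt
  simp only [pow_add, ht] at *
  rw [show t + 3 - 1 = t + 2 by omega] at hM hd
  rw [show t + 3 - 2 = t + 1 by omega] at hM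
  obtain ⟨Q, hQ⟩ : ∃ Q, (t + 3) ^ j = Q := ⟨_, rfl⟩
  simp only [hQ] at *
  have hdT : d * T ≤ (t + 2) * (Q * (t + 3) ^ 1) := Nat.mul_le_mul hd htt
  have hdT2 : d * (d * T) ≤ (t + 2) * ((t + 2) * (Q * (t + 3) ^ 1)) := Nat.mul_le_mul hd hdT
  constructor
  · refine Nat.le_of_mul_le_mul_left ?_ (by omega : 0 < t + 2)
    have e1 := Nat.mul_le_mul_left (t + 2) hdT
    have e2 := Nat.mul_le_mul_left (3 * t + 4) hh
    nlinarith [Nat.zero_le (Q * t * t * t), Nat.zero_le (Q * t * t), Nat.zero_le (Q * t), Nat.zero_le Q]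
  · refine Nat.le_of_mul_le_mul_left ?_ (by omega : 0 < t + 2)
    have e1 := Nat.mul_le_mul_left (t + 2) hdT2
    have e2 := Nat.mul_le_mul_left (4 * t + 6) hh
    nlinarith [Nat.zero_le (Q * t * t * t), Nat.zero_le (Q * t * t), Nat.zero_le (Q * t), Nat.zero_le Q]

lemma sum_const_q_two (n : ℕ) (hq : q = 2) (hn : 2 ≤ n) :
    (kSL n) ≤ 2 ^ n ∧ Nat.gcd n (q - 1) * (kPSL n) ≤ 2 ^ n := by
  have hd : Nat.gcd n (q - 1) = 1 := by rw [hq]; exact Nat.gcd_one_right n
  have hB : ∀ o e, 0 < o → 0 < e → o * e ∣ n → ∀ a : F, a ≠ 0 → zCount F (n / (o * e)) e a ≤ 2 ^ n := by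
    intro o e ho he _ a _
    refine (zCount_le_pow _ _ _).trans ?_
    rw [hq]
    exact Nat.pow_le_pow_right two_pos (Nat.div_le_self _ _)
  constructor
  · refine (card_SL_classes_le (F := F) (by omega) (fun _ _ => 2 ^ n) hB).trans ?_
    rw [hd]; simp
  · refine (gcd_mul_card_PSL_classes_le (F := F) (by omega) (fun _ _ => 2 ^ n) hB).trans ?_
    rw [hd]; simp

theorem class_number_bounds (n : ℕ) (hn : 2 ≤ n) :
    2 * (kSL n) ≤ 5 * q ^ (n - 1) ∧
    (3 ≤ n → (kSL n) ≤ q ^ (n - 1) + 3 * q ^ (n - 2)) ∧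
    Nat.gcd n (q - 1) * (kPSL n) ≤ q ^ (n - 1) + 5 * q ^ (n - 2) := by
  have hq : 2 ≤ q := Fintype.one_lt_card
  have hdn : Nat.gcd n (q - 1) ∣ n := Nat.gcd_dvd_left _ _
  have hdq : Nat.gcd n (q - 1) ≤ q - 1 := Nat.gcd_le_right _ (by omega)
  have hderive : 3 ≤ n → (kSL n) ≤ q ^ (n - 1) + 3 * q ^ (n - 2) → 2 * (kSL n) ≤ 5 * q ^ (n - 1) := by
    intro h3 h
    obtain ⟨j, rfl⟩ : ∃ j, n = j + 3 := ⟨n - 3, by omega⟩
    rw [show j + 3 - 1 = j + 2 from rfl, show j + 3 - 2 = j + 1 from rfl] at *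
    rw [pow_succ' _ (j + 1)] at *
    have := Nat.mul_le_mul_right (q ^ (j + 1)) (show 6 ≤ 3 * q by omega)
    nlinarith
  rcases (show n = 2 ∨ n = 3 ∨ n = 4 ∨ 5 ≤ n by omega) with rfl | rfl | rfl | hn5
  · have h1 := card_SL_classes_le (F := F) (n := 2) (by omega) _ bound_two
    have h2 := gcd_mul_card_PSL_classes_le (F := F) (n := 2) (by omega) _ bound_two
    rcases (Nat.dvd_prime Nat.prime_two).mp hdn with hd | hd
    · rw [hd] at h1 h2 ⊢
      have hg : Nat.gcd (q - 1) 2 = 1 := by rw [Nat.gcd_comm]; exact hd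
      simp [hg] at h1 h2
      refine ⟨by simp; omega, fun h => absurd h (by omega), by simp; omega⟩
    · rw [hd] at h1 h2 hdq ⊢
      have hg : Nat.gcd (q - 1) 2 = 2 := by rw [Nat.gcd_comm]; exact hd
      simp [Nat.Prime.divisors Nat.prime_two, hg, Nat.totient_two] at h1 h2
      refine ⟨by simp; omega, fun h => absurd h (by omega), by simp; omega⟩
  · have h1 := card_SL_classes_le (F := F) (n := 3) (by omega) _ bound_three
    have h2 := gcd_mul_card_PSL_classes_le (F := F) (n := 3) (by omega) _ bound_three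
    have key : (kSL 3) ≤ q ^ 2 + 3 * q ∧ Nat.gcd 3 (q - 1) * (kPSL 3) ≤ q ^ 2 + 5 * q := by
      rcases (Nat.dvd_prime Nat.prime_three).mp hdn with hd | hd
      · rw [hd] at h1 h2 ⊢
        have hg : Nat.gcd (q - 1) 3 = 1 := by rw [Nat.gcd_comm]; exact hd
        simp [hg] at h1 h2
        exact ⟨by omega, by omega⟩
      · rw [hd] at h1 h2 hdq ⊢
        have hg : Nat.gcd (q - 1) 3 = 3 := by rw [Nat.gcd_comm]; exact hd
        simp [Nat.Prime.divisors Nat.prime_three, hg, Nat.totient_prime Nat.prime_three] at h1 h2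
        exact ⟨by omega, by omega⟩
    have h3 : (kSL 3) ≤ q ^ (3 - 1) + 3 * q ^ (3 - 2) := by simpa using key.1
    exact ⟨hderive le_rfl h3, fun _ => h3, by simpa using key.2⟩
  · have h1 := card_SL_classes_le (F := F) (n := 4) (by omega) _ bound_four
    have h2 := gcd_mul_card_PSL_classes_le (F := F) (n := 4) (by omega) _ bound_four
    have key : (kSL 4) ≤ q ^ 3 + 3 * q ^ 2 ∧ Nat.gcd 4 (q - 1) * (kPSL 4) ≤ q ^ 3 + 5 * q ^ 2 := by
      have hdle := Nat.le_of_dvd (by norm_num) hdn
      have hqq : q * 2 ≤ q ^ 2 := by rw [pow_two]; exact Nat.mul_le_mul_left q hq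
      interval_cases hd : Nat.gcd 4 (q - 1)
      · simp at hdn
      · simp at h1 h2
        exact ⟨by omega, by omega⟩
      · have h3 : q * 3 ≤ q ^ 2 := by rw [pow_two]; exact Nat.mul_le_mul_left q (by omega)
        simp [Nat.Prime.divisors Nat.prime_two, Nat.totient_two] at h1 h2
        exact ⟨by omega, by omega⟩
      · simp at hdn
      · have h5 : q * 5 ≤ q ^ 2 := by rw [pow_two]; exact Nat.mul_le_mul_left q (by omega)
        have hdiv : Nat.divisors 4 = {1, 2, 4} := by decide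
        have hphi : Nat.totient 4 = 2 := by decide
        simp [hdiv, hphi, Nat.totient_two] at h1 h2
        exact ⟨by omega, by omega⟩
    have h3 : (kSL 4) ≤ q ^ (4 - 1) + 3 * q ^ (4 - 2) := by simpa using key.1
    exact ⟨hderive (by omega) h3, fun _ => h3, by simpa using key.2⟩
  · by_cases hq2 : q = 2
    · obtain ⟨ha, hb⟩ := sum_const_q_two (F := F) n hq2 hn
      obtain ⟨j, rfl⟩ : ∃ j, n = j + 3 := ⟨n - 3, by omega⟩
      rw [hq2, show j + 3 - 1 = j + 2 from rfl, show j + 3 - 2 = j + 1 from rfl] at *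
      simp only [pow_succ] at *
      refine ⟨by omega, fun _ => by omega, by omega⟩
    · have hnum := numeric_large (F := F) n (Nat.gcd n (q - 1)) hn5 (by omega) hdq
      have h1 := (card_SL_classes_le (F := F) (by omega) _ (bound_large n hn5)).trans
        ((sl_sum_large n _).trans hnum.1)
      have h2 := (gcd_mul_card_PSL_classes_le (F := F) (by omega) _ (bound_large n hn5)).trans
        ((psl_sum_large n _).trans hnum.2)
      exact ⟨hderive (by omega) h1, fun _ => h1, h2⟩

end H41
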