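import Cfsg.Agent.H41.PSLOrd

/-!
Semisimple matrices over a finite field: prime divisors of the order and irreducible factors of the
minimal polynomial; lifting element orders from `PSL n q` to `SL n q`.
-/

set_option autoImplicit false

open Polynomial

namespace H41

lemma squarefree_dvd_of_factors {K : Type*} [Field K] {g h : K[X]} (hg0 : g ≠ 0) (hg : Squarefree g)
    (hall : ∀ q, Irreducible q → q ∣ g → q ∣ h) : g ∣ h := by
  induction g using WfDvdMonoid.induction_on_irreducible with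
  | zero => exact absurd rfl hg0
  | unit u hu => exact hu.dvd
  | mul a i ha hi ih =>
    have hcop : IsCoprime i a := hi.coprime_iff_not_dvd.2 fun ⟨c, hc⟩ =>
      hi.not_isUnit (hg i ⟨c, by rw [hc, mul_assoc]⟩)
    exact hcop.mul_dvd (hall i hi (dvd_mul_right i a))
      (ih ha (hg.squarefree_of_dvd (dvd_mul_left a i)) fun q hq hqa =>
        hall q hq (hqa.trans (dvd_mul_left a i)))

variable {n : ℕ} {F : Type*} [Field F] [Fintype F]

lemma root_pow_card_pow_sub_one {f : F[X]} [Fact (Irreducible f)] (h0 : AdjoinRoot.root f ≠ 0) :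
    AdjoinRoot.root f ^ (Fintype.card F ^ f.natDegree - 1) = 1 := by
  have hf : Irreducible f := Fact.out
  let pb := AdjoinRoot.powerBasis hf.ne_zero
  haveI : FiniteDimensional F (AdjoinRoot f) := pb.finite
  haveI : Finite (AdjoinRoot f) := Module.finite_of_finite F
  letI := Fintype.ofFinite (AdjoinRoot f)
  have h := FiniteField.pow_card_sub_one_eq_one (AdjoinRoot.root f) h0
  rwa [Module.card_eq_pow_finrank (K := F) (V := AdjoinRoot f), pb.finrank,
    AdjoinRoot.powerBasis_dim] at h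

lemma minpoly_squarefree_of_pow (A : Matrix (Fin n) (Fin n) F) {N : ℕ} (hN : (N : F) ≠ 0) (hA : A ^ N = 1) :
    Squarefree (minpoly F A) :=
  (X_pow_sub_one_separable_iff.2 hN).squarefree.squarefree_of_dvd (minpoly.dvd F A (by simp [hA]))

/-- A prime divisor of the order shows in an irreducible factor of the minimal polynomial. -/
theorem exists_factor_root_order (A : Matrix (Fin n) (Fin n) F) {N : ℕ} (hN : (N : F) ≠ 0) (hA : A ^ N = 1)
    {r : ℕ} (hr : r.Prime) (hrA : r ∣ orderOf A) :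
    ∃ f : F[X], Irreducible f ∧ f ∣ minpoly F A ∧ r ∣ orderOf (AdjoinRoot.root f) ∧
      orderOf (AdjoinRoot.root f) ∣ orderOf A ∧
      orderOf ((Fintype.card F : ℕ) : ZMod r) ∣ f.natDegree := by
  classical
  have hint : IsIntegral F A := Matrix.isIntegral A
  have hoN : orderOf A ∣ N := orderOf_dvd_of_pow_eq_one hA
  have hroot : ∀ f : F[X], Irreducible f → f ∣ minpoly F A →
      orderOf (AdjoinRoot.root f) ∣ orderOf A := fun f _ hf => by
    apply orderOf_dvd_of_pow_eq_one
    have h : minpoly F A ∣ X ^ orderOf A - 1 := minpoly.dvd F A (by simp [pow_orderOf_eq_one])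
    have h2 := AdjoinRoot.mk_eq_zero.2 (hf.trans h)
    rwa [map_sub, map_pow, AdjoinRoot.mk_X, map_one, sub_eq_zero] at h2
  obtain ⟨f, hf, hfd, hrf⟩ : ∃ f : F[X], Irreducible f ∧ f ∣ minpoly F A ∧
      r ∣ orderOf (AdjoinRoot.root f) := by
    by_contra hcon
    simp only [not_exists, not_and] at hcon
    have hd : minpoly F A ∣ X ^ (orderOf A / r) - 1 := by
      refine squarefree_dvd_of_factors (minpoly.ne_zero hint) (minpoly_squarefree_of_pow A hN hA)
        fun f hf hfd => ?_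
      rw [← AdjoinRoot.mk_eq_zero, map_sub, map_pow, AdjoinRoot.mk_X, map_one, sub_eq_zero,
        ← orderOf_dvd_iff_pow_eq_one]
      have hcop : Nat.Coprime (orderOf (AdjoinRoot.root f)) r :=
        (hr.coprime_iff_not_dvd.2 (hcon f hf hfd)).symm
      refine hcop.dvd_of_dvd_mul_right ?_
      rw [Nat.div_mul_cancel hrA]
      exact hroot f hf hfd
    have h1 := aeval_eq_zero_of_dvd_aeval_eq_zero hd (minpoly.aeval F A)
    simp only [map_sub, map_pow, aeval_X, map_one, sub_eq_zero] at h1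
    have h2 := orderOf_dvd_of_pow_eq_one h1
    have hN0 : N ≠ 0 := by rintro rfl; simp at hN
    have hpos : 0 < orderOf A := orderOf_pos_iff.2 (isOfFinOrder_iff_pow_eq_one.2 ⟨N, Nat.pos_of_ne_zero hN0, hA⟩)
    have h3 : 0 < orderOf A / r := Nat.div_pos (Nat.le_of_dvd hpos hrA) hr.pos
    have h4 := Nat.le_of_dvd h3 h2
    have h5 := Nat.div_lt_self hpos hr.one_lt
    omega
  refine ⟨f, hf, hfd, hrf, hroot f hf hfd, ?_⟩
  haveI := Fact.mk hf
  have h0 : AdjoinRoot.root f ≠ 0 := by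
    intro h
    rw [h, orderOf_zero] at hrf
    have h1 := hroot f hf hfd
    rw [h, orderOf_zero, zero_dvd_iff] at h1
    rw [h1, zero_dvd_iff] at hoN
    subst hoN
    simp at hN
  have h1 := hrf.trans (orderOf_dvd_of_pow_eq_one (root_pow_card_pow_sub_one h0))
  rw [← ZMod.natCast_eq_zero_iff, Nat.cast_sub (Nat.one_le_pow _ _ Fintype.card_pos), sub_eq_zero, Nat.cast_pow,
    Nat.cast_one] at h1
  exact orderOf_dvd_of_pow_eq_one h1

lemma natDegree_minpoly_le (A : Matrix (Fin n) (Fin n) F) : (minpoly F A).natDegree ≤ n := by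
  have := Polynomial.natDegree_le_of_dvd (Matrix.minpoly_dvd_charpoly A) (Matrix.charpoly_monic A).ne_zero
  rwa [Matrix.charpoly_natDegree_eq_dim, Fintype.card_fin] at this

/-- An element of order prime to `q - 1` lifts to an element of the same order. -/
theorem exists_lift_orderOf [Nonempty (Fin n)] (x : Matrix.ProjectiveSpecialLinearGroup (Fin n) F)
    (h : Nat.Coprime (orderOf x) (Fintype.card F - 1)) :
    ∃ A : Matrix.SpecialLinearGroup (Fin n) F,
      (QuotientGroup.mk A : Matrix.ProjectiveSpecialLinearGroup (Fin n) F) = x ∧ orderOf A.val = orderOf x := by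
  obtain ⟨A, rfl⟩ := QuotientGroup.mk_surjective x
  set x : Matrix.ProjectiveSpecialLinearGroup (Fin n) F := QuotientGroup.mk A
  have hx : 0 < orderOf x := orderOf_pos x
  rcases eq_or_lt_of_le (Nat.one_le_iff_ne_zero.2 hx.ne') with h1 | h1
  · refine ⟨1, ?_, ?_⟩
    · rw [orderOf_eq_one_iff.1 h1.symm]; rfl
    · rw [← h1]; simp
  obtain ⟨u, hu⟩ := Nat.exists_mul_mod_eq_one_of_coprime h.symm h1
  obtain ⟨c, hc⟩ := (pslMk_eq_one_iff (A ^ orderOf x)).1 (by rw [QuotientGroup.mk_pow]; exact pow_orderOf_eq_one x)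
  have hc0 : c ≠ 0 := by
    rintro rfl
    have := (A ^ orderOf x).prop
    rw [hc, map_zero] at this
    simp at this
  have hmk : (QuotientGroup.mk (A ^ ((Fintype.card F - 1) * u)) : Matrix.ProjectiveSpecialLinearGroup (Fin n) F) = x := by
    rw [QuotientGroup.mk_pow, ← pow_mod_orderOf, hu.2, pow_one]
  refine ⟨A ^ ((Fintype.card F - 1) * u), hmk, ?_⟩
  rw [slOrderOf_val]
  refine Nat.dvd_antisymm (orderOf_dvd_of_pow_eq_one ?_) ?_
  · rw [← pow_mul, mul_comm _ (orderOf x), pow_mul, pow_mul]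
    have h2 : (A ^ orderOf x) ^ (Fintype.card F - 1) = 1 := by
      apply Subtype.ext
      rw [Matrix.SpecialLinearGroup.coe_pow, hc, ← map_pow, FiniteField.pow_card_sub_one_eq_one c hc0, map_one]
      rfl
    rw [h2, one_pow]
  · nth_rw 1 [← hmk]
    exact orderOf_map_dvd (QuotientGroup.mk' _) _

lemma sl_det_eq_one (A : Matrix (Fin n) (Fin n) F) (hA : IsUnit A.det) {o : ℕ} (ho : A ^ o = 1)
    (h : Nat.Coprime o (Fintype.card F - 1)) : A.det = 1 := by
  have h1 : A.det ^ o = 1 := by rw [← Matrix.det_pow, ho, Matrix.det_one]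
  have h2 := FiniteField.pow_card_sub_one_eq_one A.det hA.ne_zero
  have := pow_gcd_eq_one.2 ⟨h1, h2⟩
  rwa [h.gcd_eq_one, pow_one] at this

/-- A matrix of order prime to `q - 1` gives an element of the same order. -/
theorem exists_psl_orderOf_of_coprime [Nonempty (Fin n)] (A : Matrix (Fin n) (Fin n) F) (hA : IsUnit A.det) {o : ℕ}
    (ho : orderOf A = o) (h : Nat.Coprime o (Fintype.card F - 1)) :
    ∃ x : Matrix.ProjectiveSpecialLinearGroup (Fin n) F, orderOf x = o := by
  obtain ⟨B, hB⟩ : ∃ B : Matrix.SpecialLinearGroup (Fin n) F, B.val = A :=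
    ⟨⟨A, sl_det_eq_one A hA (ho ▸ pow_orderOf_eq_one A) h⟩, rfl⟩
  refine ⟨QuotientGroup.mk B, Nat.dvd_antisymm ?_ ?_⟩
  · rw [← ho, ← hB, slOrderOf_val]
    exact orderOf_map_dvd (QuotientGroup.mk' _) _
  · obtain ⟨c, hc⟩ := (pslMk_eq_one_iff (B ^ orderOf (QuotientGroup.mk B : Matrix.ProjectiveSpecialLinearGroup (Fin n) F))).1
      (by rw [QuotientGroup.mk_pow]; exact pow_orderOf_eq_one _)
    rw [Matrix.SpecialLinearGroup.coe_pow, hB] at hc
    have hc0 : c ≠ 0 := by
      rintro rfl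
      rw [map_zero] at hc
      have := congrArg Matrix.det hc
      rw [Matrix.det_pow, Matrix.det_zero] at this
      exact pow_ne_zero _ hA.ne_zero this
    refine h.dvd_of_dvd_mul_right ?_
    rw [← ho]
    apply orderOf_dvd_of_pow_eq_one
    rw [pow_mul, hc, ← map_pow, FiniteField.pow_card_sub_one_eq_one c hc0, map_one]

omit [Fintype F] in
/-- Block sums have the least common multiple of the orders. -/
theorem exists_block_orderOf {a b : ℕ} (hab : a + b = n) (A : Matrix (Fin a) (Fin a) F)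
    (B : Matrix (Fin b) (Fin b) F) (hA : IsUnit A.det) (hB : IsUnit B.det) :
    ∃ C : Matrix (Fin n) (Fin n) F, IsUnit C.det ∧ orderOf C = Nat.lcm (orderOf A) (orderOf B) := by
  let e : Fin a ⊕ Fin b ≃ Fin n := finSumFinEquiv.trans (finCongr hab)
  let φ : Matrix (Fin a) (Fin a) F × Matrix (Fin b) (Fin b) F →* Matrix (Fin n) (Fin n) F :=
    { toFun := fun x => Matrix.reindexAlgEquiv F F e (Matrix.fromBlocks x.1 0 0 x.2)
      map_one' := by rw [Prod.fst_one, Prod.snd_one, Matrix.fromBlocks_one, map_one]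
      map_mul' := fun x y => by
        rw [← map_mul (Matrix.reindexAlgEquiv F F e), Matrix.fromBlocks_multiply]
        simp }
  have hφ : Function.Injective φ := by
    intro x y h
    have h1 := Matrix.fromBlocks_inj.1 ((Matrix.reindexAlgEquiv F F e).injective h)
    exact Prod.ext h1.1 h1.2.2.2
  refine ⟨φ (A, B), ?_, ?_⟩
  · exact (Matrix.isUnit_iff_isUnit_det _).1 (IsUnit.map φ (Prod.isUnit_iff.2
      ⟨(Matrix.isUnit_iff_isUnit_det _).2 hA, (Matrix.isUnit_iff_isUnit_det _).2 hB⟩))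
  · rw [orderOf_injective φ hφ, Prod.orderOf]

/-- The multiplicative order of `q` modulo a prime dividing `|PSL n q|`, other than `p`, is at most `n`. -/
theorem orderOf_le_of_dvd_psl (p : ℕ) [Fact p.Prime] [CharP F p] {r : ℕ} (hr : r.Prime) (hrp : r ≠ p)
    (h : r ∣ Nat.card (Matrix.ProjectiveSpecialLinearGroup (Fin n) F)) :
    orderOf ((Fintype.card F : ℕ) : ZMod r) ≤ n := by
  have h1 : r ∣ Nat.card (GL (Fin n) F) := (h.trans (Subgroup.card_quotient_dvd_card _)).trans
    (Subgroup.card_dvd_of_injective _ Matrix.SpecialLinearGroup.toGL_injective)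
  rw [Matrix.card_GL_field] at h1
  obtain ⟨i, -, hi⟩ := (Prime.dvd_finsetProd_iff hr.prime _).1 h1
  have hle : (i : ℕ) ≤ n := i.2.le
  rw [show Fintype.card F ^ n - Fintype.card F ^ (i : ℕ) = Fintype.card F ^ (i : ℕ) * (Fintype.card F ^ (n - i) - 1) by
    rw [Nat.mul_sub, ← pow_add, Nat.add_sub_cancel' hle, mul_one]] at hi
  rcases hr.dvd_mul.1 hi with h2 | h2
  · obtain ⟨j, hp, hj⟩ := FiniteField.card F p
    rw [hj] at h2
    exact absurd ((Nat.prime_dvd_prime_iff_eq hr hp).1 (hr.dvd_of_dvd_pow (hr.dvd_of_dvd_pow h2))) hrp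
  · rw [← ZMod.natCast_eq_zero_iff, Nat.cast_sub (Nat.one_le_pow _ _ Fintype.card_pos), sub_eq_zero, Nat.cast_pow,
      Nat.cast_one] at h2
    have h3 := Nat.le_of_dvd (Nat.sub_pos_of_lt i.2) (orderOf_dvd_of_pow_eq_one h2)
    omega

lemma not_dvd_card_sub_one_of_two_le {r : ℕ} (h : 2 ≤ orderOf ((Fintype.card F : ℕ) : ZMod r)) :
    ¬ r ∣ Fintype.card F - 1 := fun hd => by
  rw [← ZMod.natCast_eq_zero_iff, Nat.cast_sub Fintype.card_pos, sub_eq_zero, Nat.cast_one] at hd
  rw [hd, orderOf_one] at h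
  omega

lemma cast_ne_zero_of_prime (p : ℕ) [Fact p.Prime] [CharP F p] {r : ℕ} (hr : r.Prime) (hrp : r ≠ p) :
    (r : F) ≠ 0 := fun h =>
  hrp ((Nat.prime_dvd_prime_iff_eq Fact.out hr).1 ((CharP.cast_eq_zero_iff F p r).1 h)).symm

lemma dvd_card_pow_sub_one {r k : ℕ} (hk : k = orderOf ((Fintype.card F : ℕ) : ZMod r)) {m : ℕ} (hm : k ∣ m) :
    r ∣ Fintype.card F ^ m - 1 := by
  rw [← ZMod.natCast_eq_zero_iff, Nat.cast_sub (Nat.one_le_pow _ _ Fintype.card_pos), sub_eq_zero, Nat.cast_pow,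
    Nat.cast_one, ← orderOf_dvd_iff_pow_eq_one, ← hk]
  exact hm

end H41
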