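import Cfsg.Agent.H51.Jordan
import Cfsg.Agent.S2581

/-!
Orders of centralisers of unipotent elements of a given Jordan type in `GL (Fin n) F`.
-/

set_option autoImplicit false

namespace H41

variable {F : Type*} [Field F] {n t : ℕ} {d : Fin t → ℕ}

/-- Transport of the centraliser along a conjugation with a Jordan-type matrix. -/
lemma card_centralizer_of_jordanType (u : GL (Fin n) F) (e : ((k : Fin t) × Fin (d k)) ≃ Fin n)
    (h : IsConj (Matrix.reindex e e (Cfsg.jordanTypeMatrix d F)) (u : Matrix (Fin n) (Fin n) F)) :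
    Nat.card ↥(Subgroup.centralizer ({u} : Set (GL (Fin n) F))) =
      Nat.card {g : GL ((k : Fin t) × Fin (d k)) F //
        (g : Matrix ((k : Fin t) × Fin (d k)) ((k : Fin t) × Fin (d k)) F) * Cfsg.jordanTypeMatrix d F
          = Cfsg.jordanTypeMatrix d F * (g : Matrix ((k : Fin t) × Fin (d k)) ((k : Fin t) × Fin (d k)) F)} := by
  classical
  obtain ⟨c, hc⟩ := h
  let r := Matrix.reindexAlgEquiv F F e
  let φ : GL ((k : Fin t) × Fin (d k)) F ≃* GL (Fin n) F :=
    (Units.mapEquiv r.toMulEquiv).trans (MulAut.conj c)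
  refine (Nat.card_congr (Equiv.subtypeEquiv φ.toEquiv fun g => ?_)).symm
  change _ ↔ φ g ∈ Subgroup.centralizer ({u} : Set (GL (Fin n) F))
  rw [Subgroup.mem_centralizer_singleton_iff]
  have hval : ((φ g : GL (Fin n) F) : Matrix (Fin n) (Fin n) F)
      = (c : Matrix (Fin n) (Fin n) F) * r (g : Matrix _ _ F) * ((c⁻¹ : GL (Fin n) F) : Matrix (Fin n) (Fin n) F) := rfl
  have hu : (u : Matrix (Fin n) (Fin n) F)
      = (c : Matrix (Fin n) (Fin n) F) * r (Cfsg.jordanTypeMatrix d F) * ((c⁻¹ : GL (Fin n) F) : Matrix (Fin n) (Fin n) F) := by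
    rw [show (c : Matrix (Fin n) (Fin n) F) * r (Cfsg.jordanTypeMatrix d F) = (u : Matrix (Fin n) (Fin n) F) * c from hc,
      mul_assoc, Units.mul_inv, mul_one]
  have hcan : ∀ X Y : Matrix (Fin n) (Fin n) F,
      (c : Matrix (Fin n) (Fin n) F) * X * ((c⁻¹ : GL (Fin n) F) : Matrix (Fin n) (Fin n) F) *
        ((c : Matrix (Fin n) (Fin n) F) * Y * ((c⁻¹ : GL (Fin n) F) : Matrix (Fin n) (Fin n) F))
      = (c : Matrix (Fin n) (Fin n) F) * (X * Y) * ((c⁻¹ : GL (Fin n) F) : Matrix (Fin n) (Fin n) F) := by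
    intro X Y
    simp only [mul_assoc]
    rw [Units.inv_mul_cancel_left]
  rw [Units.ext_iff, Units.val_mul, Units.val_mul, hval, hu, hcan, hcan, Units.mul_left_inj, Units.mul_right_inj,
    ← map_mul, ← map_mul, r.injective.eq_iff]

lemma sum_type (e : ((k : Fin t) × Fin (d k)) ≃ Fin n) : ∑ k, d k = n := by
  simpa using Fintype.card_congr e

lemma sum_sub_one (hd : ∀ k, 1 ≤ d k) : (∑ k, (d k - 1)) + t = ∑ k, d k := by
  conv_lhs => arg 2; rw [show t = ∑ _k : Fin t, 1 by simp]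
  rw [← Finset.sum_add_distrib]
  exact Finset.sum_congr rfl fun k _ => by have := hd k; omega

lemma isNilpotent_sub_one_of_pow {A : Matrix (Fin n) (Fin n) F} {k : ℕ} (h : (A - 1) ^ k = 0) :
    IsNilpotent (A - 1) := ⟨k, h⟩

end H41
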